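import Mathlib

/-!
# Self-centralising Sylow 3-subgroups of order 9 with dihedral normaliser quotient

The configuration: `M` is a Sylow 3-subgroup of order 9, `C(M) = M`, centralisers of nontrivial
elements of `M` lie in `N(M)`, a group of order 72, and `s`, `w` are two involutions of `N(M)`
generating a dihedral group of order 8, `e` is fixed by `s`.
-/

set_option autoImplicit false

namespace Cfsg.Agent.H33.ExcThree

open Subgroup

/-- The configuration. -/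
structure Cfg (G : Type*) [Group G] where
  M : Subgroup G
  card_M : Nat.card M = 9
  index_M : ¬ 3 ∣ M.index
  cent : centralizer (M : Set G) = M
  ti : ∀ m ∈ M, m ≠ 1 → centralizer ({m} : Set G) ≤ normalizer (M : Set G)
  card_N : Nat.card (normalizer (M : Set G)) = 72
  s : G
  w : G
  e : G
  s_sq : s * s = 1
  w_sq : w * w = 1
  s_mem : s ∈ normalizer (M : Set G)
  w_mem : w ∈ normalizer (M : Set G)
  e_mem : e ∈ M
  e_ne : e ≠ 1
  se : s * e * s = e
  z_sq : s * w * s * w * (s * w * s * w) = 1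
  z_inv : ∀ m ∈ M, s * w * s * w * m * (s * w * s * w) = m⁻¹
  se2 : s * (w * e * w) * s = (w * e * w)⁻¹

variable {G : Type*} [Group G] (K : Cfg G)

/-- The central involution. -/
def Cfg.z : G := K.s * K.w * K.s * K.w

/-- The image of `e` under `w`. -/
def Cfg.e2 : G := K.w * K.e * K.w

/-- An element fixed by `w`. -/
def Cfg.g2 : G := K.e * K.e2

abbrev Cfg.N : Subgroup G := normalizer (K.M : Set G)

namespace Cfg

theorem z_z : K.z * K.z = 1 := K.z_sq

theorem zmz {m : G} (hm : m ∈ K.M) : K.z * m * K.z = m⁻¹ := K.z_inv m hm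

theorem M_le : K.M ≤ K.N := Subgroup.le_normalizer

theorem z_mem : K.z ∈ K.N :=
  mul_mem (mul_mem (mul_mem K.s_mem K.w_mem) K.s_mem) K.w_mem

theorem conj_mem {n m : G} (hn : n ∈ K.N) (hm : m ∈ K.M) : n * m * n⁻¹ ∈ K.M :=
  (Subgroup.mem_normalizer_iff.1 hn m).1 hm

theorem invol_conj_mem {n m : G} (hn : n ∈ K.N) (hn2 : n * n = 1) (hm : m ∈ K.M) :
    n * m * n ∈ K.M := by
  have := K.conj_mem hn hm
  rwa [inv_eq_of_mul_eq_one_right hn2] at this

theorem comm {a b : G} (ha : a ∈ K.M) (hb : b ∈ K.M) : a * b = b * a :=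
  (mem_centralizer_iff.1 (by rw [K.cent]; exact hb) a ha)

theorem e2_mem : K.e2 ∈ K.M := K.invol_conj_mem K.w_mem K.w_sq K.e_mem

theorem g2_mem : K.g2 ∈ K.M := mul_mem K.e_mem K.e2_mem

theorem s_e2 : K.s * K.e2 * K.s = K.e2⁻¹ := K.se2

theorem inv_s : K.s⁻¹ = K.s := inv_eq_of_mul_eq_one_right K.s_sq

theorem inv_w : K.w⁻¹ = K.w := inv_eq_of_mul_eq_one_right K.w_sq

theorem inv_z : K.z⁻¹ = K.z := inv_eq_of_mul_eq_one_right K.z_z

theorem z_eq : K.w * K.s * K.w * K.s = K.z := by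
  rw [← K.inv_z, Cfg.z, mul_inv_rev, mul_inv_rev, mul_inv_rev, K.inv_s, K.inv_w]
  group

theorem z_s : K.z * K.s = K.w * K.s * K.w := by
  rw [← K.z_eq, mul_assoc, mul_assoc, K.s_sq, mul_one]

theorem s_z : K.s * K.z = K.w * K.s * K.w := by
  show K.s * (K.s * K.w * K.s * K.w) = _
  simp only [← mul_assoc, K.s_sq, one_mul]

theorem w_z : K.w * K.z = K.z * K.w := by
  conv_lhs => rw [← K.z_eq]
  conv_rhs => rw [Cfg.z]
  simp only [← mul_assoc, K.w_sq, one_mul]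
  simp only [mul_assoc, K.w_sq, mul_one]

theorem w_e2 : K.w * K.e2 * K.w = K.e := by
  show K.w * (K.w * K.e * K.w) * K.w = K.e
  simp only [← mul_assoc, K.w_sq, one_mul]
  simp only [mul_assoc, K.w_sq, mul_one]

theorem w_g2 : K.w * K.g2 * K.w = K.g2 := by
  calc K.w * (K.e * K.e2) * K.w = (K.w * K.e * K.w) * (K.w * K.e2 * K.w) := by
        simp only [mul_assoc]; rw [← mul_assoc K.w K.w, K.w_sq, one_mul]
    _ = K.e2 * K.e := by rw [K.w_e2]; rfl
    _ = K.e * K.e2 := K.comm K.e2_mem K.e_mem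

theorem s_g2 : K.s * K.g2 * K.s = K.e * K.e2⁻¹ := by
  calc K.s * (K.e * K.e2) * K.s = (K.s * K.e * K.s) * (K.s * K.e2 * K.s) := by
        simp only [mul_assoc]; rw [← mul_assoc K.s K.s, K.s_sq, one_mul]
    _ = _ := by rw [K.se, K.s_e2]

theorem g2_ne : K.g2 ≠ 1 := by
  intro h
  have h2 : K.e2 = K.e⁻¹ := eq_inv_of_mul_eq_one_right h
  have h3 := K.s_e2
  rw [h2, ← K.inv_s] at h3
  have h4 : K.s⁻¹ * K.e⁻¹ * K.s⁻¹ = K.e⁻¹ := by
    have := congrArg (·⁻¹) K.se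
    simp only [mul_inv_rev, mul_assoc] at this ⊢
    exact this
  rw [h4, inv_inv] at h3
  have hsq : K.e * K.e = 1 := by
    nth_rewrite 2 [← h3]
    exact mul_inv_cancel _
  have h9 : K.e ^ 9 = 1 := by
    have : (⟨K.e, K.e_mem⟩ : K.M) ^ 9 = 1 := by rw [← K.card_M]; exact pow_card_eq_one'
    exact congrArg Subtype.val this
  apply K.e_ne
  rw [pow_succ, show 8 = 2 * 4 from rfl, pow_mul, pow_two, hsq, one_pow, one_mul] at h9
  exact h9

/-- The symmetric configuration with `s` and `w` exchanged. -/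
def symm : Cfg G where
  M := K.M
  card_M := K.card_M
  index_M := K.index_M
  cent := K.cent
  ti := K.ti
  card_N := K.card_N
  s := K.w
  w := K.s
  e := K.g2
  s_sq := K.w_sq
  w_sq := K.s_sq
  s_mem := K.w_mem
  w_mem := K.s_mem
  e_mem := K.g2_mem
  e_ne := K.g2_ne
  se := K.w_g2
  z_sq := by rw [K.z_eq]; exact K.z_z
  z_inv := fun m hm => by rw [K.z_eq]; exact K.zmz hm
  se2 := by
    rw [K.s_g2]
    calc K.w * (K.e * K.e2⁻¹) * K.w = (K.w * K.e * K.w) * (K.w * K.e2⁻¹ * K.w) := by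
          simp only [mul_assoc]; rw [← mul_assoc K.w K.w, K.w_sq, one_mul]
      _ = K.e2 * (K.w * K.e2 * K.w)⁻¹ := by
          rw [mul_inv_rev, mul_inv_rev, K.inv_w, mul_assoc K.w K.e2⁻¹]; rfl
      _ = (K.e * K.e2⁻¹)⁻¹ := by rw [K.w_e2, mul_inv_rev, inv_inv]

theorem symm_z : K.symm.z = K.z := K.z_eq

theorem symm_s : K.symm.s = K.w := rfl

theorem symm_w : K.symm.w = K.s := rfl

theorem symm_e : K.symm.e = K.g2 := rfl

theorem symm_M : K.symm.M = K.M := rfl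

section Finite

variable [Finite G]

theorem cube {m : G} (hm : m ∈ K.M) : m ^ 3 = 1 := by
  have h9 : m ^ 9 = 1 := by
    have : (⟨m, hm⟩ : K.M) ^ 9 = 1 := by rw [← K.card_M]; exact pow_card_eq_one'
    exact congrArg Subtype.val this
  by_contra h3
  -- otherwise `M` is cyclic, so `s` and `e2` commute
  have ho : orderOf m = 9 := by
    have : Fact (Nat.Prime 3) := ⟨Nat.prime_three⟩
    exact orderOf_eq_prime_pow (n := 1) (by simpa using h3) (by simpa using h9)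
  have hz : zpowers m = K.M :=
    Subgroup.eq_of_le_of_card_ge (zpowers_le.2 hm) (by rw [Nat.card_zpowers, ho, K.card_M])
  obtain ⟨i, hi⟩ := (show m ∈ zpowers m from mem_zpowers m)
  have hsm : K.s * m * K.s ∈ zpowers m := hz.symm ▸ K.invol_conj_mem K.s_mem K.s_sq hm
  obtain ⟨k, hk⟩ := hsm
  change m ^ k = K.s * m * K.s at hk
  have hact : ∀ j : ℤ, K.s * m ^ j * K.s = (m ^ k) ^ j := by
    intro j
    rw [hk]
    have : K.s * m ^ j * K.s = MulAut.conj K.s (m ^ j) := by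
      rw [MulAut.conj_apply, K.inv_s]
    rw [this, map_zpow, MulAut.conj_apply, K.inv_s]
  obtain ⟨a, ha⟩ := (hz.symm ▸ K.e_mem : K.e ∈ zpowers m)
  obtain ⟨b, hb⟩ := (hz.symm ▸ K.e2_mem : K.e2 ∈ zpowers m)
  change m ^ a = K.e at ha
  change m ^ b = K.e2 at hb
  have e1 : (m ^ k) ^ a = m ^ a := by rw [← hact, ha]; exact K.se
  have e2 : (m ^ k) ^ b = (m ^ b)⁻¹ := by rw [← hact, hb]; exact K.s_e2
  rw [← zpow_mul, zpow_eq_zpow_iff_modEq, ho] at e1
  rw [← zpow_mul, ← zpow_neg, zpow_eq_zpow_iff_modEq, ho] at e2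
  have d1 := e1.symm.dvd
  have d2 := e2.symm.dvd
  have h3p : Prime (3 : ℤ) := Int.prime_three
  have na : ¬ (9 : ℤ) ∣ a := fun h => K.e_ne (by
    rw [← ha, show m ^ a = 1 from orderOf_dvd_iff_zpow_eq_one.1 (by rw [ho]; exact h)])
  have nb : ¬ (9 : ℤ) ∣ b := fun h => K.e_ne (by
    have : K.e2 = 1 := by
      rw [← hb, show m ^ b = 1 from orderOf_dvd_iff_zpow_eq_one.1 (by rw [ho]; exact h)]
    have h' := K.w_e2
    rw [this, mul_one, K.w_sq] at h'
    exact h'.symm)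
  push_cast at d1 d2
  have d1' : (9 : ℤ) ∣ (k - 1) * a := by
    rw [show (k - 1) * a = k * a - a by ring]; exact d1
  have d2' : (9 : ℤ) ∣ (k + 1) * b := by
    rw [show (k + 1) * b = k * b - -b by ring]; exact d2
  have r1 : (3 : ℤ) ∣ k - 1 := by
    by_contra h
    exact na (h3p.pow_dvd_of_dvd_mul_left 2 h (by norm_num; exact d1'))
  have r2 : (3 : ℤ) ∣ k + 1 := by
    by_contra h
    exact nb (h3p.pow_dvd_of_dvd_mul_left 2 h (by norm_num; exact d2'))
  omega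

theorem inv_eq_sq {m : G} (hm : m ∈ K.M) : m⁻¹ = m * m := by
  refine inv_eq_of_mul_eq_one_right ?_
  rw [← mul_assoc, ← pow_two, ← pow_succ, K.cube hm]

theorem order_three {m : G} (hm : m ∈ K.M) (h1 : m ≠ 1) : orderOf m = 3 :=
  haveI : Fact (Nat.Prime 3) := ⟨Nat.prime_three⟩
  orderOf_eq_prime (K.cube hm) h1

theorem ne_inv {m : G} (hm : m ∈ K.M) (h1 : m ≠ 1) : m ≠ m⁻¹ := by
  intro h
  apply h1
  have h2 : m ^ 2 = 1 := by rw [pow_two]; nth_rewrite 2 [h]; exact mul_inv_cancel _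
  have := orderOf_dvd_of_pow_eq_one h2
  rw [K.order_three hm h1] at this
  omega

theorem e2_ne : K.e2 ≠ 1 := by
  intro h
  apply K.e_ne
  have h' := K.w_e2
  rw [h, mul_one, K.w_sq] at h'
  exact h'.symm

theorem e2_not_mem : K.e2 ∉ zpowers K.e := by
  rintro ⟨i, hi⟩
  change K.e ^ i = K.e2 at hi
  have h : K.s * K.e2 * K.s = K.e2 := by
    rw [← hi]
    have : K.s * K.e ^ i * K.s = MulAut.conj K.s (K.e ^ i) := by rw [MulAut.conj_apply, K.inv_s]
    rw [this, map_zpow, MulAut.conj_apply, K.inv_s, K.se]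
  exact K.ne_inv K.e2_mem K.e2_ne (h.symm.trans K.s_e2)

theorem z_ne : K.z ≠ 1 := fun h => by
  have := K.zmz K.e_mem
  rw [h, one_mul, mul_one] at this
  exact K.ne_inv K.e_mem K.e_ne this

theorem s_ne : K.s ≠ 1 := fun h => K.z_ne (by
  show K.s * K.w * K.s * K.w = 1
  rw [h, one_mul, mul_one, K.w_sq])

theorem w_ne : K.w ≠ 1 := K.symm.s_ne

theorem not_mem_of_invol {t : G} (h2 : t * t = 1) (h1 : t ≠ 1) : t ∉ K.M := fun h =>
  K.ne_inv h h1 (inv_eq_of_mul_eq_one_right h2).symm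

theorem eij_inj : Function.Injective fun p : Fin 3 × Fin 3 =>
    (⟨K.e ^ (p.1 : ℕ) * K.e2 ^ (p.2 : ℕ), mul_mem (pow_mem K.e_mem _) (pow_mem K.e2_mem _)⟩ : K.M) := by
  rintro ⟨i, j⟩ ⟨i', j'⟩ h
  have h' : K.e ^ (i : ℕ) * K.e2 ^ (j : ℕ) = K.e ^ (i' : ℕ) * K.e2 ^ (j' : ℕ) :=
    congrArg Subtype.val h
  have he : K.e ^ ((i' : ℤ) - i) = K.e2 ^ ((j : ℤ) - j') := by
    rw [zpow_sub, zpow_sub]
    simp only [zpow_natCast]
    have hc : K.e ^ (i' : ℕ) * (K.e ^ (i : ℕ))⁻¹ = (K.e ^ (i : ℕ))⁻¹ * K.e ^ (i' : ℕ) :=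
      K.comm (pow_mem K.e_mem _) (inv_mem (pow_mem K.e_mem _))
    rw [hc, inv_mul_eq_iff_eq_mul, ← mul_assoc, h', mul_inv_cancel_right]
  have hj : (j : ℤ) - j' = 0 := by
    by_contra hne
    apply K.e2_not_mem
    have hcop : IsCoprime ((j : ℤ) - j') 3 := by
      rw [isCoprime_comm, Int.prime_three.coprime_iff_not_dvd]
      have := j.2; have := j'.2
      omega
    obtain ⟨a, b, hab⟩ := hcop
    have h3 : K.e2 ^ (3 : ℤ) = 1 := by rw [zpow_ofNat]; exact K.cube K.e2_mem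
    have : K.e2 = (K.e2 ^ ((j : ℤ) - j')) ^ a := by
      conv_lhs => rw [← zpow_one K.e2, ← hab, zpow_add, mul_comm b 3, zpow_mul K.e2 3, h3,
        one_zpow, mul_one, mul_comm, zpow_mul]
    rw [this, ← he]
    exact zpow_mem (zpow_mem (mem_zpowers _) _) _
  rw [hj, zpow_zero, zpow_eq_one_iff_modEq, K.order_three K.e_mem K.e_ne] at he
  have := he.dvd
  have := i.2; have := i'.2; have := j.2; have := j'.2
  simp only [Prod.mk.injEq, Fin.ext_iff]
  omega

theorem exists_ij {m : G} (hm : m ∈ K.M) :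
    ∃ i j : Fin 3, m = K.e ^ (i : ℕ) * K.e2 ^ (j : ℕ) := by
  have hb := (Nat.bijective_iff_injective_and_card _).2 ⟨K.eij_inj, by
    rw [K.card_M, Nat.card_prod, Nat.card_fin]⟩
  obtain ⟨p, hp⟩ := hb.2 ⟨m, hm⟩
  exact ⟨p.1, p.2, (congrArg Subtype.val hp).symm⟩

/-- Elements of `M` fixed by `s` are powers of `e`. -/
theorem s_fix {m : G} (hm : m ∈ K.M) (h : K.s * m * K.s = m) : ∃ i : Fin 3, m = K.e ^ (i : ℕ) := by
  obtain ⟨i, j, rfl⟩ := K.exists_ij hm
  have hs : ∀ a b : G, K.s * (a * b) * K.s = (K.s * a * K.s) * (K.s * b * K.s) := fun a b => by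
    simp only [mul_assoc]; rw [← mul_assoc K.s K.s, K.s_sq, one_mul]
  have hp : ∀ (a : G) (n : ℕ), K.s * a ^ n * K.s = (K.s * a * K.s) ^ n := by
    intro a n
    have : K.s * a ^ n * K.s = MulAut.conj K.s (a ^ n) := by rw [MulAut.conj_apply, K.inv_s]
    rw [this, map_pow, MulAut.conj_apply, K.inv_s]
  rw [hs, hp, hp, K.se, K.s_e2, mul_right_inj, inv_pow] at h
  refine ⟨i, ?_⟩
  by_contra hne
  have h0 : K.e2 ^ (j : ℕ) ≠ 1 := fun e => hne (by rw [e, mul_one])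
  exact K.ne_inv (pow_mem K.e2_mem _) h0 h.symm

theorem three_mem {x : G} (hx : x ∈ K.N) (h3 : x ^ 3 = 1) : x ∈ K.M := by
  have hn : (K.M.subgroupOf K.N).Normal := Subgroup.normal_in_normalizer
  have hi : (K.M.subgroupOf K.N).index = 8 := by
    have h := (K.M.subgroupOf K.N).card_mul_index
    rw [Nat.card_congr (Subgroup.subgroupOfEquivOfLe K.M_le).toEquiv, K.card_M, K.card_N] at h
    omega
  have h8 := Subgroup.pow_index_mem (K.M.subgroupOf K.N) (⟨x, hx⟩ : K.N)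
  rw [hi, Subgroup.mem_subgroupOf] at h8
  change x ^ 8 ∈ K.M at h8
  have : x = (x ^ 8) ^ 2 := by
    rw [← pow_mul, show 8 * 2 = 3 * 5 + 1 from rfl, pow_succ, pow_mul, h3, one_pow, one_mul]
  rw [this]
  exact pow_mem h8 2

theorem cent_three_mem {m x : G} (hm : m ∈ K.M) (h1 : m ≠ 1) (hx : Commute x m) (h3 : x ^ 3 = 1) :
    x ∈ K.M :=
  K.three_mem (K.ti m hm h1 (mem_centralizer_singleton_iff.2 hx.eq)) h3

/-- Trivial intersection. -/
theorem mem_N_of_conj {g m : G} (hm : m ∈ K.M) (h1 : m ≠ 1) (hg : g * m * g⁻¹ ∈ K.M) : g ∈ K.N := by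
  have hsub : ∀ a ∈ K.M, g * a * g⁻¹ ∈ K.M := by
    intro a ha
    refine K.cent_three_mem hg (fun e => h1 (conj_eq_one_iff.1 e)) ?_ ?_
    · show g * a * g⁻¹ * (g * m * g⁻¹) = g * m * g⁻¹ * (g * a * g⁻¹)
      calc g * a * g⁻¹ * (g * m * g⁻¹) = g * (a * m) * g⁻¹ := by group
        _ = g * (m * a) * g⁻¹ := by rw [K.comm ha hm]
        _ = _ := by group
    · rw [conj_pow, K.cube ha, mul_one, mul_inv_cancel]
  rw [Cfg.N, Subgroup.mem_normalizer_iff]
  have he : K.M.map (MulAut.conj g).toMonoidHom = K.M := by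
    refine Subgroup.eq_of_le_of_card_ge ?_ (Subgroup.card_map_of_injective (MulAut.conj g).injective).ge
    rintro _ ⟨a, ha, rfl⟩
    exact hsub a ha
  intro h
  constructor
  · exact hsub h
  · intro hh
    rw [← he] at hh
    obtain ⟨a, ha, hae⟩ := hh
    exact (MulAut.conj g).injective hae ▸ ha

theorem e_ne_e2inv : K.e ≠ K.e2 ∧ K.e ≠ K.e2⁻¹ := by
  constructor <;> intro h <;> apply K.e2_not_mem
  · rw [← h]; exact mem_zpowers _
  · rw [h]
    simpa using inv_mem (mem_zpowers (K.e2⁻¹))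

/-- Coset representatives of the centraliser of `e` in `N`. -/
def rep : Fin 4 → G := ![1, K.z, K.w, K.z * K.w]

theorem rep_mem (i : Fin 4) : K.rep i ∈ K.N := by
  fin_cases i
  exacts [one_mem _, K.z_mem, K.w_mem, mul_mem K.z_mem K.w_mem]

theorem rep_e (i : Fin 4) : K.rep i * K.e * (K.rep i)⁻¹ = ![K.e, K.e⁻¹, K.e2, K.e2⁻¹] i := by
  fin_cases i <;> simp only [rep, Matrix.cons_val_zero, Matrix.cons_val_one, Matrix.cons_val,
    Fin.isValue, Fin.zero_eta, Fin.mk_one, Fin.reduceFinMk]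
  · group
  · rw [K.inv_z]; exact K.zmz K.e_mem
  · rw [K.inv_w]; rfl
  · rw [mul_inv_rev, K.inv_w, K.inv_z, show K.z * K.w * K.e * (K.w * K.z) = K.z * K.e2 * K.z by
      simp only [Cfg.e2, mul_assoc], K.zmz K.e2_mem]

theorem orbit_inj : Function.Injective ![K.e, K.e⁻¹, K.e2, K.e2⁻¹] := by
  have h1 := K.ne_inv K.e_mem K.e_ne
  have h2 := K.ne_inv K.e2_mem K.e2_ne
  obtain ⟨h3, h4⟩ := K.e_ne_e2inv
  have h5 : K.e⁻¹ ≠ K.e2 := fun h => h4 (by rw [← h, inv_inv])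
  have h6 : K.e⁻¹ ≠ K.e2⁻¹ := fun h => h3 (inv_injective h)
  intro i j h
  fin_cases i <;> fin_cases j <;> simp_all [eq_comm]

theorem cent_e_lower : Function.Injective fun p : K.M × Fin 2 => (p.1 : G) * K.s ^ (p.2 : ℕ) := by
  rintro ⟨a, i⟩ ⟨b, j⟩ h
  change (a : G) * K.s ^ (i : ℕ) = (b : G) * K.s ^ (j : ℕ) at h
  have hs := K.not_mem_of_invol K.s_sq K.s_ne
  have key : K.s ^ (i : ℕ) * (K.s ^ (j : ℕ))⁻¹ ∈ K.M := by
    have : K.s ^ (i : ℕ) * (K.s ^ (j : ℕ))⁻¹ = (a : G)⁻¹ * b := by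
      rw [eq_inv_mul_iff_mul_eq, ← mul_assoc, h, mul_inv_cancel_right]
    rw [this]
    exact mul_mem (inv_mem a.2) b.2
  have hij : i = j := by
    fin_cases i <;> fin_cases j <;> simp_all [K.inv_s]
  subst hij
  simpa using h

theorem cent_e_facts : Nat.card (centralizer ({K.e} : Set G)) = 18 ∧
    (∀ c, Commute c K.e → ∃ m ∈ K.M, c = m ∨ c = m * K.s) ∧
    ∀ n ∈ K.N, ∃ i, n * K.e * n⁻¹ = ![K.e, K.e⁻¹, K.e2, K.e2⁻¹] i := by
  set C := centralizer ({K.e} : Set G) with hC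
  have hCN : C ≤ K.N := K.ti _ K.e_mem K.e_ne
  let ψ : K.M × Fin 2 → C := fun p => ⟨(p.1 : G) * K.s ^ (p.2 : ℕ), by
    rw [hC, mem_centralizer_singleton_iff]
    refine (Commute.mul_left (K.comm p.1.2 K.e_mem) ?_).eq
    refine Commute.pow_left ?_ _
    show K.s * K.e = K.e * K.s
    have := K.se
    calc K.s * K.e = K.s * K.e * K.s * K.s := by rw [mul_assoc (K.s * K.e), K.s_sq, mul_one]
      _ = _ := by rw [K.se]⟩
  have hψ : Function.Injective ψ := fun p q h => K.cent_e_lower (congrArg Subtype.val h)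
  let χ : Fin 4 × C → K.N := fun p => ⟨K.rep p.1 * p.2, mul_mem (K.rep_mem _) (hCN p.2.2)⟩
  have hev : ∀ (p : Fin 4 × C), (χ p : G) * K.e * (χ p : G)⁻¹ = ![K.e, K.e⁻¹, K.e2, K.e2⁻¹] p.1 := by
    intro p
    rw [← K.rep_e]
    show K.rep p.1 * (p.2 : G) * K.e * (K.rep p.1 * (p.2 : G))⁻¹ = _
    rw [mul_inv_rev, mul_assoc (K.rep p.1), mem_centralizer_singleton_iff.1 p.2.2]
    group
  have hχ : Function.Injective χ := by
    intro p q h
    have h1 : p.1 = q.1 := K.orbit_inj (by rw [← hev, ← hev, h])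
    refine Prod.ext h1 (Subtype.ext ?_)
    have h2 : K.rep p.1 * (p.2 : G) = K.rep q.1 * (q.2 : G) := congrArg Subtype.val h
    rw [h1] at h2
    exact mul_left_cancel h2
  have l1 := Nat.card_le_card_of_injective ψ hψ
  have l2 := Nat.card_le_card_of_injective χ hχ
  rw [Nat.card_prod, K.card_M, Nat.card_fin] at l1
  rw [Nat.card_prod, Nat.card_fin, K.card_N] at l2
  have h18 : Nat.card C = 18 := by omega
  have bψ := (Nat.bijective_iff_injective_and_card ψ).2 ⟨hψ, by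
    rw [Nat.card_prod, K.card_M, Nat.card_fin, h18]⟩
  have bχ := (Nat.bijective_iff_injective_and_card χ).2 ⟨hχ, by
    rw [Nat.card_prod, Nat.card_fin, K.card_N, h18]⟩
  refine ⟨h18, fun c hc => ?_, fun n hn => ?_⟩
  · obtain ⟨⟨m, i⟩, hp⟩ := bψ.2 ⟨c, mem_centralizer_singleton_iff.2 hc.eq⟩
    refine ⟨m, m.2, ?_⟩
    have hp' : (m : G) * K.s ^ (i : ℕ) = c := congrArg Subtype.val hp
    fin_cases i
    · left; simpa using hp'.symm
    · right; simpa using hp'.symm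
  · obtain ⟨p, hp⟩ := bχ.2 ⟨n, hn⟩
    refine ⟨p.1, ?_⟩
    rw [← hev, hp]

theorem card_cent_e : Nat.card (centralizer ({K.e} : Set G)) = 18 := K.cent_e_facts.1

theorem cent_e {c : G} (hc : Commute c K.e) : ∃ m ∈ K.M, c = m ∨ c = m * K.s :=
  K.cent_e_facts.2.1 c hc

theorem s_comm_e : Commute K.s K.e := by
  show K.s * K.e = K.e * K.s
  calc K.s * K.e = K.s * K.e * K.s * K.s := by rw [mul_assoc (K.s * K.e), K.s_sq, mul_one]
    _ = _ := by rw [K.se]

theorem g2_not_conj : ¬ IsConj K.e K.g2 := by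
  intro h
  obtain ⟨g, hg⟩ := isConj_iff.1 h
  have hgN : g ∈ K.N := K.mem_N_of_conj K.e_mem K.e_ne (hg ▸ K.g2_mem)
  obtain ⟨i, hi⟩ := K.cent_e_facts.2.2 g hgN
  rw [hg] at hi
  have hne : ∀ (p q r t : Fin 3), (p, q) ≠ (r, t) →
      K.e ^ (p : ℕ) * K.e2 ^ (q : ℕ) ≠ K.e ^ (r : ℕ) * K.e2 ^ (t : ℕ) := fun p q r t h h' =>
    h (K.eij_inj (Subtype.ext h'))
  fin_cases i
  · exact hne 1 1 1 0 (by decide) (by simpa [Cfg.g2] using hi)
  · exact hne 1 1 2 0 (by decide) (by simpa [Cfg.g2, K.inv_eq_sq K.e_mem, pow_two] using hi)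
  · exact hne 1 1 0 1 (by decide) (by simpa [Cfg.g2] using hi)
  · exact hne 1 1 0 2 (by decide) (by simpa [Cfg.g2, K.inv_eq_sq K.e2_mem, pow_two] using hi)

/-- Every element of `M` is `x` or `x⁻¹` up to conjugacy for `x = e` or `x = g2`. -/
theorem conj_rep {m : G} (hm : m ∈ K.M) (h1 : m ≠ 1) : IsConj m K.e ∨ IsConj m K.g2 := by
  have hz : ∀ a ∈ K.M, IsConj a⁻¹ a := fun a ha => isConj_iff.2 ⟨K.z, by
    rw [K.inv_z, K.zmz (inv_mem ha), inv_inv]⟩
  have hee : IsConj K.e2 K.e := isConj_iff.2 ⟨K.w, by rw [K.inv_w]; exact K.w_e2⟩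
  have hd : IsConj (K.e * K.e2⁻¹) K.g2 := (isConj_iff.2 ⟨K.s, by rw [K.inv_s]; exact K.s_g2⟩).symm
  obtain ⟨i, j, rfl⟩ := K.exists_ij hm
  have qe : K.e ^ 2 = K.e⁻¹ := by rw [K.inv_eq_sq K.e_mem, pow_two]
  have qf : K.e2 ^ 2 = K.e2⁻¹ := by rw [K.inv_eq_sq K.e2_mem, pow_two]
  fin_cases i <;> fin_cases j <;> simp only [Fin.zero_eta, Fin.mk_one, Fin.reduceFinMk,
    Fin.isValue, Fin.val_zero, Fin.val_one, Fin.val_two, pow_zero, pow_one, one_mul, mul_one, qe,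
    qf] at h1 ⊢
  · exact absurd rfl h1
  · exact Or.inl hee
  · exact Or.inl ((hz _ K.e2_mem).trans hee)
  · exact Or.inl (IsConj.refl _)
  · exact Or.inr (IsConj.refl _)
  · exact Or.inr hd
  · exact Or.inl (hz _ K.e_mem)
  · right
    refine IsConj.trans ?_ hd
    rw [show K.e⁻¹ * K.e2 = (K.e * K.e2⁻¹)⁻¹ by
      rw [mul_inv_rev, inv_inv]; exact K.comm (inv_mem K.e_mem) K.e2_mem]
    exact hz _ (mul_mem K.e_mem (inv_mem K.e2_mem))
  · right
    rw [show K.e⁻¹ * K.e2⁻¹ = K.g2⁻¹ by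
      rw [Cfg.g2, mul_inv_rev]; exact K.comm (inv_mem K.e_mem) (inv_mem K.e2_mem)]
    exact hz _ K.g2_mem

theorem z_mul_conj {m : G} (hm : m ∈ K.M) : IsConj K.z (K.z * m) := by
  refine isConj_iff.2 ⟨(m * m)⁻¹, ?_⟩
  have h := K.zmz (mul_mem hm hm)
  have h' : (m * m)⁻¹ * K.z = K.z * (m * m) := by
    rw [← h, mul_assoc (K.z * (m * m)), K.z_z, mul_one]
  rw [inv_inv, h', mul_assoc]
  congr 1
  calc m * m * (m * m) = m ^ 3 * m := by rw [← pow_succ, pow_succ, pow_succ, pow_two]; group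
    _ = m := by rw [K.cube hm, one_mul]

theorem zs_conj : IsConj K.s (K.z * K.s) := isConj_iff.2 ⟨K.w, by rw [K.inv_w, K.z_s]⟩

/-- An involution centralising `e` is conjugate to `s`. -/
theorem invol_cent_e {t : G} (h2 : t * t = 1) (h1 : t ≠ 1) (hc : Commute t K.e) : IsConj K.s t := by
  obtain ⟨m, hm, rfl | rfl⟩ := K.cent_e hc
  · exact absurd hm (K.not_mem_of_invol h2 h1)
  refine isConj_iff.2 ⟨m * m, ?_⟩
  have hsm : K.s * m * K.s = m⁻¹ := by
    rw [eq_inv_iff_mul_eq_one, show K.s * m * K.s * m = K.s * ((m * K.s) * (m * K.s)) * K.s⁻¹ by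
      group, h2, mul_one, mul_inv_cancel]
  have hsm' : K.s * (m * m)⁻¹ * K.s = m * m := by
    rw [show K.s * (m * m)⁻¹ * K.s = ((K.s * m * K.s) * (K.s * m * K.s))⁻¹ by
      rw [mul_inv_rev, mul_inv_rev, mul_inv_rev, mul_inv_rev, K.inv_s]
      simp only [mul_assoc]; rw [← mul_assoc K.s K.s, K.s_sq, one_mul], hsm, mul_inv_rev, inv_inv]
  have h3 : K.s * (m * m)⁻¹ = m * m * K.s := by
    nth_rewrite 2 [← hsm']
    rw [mul_assoc (K.s * _), K.s_sq, mul_one]
  rw [mul_assoc (m * m), h3, ← mul_assoc]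
  congr 1
  calc m * m * (m * m) = m ^ 3 * m := by rw [← pow_succ, pow_succ, pow_succ, pow_two]; group
    _ = m := by rw [K.cube hm, one_mul]

theorem invol_cent_M {t m : G} (h2 : t * t = 1) (h1 : t ≠ 1) (hm : m ∈ K.M) (hm1 : m ≠ 1)
    (hc : Commute t m) : IsConj K.s t ∨ IsConj K.w t := by
  have key : ∀ (L : Cfg G), IsConj m L.e → IsConj L.s t := by
    intro L h
    obtain ⟨g, hg⟩ := isConj_iff.1 h
    have ht : IsConj t (g * t * g⁻¹) := isConj_iff.2 ⟨g, rfl⟩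
    refine (L.invol_cent_e ?_ ?_ ?_).trans ht.symm
    · rw [show g * t * g⁻¹ * (g * t * g⁻¹) = g * (t * t) * g⁻¹ by group, h2, mul_one, mul_inv_cancel]
    · exact fun e => h1 (conj_eq_one_iff.1 e)
    · rw [← hg]
      show g * t * g⁻¹ * (g * m * g⁻¹) = g * m * g⁻¹ * (g * t * g⁻¹)
      calc g * t * g⁻¹ * (g * m * g⁻¹) = g * (t * m) * g⁻¹ := by group
        _ = g * (m * t) * g⁻¹ := by rw [hc.eq]
        _ = _ := by group
  rcases K.conj_rep hm hm1 with h | h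
  · exact Or.inl (key K h)
  · exact Or.inr (key K.symm h)

include K in
/-- The centraliser of an involution has no subgroup of order nine. -/
theorem not_nine_dvd {t : G} (h2 : t * t = 1) (h1 : t ≠ 1) :
    ¬ 9 ∣ Nat.card (centralizer ({t} : Set G)) := by
  have : Fact (Nat.Prime 3) := ⟨Nat.prime_three⟩
  intro h
  obtain ⟨Q, hQ⟩ := Sylow.exists_subgroup_card_pow_prime 3 (n := 2) (show 3 ^ 2 ∣ _ by simpa using h)
  have hQ' : Nat.card (Q.map (centralizer ({t} : Set G)).subtype) = 3 ^ 2 := by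
    rw [Subgroup.card_map_of_injective (Subgroup.subtype_injective _), hQ]
  let S : Sylow 3 G := (IsPGroup.of_card (n := 2) (by rw [K.card_M]; rfl)).toSylow K.index_M
  have hS : (S : Subgroup G) = K.M := IsPGroup.toSylow_coe _ _
  obtain ⟨R, hR⟩ := (IsPGroup.of_card (n := 2) hQ').exists_le_sylow
  obtain ⟨g, rfl⟩ := MulAction.exists_smul_eq G S R
  rw [Sylow.coe_subgroup_smul, hS] at hR
  have hle : Subgroup.map (MulAut.conj g).toMonoidHom K.M =
      Q.map (centralizer ({t} : Set G)).subtype := by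
    refine (Subgroup.eq_of_le_of_card_ge hR ?_).symm
    exact ((Subgroup.card_map_of_injective (MulAut.conj g).injective).trans K.card_M).le.trans
      (by rw [hQ']; norm_num)
  have htc : g⁻¹ * t * g ∈ centralizer (K.M : Set G) := by
    rw [mem_centralizer_iff]
    intro m hm
    have hq : g * m * g⁻¹ ∈ Q.map (centralizer ({t} : Set G)).subtype :=
      hle ▸ ⟨m, hm, rfl⟩
    obtain ⟨q, -, hq'⟩ := hq
    have hc : g * m * g⁻¹ * t = t * (g * m * g⁻¹) := by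
      rw [← hq']
      exact mem_centralizer_singleton_iff.1 q.2
    calc m * (g⁻¹ * t * g) = g⁻¹ * (g * m * g⁻¹ * t) * g := by group
      _ = g⁻¹ * (t * (g * m * g⁻¹)) * g := by rw [hc]
      _ = _ := by group
  rw [K.cent] at htc
  refine K.not_mem_of_invol ?_ ?_ htc
  · rw [show g⁻¹ * t * g * (g⁻¹ * t * g) = g⁻¹ * (t * t) * g by group, h2, mul_one, inv_mul_cancel]
  · intro e
    apply h1
    rw [show t = g * (g⁻¹ * t * g) * g⁻¹ by group, e, mul_one, mul_inv_cancel]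

theorem three_not_dvd {t : G} (h2 : t * t = 1) (h1 : t ≠ 1) (hs : ¬ IsConj K.s t)
    (hw : ¬ IsConj K.w t) : ¬ 3 ∣ Nat.card (centralizer ({t} : Set G)) := by
  have : Fact (Nat.Prime 3) := ⟨Nat.prime_three⟩
  intro h
  obtain ⟨x, hx⟩ := exists_prime_orderOf_dvd_card' (G := centralizer ({t} : Set G)) 3 h
  let S : Sylow 3 G := (IsPGroup.of_card (n := 2) (by rw [K.card_M]; rfl)).toSylow K.index_M
  have hS : (S : Subgroup G) = K.M := IsPGroup.toSylow_coe _ _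
  have hxo : orderOf (x : G) = 3 := by rw [Subgroup.orderOf_coe, hx]
  obtain ⟨R, hR⟩ := (IsPGroup.of_card (n := 1) (by rw [Nat.card_zpowers, hxo]; rfl) :
    IsPGroup 3 (zpowers (x : G))).exists_le_sylow
  obtain ⟨g, rfl⟩ := MulAction.exists_smul_eq G S R
  rw [Sylow.coe_subgroup_smul, hS] at hR
  obtain ⟨m, hm, hmx⟩ := hR (mem_zpowers _)
  change g * m * g⁻¹ = (x : G) at hmx
  have hm1 : m ≠ 1 := fun e => by
    rw [e, mul_one, mul_inv_cancel] at hmx
    rw [← hmx, orderOf_one] at hxo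
    omega
  have ht' : IsConj t (g⁻¹ * t * g) := isConj_iff.2 ⟨g⁻¹, by group⟩
  rcases K.invol_cent_M (t := g⁻¹ * t * g)
    (by rw [show g⁻¹ * t * g * (g⁻¹ * t * g) = g⁻¹ * (t * t) * g by group, h2, mul_one,
      inv_mul_cancel])
    (fun e => h1 (by rw [show t = g * (g⁻¹ * t * g) * g⁻¹ by group, e, mul_one, mul_inv_cancel]))
    hm hm1 (by
      have hc : t * (g * m * g⁻¹) = g * m * g⁻¹ * t := by
        rw [hmx]; exact (mem_centralizer_singleton_iff.1 x.2).symm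
      show g⁻¹ * t * g * m = m * (g⁻¹ * t * g)
      calc g⁻¹ * t * g * m = g⁻¹ * (t * (g * m * g⁻¹)) * g := by group
        _ = g⁻¹ * (g * m * g⁻¹ * t) * g := by rw [hc]
        _ = _ := by group) with h' | h'
  · exact hs (h'.trans ht'.symm)
  · exact hw (h'.trans ht'.symm)

end Finite

end Cfg

end Cfsg.Agent.H33.ExcThree
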