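import Cfsg.Agent.H33.ExcThree.Basic

/-!
# Pairs of involutions with a given product in the exceptional configuration
-/

set_option autoImplicit false

namespace Cfsg.Agent.H33.ExcThree

open Subgroup

variable {G : Type*} [Group G] [Finite G] (K : Cfg G)

open scoped Classical in
/-- Indicator of conjugacy. -/
noncomputable def ind (t y : G) : ℕ := if IsConj t y then 1 else 0

/-- Number of ways of writing `x` as a product of conjugates of `y` and `y'`. -/
noncomputable def nPairs (x y y' : G) : ℕ :=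
  Nat.card {a : G // IsConj y a ∧ IsConj y' (a⁻¹ * x)}

omit [Finite G] in
theorem ind_of_isConj {t u y : G} (h : IsConj t u) : ind t y = ind u y := by
  classical
  unfold ind
  have : IsConj t y ↔ IsConj u y := ⟨fun h' => h.symm.trans h', fun h' => h.trans h'⟩
  simp only [this]

omit [Finite G] in
theorem sq_of_isConj {y a : G} (h : IsConj y a) (hy : y * y = 1) : a * a = 1 := by
  obtain ⟨g, rfl⟩ := isConj_iff.1 h
  rw [show g * y * g⁻¹ * (g * y * g⁻¹) = g * (y * y) * g⁻¹ by group, hy, mul_one, mul_inv_cancel]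

theorem ite_and_eq (P Q : Prop) [Decidable P] [Decidable Q] (n : ℕ) :
    n * (if P ∧ Q then 1 else 0) = n * (if P then 1 else 0) * (if Q then 1 else 0) := by
  split_ifs <;> simp_all

open scoped Classical in
omit [Finite G] in
/-- Counting a set covered by an injective family. -/
theorem card_eq_sum {ι : Type*} [Fintype ι] (P : G → Prop) (f : ι → G) (hf : Function.Injective f)
    (hcov : ∀ a, P a → ∃ i, f i = a) :
    Nat.card {a : G // P a} = ∑ i, if P (f i) then 1 else 0 := by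
  rw [← Finset.card_filter, ← Fintype.card_subtype, ← Nat.card_eq_fintype_card]
  refine (Nat.card_congr (Equiv.ofBijective
    (fun i : {i // P (f i)} => (⟨f i, i.2⟩ : {a // P a})) ⟨?_, ?_⟩)).symm
  · intro i j h
    exact Subtype.ext (hf (congrArg Subtype.val h))
  · rintro ⟨a, ha⟩
    obtain ⟨i, rfl⟩ := hcov a ha
    exact ⟨⟨i, ha⟩, rfl⟩

namespace Cfg

theorem s_conj_ms {m : G} (hm : m ∈ K.M) (h : K.s * m * K.s = m) :
    ∃ i : Fin 3, m = K.e ^ (i : ℕ) := K.s_fix hm h

omit [Finite G] in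
theorem s_pow_e (i : ℕ) : K.s * K.e ^ i * K.s = K.e ^ i := by
  induction i with
  | zero => simp [K.s_sq]
  | succ i ih =>
    calc K.s * K.e ^ (i + 1) * K.s = (K.s * K.e ^ i * K.s) * (K.s * K.e * K.s) := by
          rw [pow_succ]; simp only [mul_assoc]; rw [← mul_assoc K.s K.s, K.s_sq, one_mul]
      _ = _ := by rw [ih, K.se, pow_succ]

theorem zms_sq {m : G} (hm : m ∈ K.M) :
    K.z * (m * K.s) * (K.z * (m * K.s)) = 1 ↔ K.s * m * K.s = m := by
  have h : K.z * (m * K.s) * (K.z * (m * K.s)) = m⁻¹ * (K.s * m * K.s) := by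
    rw [← K.zmz hm]
    have hsz : K.s * K.z = K.z * K.s := K.s_z.trans K.z_s.symm
    calc K.z * (m * K.s) * (K.z * (m * K.s)) = K.z * m * (K.s * K.z) * m * K.s := by group
      _ = _ := by rw [hsz]; group
  rw [h, inv_mul_eq_one, eq_comm]

theorem inverter {a x : G} (ha : a * a = 1) (hb : a⁻¹ * x * (a⁻¹ * x) = 1)
    (hz : K.z * x * K.z = x⁻¹) : Commute (K.z * a) x := by
  have ha' : a⁻¹ = a := inv_eq_of_mul_eq_one_right ha
  rw [ha'] at hb
  have h1 : a * x * a = x⁻¹ := eq_inv_of_mul_eq_one_left (by rw [← hb]; group)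
  show K.z * a * x = x * (K.z * a)
  calc K.z * a * x = K.z * (a * x * a) * a := by
        simp only [mul_assoc, ha, mul_one]
    _ = K.z * x⁻¹ * (K.z * K.z) * a := by rw [h1, K.z_z, mul_one]
    _ = (K.z * x * K.z)⁻¹ * (K.z * a) := by rw [mul_inv_rev, mul_inv_rev, K.inv_z]; group
    _ = _ := by rw [hz, inv_inv]

open scoped Classical in
theorem nPairs_e {y y' : G} (hy : y * y = 1) (hy' : y' * y' = 1) :
    nPairs K.e y y' = 9 * ind K.z y * ind K.z y' + 3 * ind K.s y * ind K.s y' := by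
  cases nonempty_fintype G
  let f : K.M × Fin 2 → G := fun p => K.z * ((p.1 : G) * K.s ^ (p.2 : ℕ))
  have hf : Function.Injective f := fun p q h => K.cent_e_lower (mul_left_cancel h)
  have key : nPairs K.e y y' = _ := card_eq_sum _ f hf fun a ⟨h1, h2⟩ => by
    obtain ⟨m, hm, h | h⟩ := K.cent_e (K.inverter (sq_of_isConj h1 hy) (sq_of_isConj h2 hy')
      (K.zmz K.e_mem))
    · refine ⟨(⟨m, hm⟩, 0), ?_⟩
      show K.z * (m * K.s ^ 0) = a
      rw [pow_zero, mul_one, ← h, ← mul_assoc, K.z_z, one_mul]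
    · refine ⟨(⟨m, hm⟩, 1), ?_⟩
      show K.z * (m * K.s ^ 1) = a
      rw [pow_one, ← h, ← mul_assoc, K.z_z, one_mul]
  rw [key, Fintype.sum_prod_type]
  simp only [Fin.sum_univ_two, Finset.sum_add_distrib, f, Fin.val_zero, Fin.val_one, pow_zero,
    pow_one, mul_one]
  congr 1
  · have hA : ∀ m : K.M, (IsConj y (K.z * m) ∧ IsConj y' ((K.z * m)⁻¹ * K.e)) ↔
        (IsConj K.z y ∧ IsConj K.z y') := by
      intro m
      have h1 := K.z_mul_conj m.2
      have h2 : IsConj K.z ((K.z * m)⁻¹ * K.e) := by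
        have : (K.z * (m : G))⁻¹ = K.z * m := inv_eq_of_mul_eq_one_right (sq_of_isConj h1 K.z_z)
        rw [this, mul_assoc]
        exact K.z_mul_conj (mul_mem m.2 K.e_mem)
      exact ⟨fun h => ⟨h1.trans h.1.symm, h2.trans h.2.symm⟩,
        fun h => ⟨h.1.symm.trans h1, h.2.symm.trans h2⟩⟩
    simp only [hA]
    rw [Finset.sum_const, Finset.card_univ, ← Nat.card_eq_fintype_card, K.card_M, smul_eq_mul]
    unfold ind
    by_cases h1 : IsConj K.z y <;> by_cases h2 : IsConj K.z y' <;>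
      simp [h1, h2, -isConj_iff]
  · have hB : ∀ m : K.M, (IsConj y (K.z * (m * K.s)) ∧ IsConj y' ((K.z * (m * K.s))⁻¹ * K.e)) ↔
        (K.s * m * K.s = (m : G) ∧ IsConj K.s y ∧ IsConj K.s y') := by
      intro m
      have hh : K.s * m * K.s = (m : G) →
          IsConj K.s (K.z * (m * K.s)) ∧ IsConj K.s ((K.z * (m * K.s))⁻¹ * K.e) := by
        intro hsm
        have hk : ∀ n ∈ K.M, K.s * n * K.s = n → IsConj K.s (K.z * (n * K.s)) := by
          intro n hn hsn
          refine K.zs_conj.trans (isConj_iff.2 ⟨(n * n)⁻¹, ?_⟩)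
          have h' : (n * n)⁻¹ * K.z = K.z * (n * n) := by
            rw [← K.zmz (mul_mem hn hn), mul_assoc (K.z * (n * n)), K.z_z, mul_one]
          have hc : K.s * n = n * K.s := by
            nth_rewrite 2 [← hsn]
            rw [mul_assoc (K.s * n), K.s_sq, mul_one]
          have hc2 : K.s * (n * n) = n * n * K.s := by
            rw [← mul_assoc, hc, mul_assoc, hc, mul_assoc]
          rw [inv_inv, ← mul_assoc ((n * n)⁻¹), h', mul_assoc (K.z * (n * n)), hc2,
            show K.z * (n * n) * (n * n * K.s) = K.z * (n ^ 3 * n * K.s) by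
              rw [pow_succ, pow_two]; group, K.cube hn, one_mul]
        refine ⟨hk m m.2 hsm, ?_⟩
        have hinv : (K.z * ((m : G) * K.s))⁻¹ = K.z * (m * K.s) :=
          inv_eq_of_mul_eq_one_right ((K.zms_sq m.2).2 hsm)
        rw [hinv, mul_assoc, mul_assoc, K.s_comm_e.eq, ← mul_assoc (m : G)]
        refine hk _ (mul_mem m.2 K.e_mem) ?_
        calc K.s * ((m : G) * K.e) * K.s = (K.s * m * K.s) * (K.s * K.e * K.s) := by
              simp only [mul_assoc]; rw [← mul_assoc K.s K.s, K.s_sq, one_mul]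
          _ = _ := by rw [hsm, K.se]
      constructor
      · rintro ⟨h1, h2⟩
        have hsm := (K.zms_sq m.2).1 (sq_of_isConj h1 hy)
        exact ⟨hsm, (hh hsm).1.trans h1.symm, (hh hsm).2.trans h2.symm⟩
      · rintro ⟨hsm, h1, h2⟩
        exact ⟨h1.symm.trans (hh hsm).1, h2.symm.trans (hh hsm).2⟩
    simp only [hB]
    have hcount : ∑ m : K.M, (if K.s * m * K.s = (m : G) then 1 else 0) = 3 := by
      rw [← Finset.card_filter]
      let g : Fin 3 ↪ K.M := ⟨fun i => ⟨K.e ^ (i : ℕ), pow_mem K.e_mem _⟩, fun i j h => by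
        have h' : K.e ^ (i : ℕ) = K.e ^ (j : ℕ) := congrArg Subtype.val h
        have := K.eij_inj (a₁ := (i, 0)) (a₂ := (j, 0)) (Subtype.ext (by simpa using h'))
        exact (Prod.mk.injEq _ _ _ _ ▸ this).1⟩
      have : (Finset.univ.filter fun m : K.M => K.s * m * K.s = (m : G)) = Finset.univ.map g := by
        ext m
        simp only [Finset.mem_filter, Finset.mem_univ, true_and, Finset.mem_map]
        constructor
        · intro h
          obtain ⟨i, hi⟩ := K.s_fix m.2 h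
          exact ⟨i, Subtype.ext hi.symm⟩
        · rintro ⟨i, rfl⟩
          exact K.s_pow_e _
      rw [this, Finset.card_map, Finset.card_univ, Fintype.card_fin]
    unfold ind
    by_cases h1 : IsConj K.s y <;> by_cases h2 : IsConj K.s y' <;>
      simp [h1, h2, hcount, -isConj_iff, -Finset.sum_boole]

theorem es_pow_four : (K.e * K.s) ^ 4 = K.e := by
  rw [K.s_comm_e.symm.mul_pow, show (4 : ℕ) = 3 + 1 from rfl, pow_succ K.e, K.cube K.e_mem, one_mul,
    show 3 + 1 = 2 * 2 from rfl, pow_mul K.s, pow_two K.s, K.s_sq, one_pow, mul_one]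

theorem cent_es {c : G} (hc : Commute c (K.e * K.s)) :
    ∃ i : Fin 3, c = K.e ^ (i : ℕ) ∨ c = K.e ^ (i : ℕ) * K.s := by
  have hce : Commute c K.e := by
    have := hc.pow_right 4
    rwa [K.es_pow_four] at this
  have hcs : Commute c K.s := by
    have := hce.inv_right.mul_right hc
    rwa [inv_mul_cancel_left] at this
  obtain ⟨m, hm, h⟩ := K.cent_e hce
  have hms : K.s * m * K.s = m := by
    have hcm : Commute m K.s := by
      rcases h with h | h
      · rwa [← h]
      · have := hcs.mul_left (Commute.refl K.s)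
        rwa [h, mul_assoc, K.s_sq, mul_one] at this
    rw [← hcm.eq, mul_assoc, K.s_sq, mul_one]
  obtain ⟨i, rfl⟩ := K.s_fix hm hms
  exact ⟨i, h⟩

theorem cent_es_inj : Function.Injective fun p : Fin 3 × Fin 2 =>
    K.e ^ (p.1 : ℕ) * K.s ^ (p.2 : ℕ) := by
  rintro ⟨i, a⟩ ⟨j, b⟩ h
  have := K.cent_e_lower (a₁ := (⟨K.e ^ (i : ℕ), pow_mem K.e_mem _⟩, a))
    (a₂ := (⟨K.e ^ (j : ℕ), pow_mem K.e_mem _⟩, b)) h
  simp only [Prod.mk.injEq, Subtype.mk.injEq] at this
  have h' := K.eij_inj (a₁ := (i, 0)) (a₂ := (j, 0)) (Subtype.ext (by simpa using this.1))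
  simp only [Prod.mk.injEq] at h'
  exact Prod.ext h'.1 this.2

theorem card_cent_es : Nat.card (centralizer ({K.e * K.s} : Set G)) = 6 := by
  let ψ : Fin 3 × Fin 2 → centralizer ({K.e * K.s} : Set G) := fun p =>
    ⟨K.e ^ (p.1 : ℕ) * K.s ^ (p.2 : ℕ), by
      rw [mem_centralizer_singleton_iff]
      refine (Commute.mul_left ?_ ?_).eq
      · exact Commute.pow_left ((Commute.refl K.e).mul_right K.s_comm_e.symm) _
      · exact Commute.pow_left (K.s_comm_e.mul_right (Commute.refl K.s)) _⟩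
  have hb : Function.Bijective ψ := by
    refine ⟨fun p q h => K.cent_es_inj (congrArg Subtype.val h), fun c => ?_⟩
    obtain ⟨i, h | h⟩ := K.cent_es (mem_centralizer_singleton_iff.1 c.2 : Commute _ _)
    · exact ⟨(i, 0), Subtype.ext (by simp [ψ, h])⟩
    · exact ⟨(i, 1), Subtype.ext (by simp [ψ, h])⟩
  rw [← Nat.card_congr (Equiv.ofBijective ψ hb), Nat.card_prod, Nat.card_fin, Nat.card_fin]

theorem z_es : K.z * (K.e * K.s) * K.z = (K.e * K.s)⁻¹ := by
  have hsz : K.s * K.z = K.z * K.s := K.s_z.trans K.z_s.symm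
  calc K.z * (K.e * K.s) * K.z = K.z * K.e * (K.s * K.z) := by group
    _ = (K.z * K.e * K.z) * K.s := by rw [hsz]; group
    _ = K.e⁻¹ * K.s := by rw [K.zmz K.e_mem]
    _ = (K.e * K.s)⁻¹ := by
        rw [mul_inv_rev, K.inv_s]
        exact (K.s_comm_e.inv_right.eq).symm

open scoped Classical in
theorem nPairs_es {y y' : G} (hy : y * y = 1) (hy' : y' * y' = 1) :
    nPairs (K.e * K.s) y y' = 3 * ind K.z y * ind K.s y' + 3 * ind K.s y * ind K.z y' := by
  cases nonempty_fintype G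
  let f : Fin 3 × Fin 2 → G := fun p => K.z * (K.e ^ (p.1 : ℕ) * K.s ^ (p.2 : ℕ))
  have hf : Function.Injective f := fun p q h => K.cent_es_inj (mul_left_cancel h)
  have key : nPairs (K.e * K.s) y y' = _ := card_eq_sum _ f hf fun a ⟨h1, h2⟩ => by
    obtain ⟨i, h | h⟩ := K.cent_es (K.inverter (sq_of_isConj h1 hy) (sq_of_isConj h2 hy') K.z_es)
    · refine ⟨(i, 0), ?_⟩
      show K.z * (_ * K.s ^ 0) = a
      rw [pow_zero, mul_one, ← h, ← mul_assoc, K.z_z, one_mul]
    · refine ⟨(i, 1), ?_⟩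
      show K.z * (_ * K.s ^ 1) = a
      rw [pow_one, ← h, ← mul_assoc, K.z_z, one_mul]
  rw [key, Fintype.sum_prod_type]
  simp only [Fin.sum_univ_two, Finset.sum_add_distrib, f, Fin.val_zero, Fin.val_one, pow_zero,
    pow_one, mul_one]
  have hzs : ∀ i : ℕ, IsConj K.s (K.z * (K.e ^ i * K.s)) := by
    intro i
    refine K.zs_conj.trans (isConj_iff.2 ⟨(K.e ^ i * K.e ^ i)⁻¹, ?_⟩)
    have hn := pow_mem K.e_mem i
    have h' : (K.e ^ i * K.e ^ i)⁻¹ * K.z = K.z * (K.e ^ i * K.e ^ i) := by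
      rw [← K.zmz (mul_mem hn hn), mul_assoc (K.z * (_ * _)), K.z_z, mul_one]
    have hc : K.s * (K.e ^ i * K.e ^ i) = K.e ^ i * K.e ^ i * K.s :=
      ((K.s_comm_e.pow_right i).mul_right (K.s_comm_e.pow_right i)).eq
    rw [inv_inv, ← mul_assoc ((_ * _)⁻¹), h', mul_assoc (K.z * (_ * _)), hc,
      show K.z * (K.e ^ i * K.e ^ i) * (K.e ^ i * K.e ^ i * K.s) =
        K.z * ((K.e ^ i) ^ 3 * K.e ^ i * K.s) by rw [pow_succ, pow_two]; group,
      K.cube hn, one_mul]
  congr 1
  · have hA : ∀ i : Fin 3, (IsConj y (K.z * K.e ^ (i : ℕ)) ∧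
        IsConj y' ((K.z * K.e ^ (i : ℕ))⁻¹ * (K.e * K.s))) ↔ (IsConj K.z y ∧ IsConj K.s y') := by
      intro i
      have h1 := K.z_mul_conj (pow_mem K.e_mem (i : ℕ))
      have h2 : IsConj K.s ((K.z * K.e ^ (i : ℕ))⁻¹ * (K.e * K.s)) := by
        have : (K.z * K.e ^ (i : ℕ))⁻¹ = K.z * K.e ^ (i : ℕ) :=
          inv_eq_of_mul_eq_one_right (sq_of_isConj h1 K.z_z)
        rw [this, mul_assoc, ← mul_assoc _ K.e, ← pow_succ]
        exact hzs _
      exact ⟨fun h => ⟨h1.trans h.1.symm, h2.trans h.2.symm⟩,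
        fun h => ⟨h.1.symm.trans h1, h.2.symm.trans h2⟩⟩
    simp only [hA]
    rw [Finset.sum_const, Finset.card_univ, Fintype.card_fin, smul_eq_mul]
    unfold ind
    by_cases h1 : IsConj K.z y <;> by_cases h2 : IsConj K.s y' <;>
      simp [h1, h2, -isConj_iff]
  · have hB : ∀ i : Fin 3, (IsConj y (K.z * (K.e ^ (i : ℕ) * K.s)) ∧
        IsConj y' ((K.z * (K.e ^ (i : ℕ) * K.s))⁻¹ * (K.e * K.s))) ↔
        (IsConj K.s y ∧ IsConj K.z y') := by
      intro i
      have h1 := hzs (i : ℕ)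
      have h2 : IsConj K.z ((K.z * (K.e ^ (i : ℕ) * K.s))⁻¹ * (K.e * K.s)) := by
        have : (K.z * (K.e ^ (i : ℕ) * K.s))⁻¹ = K.z * (K.e ^ (i : ℕ) * K.s) :=
          inv_eq_of_mul_eq_one_right (sq_of_isConj h1 K.s_sq)
        rw [this, mul_assoc, mul_assoc, ← mul_assoc K.s, K.s_comm_e.eq, mul_assoc K.e, K.s_sq,
          mul_one, ← pow_succ]
        exact K.z_mul_conj (pow_mem K.e_mem _)
      exact ⟨fun h => ⟨h1.trans h.1.symm, h2.trans h.2.symm⟩,
        fun h => ⟨h.1.symm.trans h1, h.2.symm.trans h2⟩⟩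
    simp only [hB]
    rw [Finset.sum_const, Finset.card_univ, Fintype.card_fin, smul_eq_mul]
    unfold ind
    by_cases h1 : IsConj K.s y <;> by_cases h2 : IsConj K.z y' <;>
      simp [h1, h2, -isConj_iff]

end Cfg

end Cfsg.Agent.H33.ExcThree
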