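import Cfsg.Agent.H83.ClassConst
import Cfsg.Agent.CharInduce.Ops
import Cfsg.Agent.H33.ExcThree.Pairs

/-!
# Integral character values in the exceptional configuration
-/

set_option autoImplicit false

open scoped ComplexConjugate

namespace Cfsg.Agent.H33.ExcThree

open Cfsg.Agent.CharBasic Cfsg.Agent.H83

universe u

variable {G : Type u} [Group G]

/-- An integral character value. -/
noncomputable def zv (χ : G → ℂ) (x : G) : ℤ := ⌊(χ x).re⌋

theorem cast_zv {χ : G → ℂ} {x : G} (h : ∃ n : ℤ, χ x = n) : ((zv χ x : ℤ) : ℂ) = χ x := by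
  obtain ⟨n, hn⟩ := h
  simp [zv, hn]

theorem zv_congr {χ : G → ℂ} {x y : G} (h : χ x = χ y) : zv χ x = zv χ y := by simp [zv, h]

/-- Powers as a homomorphism from a cyclic group. -/
def cycHom {M : Type*} [Monoid M] (n : ℕ) [NeZero n] (x : M) (hx : x ^ n = 1) :
    Multiplicative (ZMod n) →* M where
  toFun k := x ^ (Multiplicative.toAdd k).val
  map_one' := by simp
  map_mul' a b := by
    rw [toAdd_mul, ZMod.val_add, ← pow_eq_pow_mod _ hx, pow_add]

/-- The sum over a group of a linear character times a character. -/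
theorem sum_hom_mul {H : Type*} [Group H] [Fintype H] (f : H →* G) (lam : H →* ℂ) {χ : G → ℂ}
    (hχ : Cfsg.IsCharacter G χ) : ∃ m : ℕ, ∑ h : H, lam h * χ (f h) = (Nat.card H : ℂ) * m := by
  obtain ⟨n, ρ, rfl⟩ := hχ
  have h0 : (Nat.card H : ℂ) ≠ 0 := by simp
  letI : Invertible (Nat.card H : ℂ) := invertibleOfNonzero h0
  let σ : Representation ℂ H (Fin n → ℂ) :=
    { toFun := fun h => lam h • ρ (f h)
      map_one' := by simp
      map_mul' := fun a b => by rw [map_mul, map_mul, map_mul, smul_mul_smul_comm] }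
  have h := σ.card_inv_mul_sum_char_eq_finrank
  rw [inv_mul_eq_iff_eq_mul₀ h0] at h
  refine ⟨_, Eq.trans ?_ h⟩
  refine Finset.sum_congr rfl fun a _ => ?_
  simp [Representation.character, σ]

theorem sum_zmod {R : Type*} [AddCommMonoid R] (n : ℕ) [NeZero n] (F : ℕ → R) :
    ∑ k : Multiplicative (ZMod n), F (Multiplicative.toAdd k).val = ∑ i ∈ Finset.range n, F i := by
  refine Finset.sum_nbij' (fun k => (Multiplicative.toAdd k).val)
    (fun i => Multiplicative.ofAdd (i : ZMod n)) ?_ ?_ ?_ ?_ ?_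
  · intro k _; exact Finset.mem_range.2 (ZMod.val_lt _)
  · intro i _; exact Finset.mem_univ _
  · intro k _; simp
  · intro i hi; simp [ZMod.val_cast_of_lt (Finset.mem_range.1 hi)]
  · intro k _; rfl

theorem sum_cyc {χ : G → ℂ} (hχ : Cfsg.IsCharacter G χ) (n : ℕ) [NeZero n] {x : G} (hx : x ^ n = 1)
    {μ : ℂ} (hμ : μ ^ n = 1) :
    ∃ m : ℕ, ∑ i ∈ Finset.range n, μ ^ i * χ (x ^ i) = (n : ℂ) * m := by
  obtain ⟨m, hm⟩ := sum_hom_mul (cycHom n x hx) (cycHom n μ hμ) hχ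
  refine ⟨m, ?_⟩
  rw [← sum_zmod n fun i => μ ^ i * χ (x ^ i), show (n : ℂ) = (Nat.card (Multiplicative (ZMod n)) : ℂ) by
    rw [Nat.card_congr Multiplicative.toAdd, Nat.card_zmod]]
  exact hm

theorem sum_cyc_prod {χ : G → ℂ} (hχ : Cfsg.IsCharacter G χ) (n : ℕ) [NeZero n] {x y : G}
    (hx : x ^ n = 1) (hy : y ^ n = 1) (hc : Commute x y) :
    ∃ m : ℕ, ∑ i ∈ Finset.range n, ∑ j ∈ Finset.range n, χ (x ^ i * y ^ j) = (n * n : ℂ) * m := by
  obtain ⟨m, hm⟩ := sum_hom_mul (MonoidHom.noncommCoprod (cycHom n x hx) (cycHom n y hy)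
    (fun a b => hc.pow_pow _ _)) 1 hχ
  refine ⟨m, ?_⟩
  rw [Nat.card_prod, Nat.card_congr Multiplicative.toAdd, Nat.card_zmod, Nat.cast_mul] at hm
  rw [← hm, Fintype.sum_prod_type, ← sum_zmod n fun i => ∑ j ∈ Finset.range n, χ (x ^ i * y ^ j)]
  refine Finset.sum_congr rfl fun a _ => ?_
  rw [← sum_zmod n fun j => χ (x ^ (Multiplicative.toAdd a).val * y ^ j)]
  exact Finset.sum_congr rfl fun b _ => by simp [cycHom]

/-- The homomorphism from a dihedral group given by a rotation and an inverting involution. -/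
def dihHom {M : Type*} [Monoid M] (n : ℕ) [NeZero n] (x t : M) (hx : x ^ n = 1) (ht : t * t = 1)
    (hi : t * x * t * x = 1) : DihedralGroup n →* M where
  toFun
    | .r i => x ^ i.val
    | .sr i => t * x ^ i.val
  map_one' := by
    show x ^ (0 : ZMod n).val = 1
    simp
  map_mul' := by
    have hadd : ∀ a b : ZMod n, x ^ (a + b).val = x ^ a.val * x ^ b.val := fun a b => by
      rw [ZMod.val_add, ← pow_eq_pow_mod _ hx, pow_add]
    have hsub : ∀ a b : ZMod n, x ^ a.val * t = t * x ^ (-a).val := by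
      intro a _
      have hk : ∀ k : ℕ, t * x ^ k * t * x ^ k = 1 := by
        intro k
        induction k with
        | zero => simp [ht]
        | succ k ih =>
          have : t * x ^ (k + 1) * t = t * x ^ k * t * (t * x * t) := by
            rw [pow_succ]
            simp only [mul_assoc]
            rw [← mul_assoc t t, ht, one_mul]
          rw [this, pow_succ', ← mul_assoc, mul_assoc (t * x ^ k * t), hi, mul_one, ih]
      have hneg : x ^ a.val * x ^ (-a).val = 1 := by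
        rw [← hadd, add_neg_cancel, ZMod.val_zero, pow_zero]
      calc x ^ a.val * t = x ^ a.val * t * (x ^ a.val * x ^ (-a).val) := by rw [hneg, mul_one]
        _ = t * (t * x ^ a.val * t * x ^ a.val) * x ^ (-a).val := by
            simp only [← mul_assoc, ht, one_mul]
        _ = _ := by rw [hk, mul_one]
    rintro (i | i) (j | j)
    · exact hadd i j
    · show t * x ^ (j - i).val = x ^ i.val * (t * x ^ j.val)
      rw [← mul_assoc, hsub i i, mul_assoc, ← hadd]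
      congr 3
      ring
    · show t * x ^ (i + j).val = t * x ^ i.val * x ^ j.val
      rw [hadd, mul_assoc]
    · show x ^ (j - i).val = t * x ^ i.val * (t * x ^ j.val)
      rw [mul_assoc t, ← mul_assoc (x ^ i.val), hsub i i, ← mul_assoc, ← mul_assoc, ht, one_mul,
        ← hadd]
      congr 2
      ring

theorem sum_dih {χ : G → ℂ} (hχ : Cfsg.IsCharacter G χ) (n : ℕ) [NeZero n] {x t : G}
    (hx : x ^ n = 1) (ht : t * t = 1) (hi : t * x * t * x = 1) {σ τ : ℂ} (hσn : σ ^ n = 1)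
    (hσ : σ * σ = 1) (hτ : τ * τ = 1) :
    ∃ m : ℕ, (∑ i ∈ Finset.range n, σ ^ i * χ (x ^ i)) +
      τ * ∑ i ∈ Finset.range n, σ ^ i * χ (t * x ^ i) = (2 * n : ℂ) * m := by
  have hlam : τ * σ * τ * σ = 1 := by
    rw [show τ * σ * τ * σ = τ * τ * (σ * σ) by ring, hσ, hτ, one_mul]
  obtain ⟨m, hm⟩ := sum_hom_mul (dihHom n x t hx ht hi) (dihHom n σ τ hσn hτ hlam) hχ
  refine ⟨m, ?_⟩
  rw [DihedralGroup.nat_card, Nat.cast_mul, Nat.cast_two] at hm
  rw [← hm]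
  let e : ZMod n ⊕ ZMod n ≃ DihedralGroup n :=
    { toFun := fun p => p.elim .r .sr
      invFun := fun q => match q with
        | .r i => .inl i
        | .sr i => .inr i
      left_inv := fun p => by cases p <;> rfl
      right_inv := fun q => by cases q <;> rfl }
  rw [← e.sum_comp, Fintype.sum_sum_type, Finset.mul_sum,
    ← sum_zmod n fun i => σ ^ i * χ (x ^ i), ← sum_zmod n fun i => τ * (σ ^ i * χ (t * x ^ i))]
  congr 1
  · refine Fintype.sum_equiv Multiplicative.toAdd _ _ fun a => ?_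
    rfl
  · refine Fintype.sum_equiv Multiplicative.toAdd _ _ fun a => ?_
    show τ * (σ ^ _ * _) = τ * σ ^ _ * _
    rw [mul_assoc]
    rfl

section Values

variable [Fintype G]

theorem isIntegral_char {χ : G → ℂ} (hχ : Cfsg.IsCharacter G χ) (x : G) : IsIntegral ℤ (χ x) :=
  IsChar.isIntegral hχ x

/-- The value at an involution. -/
theorem invol_val {χ : G → ℂ} (hχ : Cfsg.IsCharacter G χ) {y : G} (hy : y * y = 1) :
    ((zv χ 1 : ℤ) : ℂ) = χ 1 ∧ ((zv χ y : ℤ) : ℂ) = χ y ∧ 0 ≤ zv χ 1 + zv χ y ∧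
      2 ∣ zv χ 1 + zv χ y := by
  obtain ⟨n, hn⟩ := IsChar.exists_degree hχ
  have h1 : ((zv χ 1 : ℤ) : ℂ) = χ 1 := cast_zv ⟨n, by simp [hn]⟩
  obtain ⟨m, hm⟩ := sum_cyc hχ 2 (x := y) (by rw [pow_two, hy]) (μ := 1) (one_pow _)
  simp only [Finset.sum_range_succ, Finset.sum_range_zero, zero_add, one_pow, one_mul, pow_zero,
    pow_one, Nat.cast_ofNat] at hm
  have h2 : ((zv χ y : ℤ) : ℂ) = χ y := cast_zv ⟨2 * m - n, by
    push_cast; linear_combination hm - hn⟩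
  refine ⟨h1, h2, ?_⟩
  rw [← h1, ← h2] at hm
  have : zv χ 1 + zv χ y = 2 * (m : ℤ) := by exact_mod_cast hm
  omega

namespace Cfg

variable (K : Cfg G)

theorem six_pow : (K.e * K.s) ^ 6 = 1 := by
  rw [K.s_comm_e.symm.mul_pow, show 6 = 3 * 2 from rfl, pow_mul, K.cube K.e_mem, one_pow, one_mul,
    show 3 * 2 = 2 * 3 from rfl, pow_mul, pow_two K.s, K.s_sq, one_pow]

theorem z_es_rel : K.z * (K.e * K.s) * K.z * (K.e * K.s) = 1 := by
  rw [K.z_es, inv_mul_cancel]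

theorem char_pow_es {χ : G → ℂ} (hχ : Cfsg.IsClassFunction G χ) :
    χ ((K.e * K.s) ^ 2) = χ K.e ∧ χ ((K.e * K.s) ^ 3) = χ K.s ∧ χ ((K.e * K.s) ^ 4) = χ K.e ∧
      χ ((K.e * K.s) ^ 5) = χ (K.e * K.s) ∧ χ K.e⁻¹ = χ K.e ∧ χ (K.e ^ 2) = χ K.e := by
  have hinv : χ K.e⁻¹ = χ K.e := by
    rw [← hχ K.e K.z, K.inv_z, K.zmz K.e_mem]
  have hq : χ (K.e ^ 2) = χ K.e := by rw [pow_two, ← K.inv_eq_sq K.e_mem, hinv]
  refine ⟨?_, ?_, ?_, ?_, hinv, hq⟩
  · rw [K.s_comm_e.symm.mul_pow, pow_two K.s, K.s_sq, mul_one, hq]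
  · rw [K.s_comm_e.symm.mul_pow, K.cube K.e_mem, one_mul, pow_succ, pow_two, K.s_sq, one_mul]
  · rw [K.es_pow_four]
  · rw [← hχ (K.e * K.s) K.z, K.inv_z, K.z_es]
    congr 1
    exact eq_inv_of_mul_eq_one_left (by rw [← pow_succ, K.six_pow])

theorem basic_vals {χ : G → ℂ} (hχ : Cfsg.IsCharacter G χ) :
    ((zv χ K.e : ℤ) : ℂ) = χ K.e ∧ ((zv χ (K.e * K.s) : ℤ) : ℂ) = χ (K.e * K.s) ∧
      3 ∣ zv χ 1 + 2 * zv χ K.e ∧ 2 ∣ zv χ K.e + zv χ (K.e * K.s) ∧
      3 ∣ zv χ K.s - zv χ (K.e * K.s) := by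
  obtain ⟨h1, h2, -, h4⟩ := invol_val hχ K.s_sq
  have hcf := IsChar.isClassFunction hχ
  obtain ⟨p2, p3, p4, p5, hinv, hq⟩ := K.char_pow_es hcf
  obtain ⟨m, hm⟩ := sum_cyc hχ 3 (x := K.e) (K.cube K.e_mem) (μ := 1) (one_pow _)
  simp only [Finset.sum_range_succ, Finset.sum_range_zero, zero_add, one_pow, one_mul, pow_zero,
    pow_one, Nat.cast_ofNat, hq, ← h1] at hm
  have hu : ((zv χ K.e : ℤ) : ℂ) = χ K.e := by
    refine cast_zv ?_
    have e2 : ((2 : ℤ) : ℂ) * χ K.e = ((3 * m - zv χ 1 : ℤ) : ℂ) := by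
      push_cast; linear_combination hm
    obtain ⟨q, hq'⟩ := int_dvd_of_isIntegral (isIntegral_char hχ _) two_ne_zero e2
    exact ⟨q, mul_left_cancel₀ two_ne_zero (by rw [hq'] at e2; push_cast at e2; exact e2)⟩
  obtain ⟨k, hk⟩ := sum_cyc hχ 6 (x := K.e * K.s) K.six_pow (μ := 1) (one_pow _)
  simp only [Finset.sum_range_succ, Finset.sum_range_zero, zero_add, one_pow, one_mul, pow_zero,
    pow_one, Nat.cast_ofNat, p2, p3, p4, p5, ← h1, ← h2, ← hu] at hk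
  have hv : ((zv χ (K.e * K.s) : ℤ) : ℂ) = χ (K.e * K.s) := by
    refine cast_zv ?_
    have e2 : ((2 : ℤ) : ℂ) * χ (K.e * K.s) =
        ((6 * k - zv χ 1 - 2 * zv χ K.e - zv χ K.s : ℤ) : ℂ) := by
      push_cast; linear_combination hk
    obtain ⟨q, hq'⟩ := int_dvd_of_isIntegral (isIntegral_char hχ _) two_ne_zero e2
    exact ⟨q, mul_left_cancel₀ two_ne_zero (by rw [hq'] at e2; push_cast at e2; exact e2)⟩
  -- a nontrivial linear character of the cyclic group of order six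
  obtain ⟨ω, hω⟩ : ∃ ω : ℂ, IsPrimitiveRoot ω 3 := ⟨_, Complex.isPrimitiveRoot_exp 3 (by norm_num)⟩
  have hω3 : ω ^ 3 = 1 := hω.pow_eq_one
  have hω1 : ω ^ 2 + ω + 1 = 0 := by
    have := hω.geom_sum_eq_zero (by norm_num)
    simp only [Finset.sum_range_succ, Finset.sum_range_zero, zero_add, pow_zero, pow_one] at this
    linear_combination this
  obtain ⟨j, hj⟩ := sum_cyc hχ 6 (x := K.e * K.s) K.six_pow (μ := ω)
    (by rw [show 6 = 3 * 2 from rfl, pow_mul, hω3, one_pow])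
  simp only [Finset.sum_range_succ, Finset.sum_range_zero, zero_add, pow_zero, pow_one, one_mul,
    Nat.cast_ofNat, p2, p3, p4, p5, ← h1, ← h2, ← hu, ← hv] at hj
  have e1 : zv χ 1 + 2 * zv χ K.e = 3 * (m : ℤ) := by
    rw [← hu] at hm
    have : ((zv χ 1 + 2 * zv χ K.e : ℤ) : ℂ) = ((3 * (m : ℤ) : ℤ) : ℂ) := by
      push_cast; linear_combination hm
    exact_mod_cast this
  have e2 : zv χ 1 + 2 * zv χ K.e + zv χ K.s + 2 * zv χ (K.e * K.s) = 6 * (k : ℤ) := by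
    rw [← hv] at hk
    have : ((zv χ 1 + 2 * zv χ K.e + zv χ K.s + 2 * zv χ (K.e * K.s) : ℤ) : ℂ) =
        ((6 * (k : ℤ) : ℤ) : ℂ) := by push_cast; linear_combination hk
    exact_mod_cast this
  have e3 : zv χ 1 - zv χ K.e + zv χ K.s - zv χ (K.e * K.s) = 6 * (j : ℤ) := by
    have : ((zv χ 1 - zv χ K.e + zv χ K.s - zv χ (K.e * K.s) : ℤ) : ℂ) =
        ((6 * (j : ℤ) : ℤ) : ℂ) := by
      push_cast
      linear_combination hj - (zv χ K.e : ℂ) * hω1 - (zv χ (K.e * K.s) : ℂ) * hω1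
        - ((zv χ K.s : ℂ) + (zv χ K.e : ℂ) * ω + (zv χ (K.e * K.s) : ℂ) * ω ^ 2) * hω3
    exact_mod_cast this
  exact ⟨hu, hv, by omega, by omega, by omega⟩

theorem g2_mul_w : K.symm.e * K.symm.s = K.g2 * K.w := rfl

theorem sum_M {χ : G → ℂ} (hχ : Cfsg.IsCharacter G χ) :
    9 ∣ zv χ 1 + 4 * zv χ K.e + 4 * zv χ K.g2 := by
  have hcf := IsChar.isClassFunction hχ
  have h1 := (invol_val hχ K.s_sq).1
  have hu1 := (K.basic_vals hχ).1
  have hu2 : ((zv χ K.g2 : ℤ) : ℂ) = χ K.g2 := (K.symm.basic_vals hχ).1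
  obtain ⟨m, hm⟩ := sum_cyc_prod hχ 3 (x := K.e) (y := K.e2) (K.cube K.e_mem) (K.cube K.e2_mem)
    (K.comm K.e_mem K.e2_mem)
  have hw : χ K.e2 = χ K.e := by
    rw [show K.e2 = K.w * K.e * K.w⁻¹ by rw [K.inv_w]; rfl, hcf]
  have hz : ∀ a ∈ K.M, χ a⁻¹ = χ a := fun a ha => by
    rw [← hcf a K.z, K.inv_z, K.zmz ha]
  have hq : ∀ a ∈ K.M, a ^ 2 = a⁻¹ := fun a ha => by rw [K.inv_eq_sq ha, pow_two]
  have hd : χ (K.e * K.e2⁻¹) = χ K.g2 := by
    rw [← K.s_g2, show K.s * K.g2 * K.s = K.s * K.g2 * K.s⁻¹ by rw [K.inv_s], hcf]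
  have hd' : χ (K.e⁻¹ * K.e2) = χ K.g2 := by
    rw [← hd, ← hz _ (mul_mem K.e_mem (inv_mem K.e2_mem)), mul_inv_rev, inv_inv]
    exact congrArg χ (K.comm (inv_mem K.e_mem) K.e2_mem)
  have hg : χ (K.e⁻¹ * K.e2⁻¹) = χ K.g2 := by
    rw [← hz _ K.g2_mem]
    exact congrArg χ (by rw [Cfg.g2, mul_inv_rev]; exact K.comm (inv_mem K.e_mem) (inv_mem K.e2_mem))
  simp only [Finset.sum_range_succ, Finset.sum_range_zero, zero_add, pow_zero, pow_one, one_mul,
    mul_one, hq _ K.e_mem, hq _ K.e2_mem, hw, hz _ K.e_mem, hz _ K.e2_mem, hd, hd', hg] at hm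
  change χ 1 + χ K.e + χ K.e + (χ K.e + χ K.g2 + χ K.g2) + (χ K.e + χ K.g2 + χ K.g2) = _ at hm
  rw [← h1, ← hu1, ← hu2] at hm
  have : ((zv χ 1 + 4 * zv χ K.e + 4 * zv χ K.g2 : ℤ) : ℂ) = ((9 * (m : ℤ) : ℤ) : ℂ) := by
    push_cast at hm ⊢; linear_combination hm
  exact ⟨m, by exact_mod_cast this⟩

/-- Multiplicities of two linear characters of the dihedral group `⟨e * s, z⟩`. -/
theorem dih_nonneg {χ : G → ℂ} (hχ : Cfsg.IsCharacter G χ) (σ τ : ℤ) (hσ : σ = 1 ∨ σ = -1)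
    (hτ : τ = 1 ∨ τ = -1) :
    0 ≤ zv χ 1 + 2 * zv χ K.e + σ * (zv χ K.s + 2 * zv χ (K.e * K.s)) +
      3 * τ * (zv χ K.z + σ * zv χ K.s) := by
  have hcf := IsChar.isClassFunction hχ
  obtain ⟨h1, h2, -, -⟩ := invol_val hχ K.s_sq
  obtain ⟨-, h3, -, -⟩ := invol_val hχ K.z_z
  obtain ⟨hu, hv, -⟩ := K.basic_vals hχ
  obtain ⟨p2, p3, p4, p5, -, -⟩ := K.char_pow_es hcf
  have hs2 : (σ : ℂ) * σ = 1 := by rcases hσ with rfl | rfl <;> norm_num
  have ht2 : (τ : ℂ) * τ = 1 := by rcases hτ with rfl | rfl <;> norm_num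
  have hs6 : (σ : ℂ) ^ 6 = 1 := by rcases hσ with rfl | rfl <;> norm_num
  obtain ⟨m, hm⟩ := sum_dih hχ 6 (x := K.e * K.s) (t := K.z) K.six_pow K.z_z K.z_es_rel hs6 hs2 ht2
  have hev : ∀ i : ℕ, χ (K.z * K.e ^ i) = χ K.z := fun i => by
    obtain ⟨g, hg⟩ := isConj_iff.1 (K.z_mul_conj (pow_mem K.e_mem i))
    rw [← hg, hcf]
  have hes : ∀ k i : ℕ, K.z * (K.e * K.s) ^ k = K.z * (K.e ^ k * K.s ^ k) := fun k i => by
    rw [K.s_comm_e.symm.mul_pow]
  have hs2' : K.s ^ 2 = 1 := by rw [pow_two, K.s_sq]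
  have hs4' : K.s ^ 4 = 1 := by rw [show 4 = 2 * 2 from rfl, pow_mul, hs2', one_pow]
  have hs3' : K.s ^ 3 = K.s := by rw [pow_succ, hs2', one_mul]
  have hs5' : K.s ^ 5 = K.s := by rw [pow_succ, hs4', one_mul]
  have hodd : ∀ i : ℕ, χ (K.z * (K.e ^ i * K.s)) = χ K.s := by
    intro i
    have hn := pow_mem K.e_mem i
    have h' : (K.e ^ i * K.e ^ i)⁻¹ * K.z = K.z * (K.e ^ i * K.e ^ i) := by
      rw [← K.zmz (mul_mem hn hn), mul_assoc (K.z * (_ * _)), K.z_z, mul_one]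
    have hc : K.s * (K.e ^ i * K.e ^ i) = K.e ^ i * K.e ^ i * K.s :=
      ((K.s_comm_e.pow_right i).mul_right (K.s_comm_e.pow_right i)).eq
    have : (K.e ^ i * K.e ^ i)⁻¹ * (K.z * K.s) * (K.e ^ i * K.e ^ i) =
        K.z * (K.e ^ i * K.s) := by
      rw [← mul_assoc ((_ * _)⁻¹), h', mul_assoc (K.z * (_ * _)), hc,
        show K.z * (K.e ^ i * K.e ^ i) * (K.e ^ i * K.e ^ i * K.s) =
          K.z * ((K.e ^ i) ^ 3 * K.e ^ i * K.s) by rw [pow_succ, pow_two]; group,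
        K.cube hn, one_mul]
    rw [← this]
    nth_rewrite 2 [← inv_inv (K.e ^ i * K.e ^ i)]
    rw [hcf, show K.z * K.s = K.w * K.s * K.w⁻¹ by rw [K.inv_w, K.z_s], hcf]
  simp only [Finset.sum_range_succ, Finset.sum_range_zero, zero_add, pow_zero, pow_one, one_mul,
    mul_one, Nat.cast_ofNat, p2, p3, p4, p5, hes _ 0, hs2', hs3', hs4', hs5', hev, hodd,
    show K.z * (K.e * K.s) = K.z * (K.e ^ 1 * K.s) by rw [pow_one],
    ← h1, ← h2, ← h3, ← hu, ← hv] at hm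
  have key : zv χ 1 + 2 * zv χ K.e + σ * (zv χ K.s + 2 * zv χ (K.e * K.s)) +
      3 * τ * (zv χ K.z + σ * zv χ K.s) = 12 * (m : ℤ) := by
    rcases hσ with rfl | rfl <;> norm_num at hm ⊢ <;>
    · refine Int.cast_injective (α := ℂ) ?_
      push_cast
      linear_combination hm
  rw [key]
  positivity

end Cfg

/-- Burnside's formula, in terms of differences from the degree. -/
theorem pair_sum {x y y' : G} (hx : x ≠ 1) (hxy : ¬ IsConj x y) (hxy' : ¬ IsConj x y')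
    (hy : y * y = 1) (hy' : y' * y' = 1)
    (hvx : ∀ χ : Cfsg.IrrCharacter G, ((zv (χ : G → ℂ) x : ℤ) : ℂ) = (χ : G → ℂ) x) :
    ∑ χ : Cfsg.IrrCharacter G, (zv (χ : G → ℂ) x : ℚ) *
        ((zv (χ : G → ℂ) y : ℚ) - zv (χ : G → ℂ) 1) * ((zv (χ : G → ℂ) y' : ℚ) - zv (χ : G → ℂ) 1) /
          (zv (χ : G → ℂ) 1 : ℚ) =
      (nPairs x y y' : ℚ) * Nat.card (Subgroup.centralizer ({y} : Set G)) *
        Nat.card (Subgroup.centralizer ({y'} : Set G)) / Nat.card G := by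
  have hv : ∀ (χ : Cfsg.IrrCharacter G) {t : G}, t * t = 1 →
      ((zv (χ : G → ℂ) 1 : ℤ) : ℂ) = (χ : G → ℂ) 1 ∧
      ((zv (χ : G → ℂ) t : ℤ) : ℂ) = (χ : G → ℂ) t :=
    fun χ t ht => ⟨(invol_val (IsIrr.isCharacter χ.2) ht).1, (invol_val (IsIrr.isCharacter χ.2) ht).2.1⟩
  refine Rat.cast_injective (α := ℂ) ?_
  push_cast
  have horth : ∀ {t : G}, ¬ IsConj x t → t * t = 1 →
      ∑ χ : Cfsg.IrrCharacter G, (χ : G → ℂ) x * (χ : G → ℂ) t = 0 := by
    intro t hxt ht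
    rw [← second_orthogonality_not_isConj hxt]
    exact Finset.sum_congr rfl fun χ _ => by rw [← (hv χ ht).2, map_intCast]
  have h1 : ∑ χ : Cfsg.IrrCharacter G, (χ : G → ℂ) x * (χ : G → ℂ) 1 = 0 :=
    horth (fun h => hx (isConj_one_left.1 h)) (one_mul 1)
  have hsum := card_pairs_mul_card y y' x
  have hG : (Nat.card G : ℂ) ≠ 0 := by simp
  have hcy : ∀ t : G, ((Subgroup.centralizer ({t} : Set G)).index : ℂ) *
      (Nat.card (Subgroup.centralizer ({t} : Set G)) : ℂ) = (Nat.card G : ℂ) := fun t => by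
    exact_mod_cast classSize_mul_centralizer t
  have hS : ∑ χ : Cfsg.IrrCharacter G,
      conj ((χ : G → ℂ) y) * conj ((χ : G → ℂ) y') * (χ : G → ℂ) x / (χ : G → ℂ) 1 =
      (nPairs x y y' : ℂ) * Nat.card (Subgroup.centralizer ({y} : Set G)) *
        Nat.card (Subgroup.centralizer ({y'} : Set G)) / Nat.card G := by
    rw [eq_div_iff hG]
    refine mul_left_cancel₀ hG ?_
    unfold nPairs
    linear_combination (-(Nat.card (Subgroup.centralizer ({y} : Set G)) : ℂ) *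
      (Nat.card (Subgroup.centralizer ({y'} : Set G)) : ℂ)) * hsum -
      (∑ χ : Cfsg.IrrCharacter G,
        conj ((χ : G → ℂ) y) * conj ((χ : G → ℂ) y') * (χ : G → ℂ) x / (χ : G → ℂ) 1) *
        ((Nat.card G : ℂ) * hcy y + ((Subgroup.centralizer ({y} : Set G)).index : ℂ) *
          (Nat.card (Subgroup.centralizer ({y} : Set G)) : ℂ) * hcy y')
  rw [← hS]
  calc _ = ∑ χ : Cfsg.IrrCharacter G,
        (conj ((χ : G → ℂ) y) * conj ((χ : G → ℂ) y') * (χ : G → ℂ) x / (χ : G → ℂ) 1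
          - (χ : G → ℂ) x * (χ : G → ℂ) y - (χ : G → ℂ) x * (χ : G → ℂ) y'
          + (χ : G → ℂ) x * (χ : G → ℂ) 1) := by
        refine Finset.sum_congr rfl fun χ _ => ?_
        obtain ⟨e1, ey⟩ := hv χ hy
        have ey' := (hv χ hy').2
        rw [show conj ((χ : G → ℂ) y) = (χ : G → ℂ) y by rw [← ey, map_intCast],
          show conj ((χ : G → ℂ) y') = (χ : G → ℂ) y' by rw [← ey', map_intCast],
          hvx χ, e1, ey, ey']
        have := IsIrr.one_ne_zero χ.2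
        field_simp
        ring
    _ = _ := by
        rw [Finset.sum_add_distrib, Finset.sum_sub_distrib, Finset.sum_sub_distrib, horth hxy hy,
          horth hxy' hy', h1]
        ring

end Values

end Cfsg.Agent.H33.ExcThree
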