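import Cfsg.Agent.H33.ExcThree.Chars
import Cfsg.Agent.H47.Generation
import Cfsg.Agent.H43.Galois

/-!
# Counting and coprime subgroups in the exceptional configuration
-/

set_option autoImplicit false

namespace Cfsg.Agent.H33.ExcThree

open Subgroup Cfsg.Agent.CharBasic

universe u

variable {G : Type u} [Group G] [Fintype G] (K : Cfg G)

namespace Cfg

theorem index_mod_nine : K.N.index % 9 = 1 := by
  classical
  have h := MulAction.sum_card_fixedBy_eq_card_orbits_mul_card_group K.M (G ⧸ K.N)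
  have hfix : ∀ m : K.M, m ≠ 1 → Fintype.card (MulAction.fixedBy (G ⧸ K.N) m) = 1 := by
    intro m hm
    rw [Fintype.card_eq_one_iff]
    refine ⟨⟨((1 : G) : G ⧸ K.N), ?_⟩, ?_⟩
    · show (((m : G) * 1 : G) : G ⧸ K.N) = ((1 : G) : G ⧸ K.N)
      rw [QuotientGroup.eq]
      simpa using inv_mem (K.M_le m.2)
    · rintro ⟨q, hq⟩
      obtain ⟨g, rfl⟩ := QuotientGroup.mk_surjective q
      apply Subtype.ext
      change (((m : G) * g : G) : G ⧸ K.N) = (g : G ⧸ K.N) at hq
      show (g : G ⧸ K.N) = ((1 : G) : G ⧸ K.N)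
      rw [QuotientGroup.eq] at hq ⊢
      have hm' : g⁻¹ * (m : G)⁻¹ * g ∈ K.M := by
        refine K.three_mem (by simpa [mul_assoc] using hq) ?_
        have hc := conj_pow (a := g⁻¹) (b := (m : G)⁻¹) (i := 3)
        rw [inv_inv] at hc
        rw [hc, K.cube (inv_mem m.2), mul_one, inv_mul_cancel]
      have hg : g⁻¹ ∈ K.N := by
        refine K.mem_N_of_conj (g := g⁻¹) (inv_mem m.2)
          (fun e => hm (Subtype.ext (inv_eq_one.1 e))) ?_
        rwa [inv_inv]
      simpa using hg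
  rw [← Finset.add_sum_erase _ _ (Finset.mem_univ (1 : K.M)),
    Finset.sum_congr rfl (fun m hm => hfix m (Finset.ne_of_mem_erase hm)), Finset.sum_const,
    Finset.card_erase_of_mem (Finset.mem_univ _), Finset.card_univ, smul_eq_mul, mul_one,
    ← Nat.card_eq_fintype_card (α := K.M), K.card_M,
    ← Nat.card_eq_fintype_card (α := MulAction.fixedBy (G ⧸ K.N) (1 : K.M)),
    MulAction.fixedBy_one_eq_univ, Nat.card_univ, ← Subgroup.index_eq_card] at h
  omega

theorem elementary : Cfsg.IsElementaryAbelian 3 K.M :=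
  ⟨⟨⟨fun a b => Subtype.ext (K.comm a.2 b.2)⟩⟩, fun _ ha => K.cube ha⟩

theorem exists_conj_mem {x : G} (h3 : orderOf x = 3) : ∃ g : G, g * x * g⁻¹ ∈ K.M := by
  have : Fact (Nat.Prime 3) := ⟨Nat.prime_three⟩
  let S : Sylow 3 G := (IsPGroup.of_card (n := 2) (by rw [K.card_M]; rfl)).toSylow K.index_M
  have hS : (S : Subgroup G) = K.M := IsPGroup.toSylow_coe _ _
  obtain ⟨R, hR⟩ := (IsPGroup.of_card (n := 1) (by rw [Nat.card_zpowers, h3]; rfl) :
    IsPGroup 3 (zpowers x)).exists_le_sylow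
  obtain ⟨g, rfl⟩ := MulAction.exists_smul_eq G S R
  rw [Sylow.coe_subgroup_smul, hS] at hR
  obtain ⟨m, hm, hmx⟩ := hR (mem_zpowers x)
  change g * m * g⁻¹ = x at hmx
  exact ⟨g⁻¹, by rw [← hmx]; simpa [mul_assoc] using hm⟩

/-- A `3'`-subgroup normalised by `M` is trivial. -/
theorem inv_trivial (L : Subgroup G) (hL : K.M ≤ normalizer (L : Set G)) (h3 : ¬ 3 ∣ Nat.card L) :
    L = ⊥ := by
  have : Fact (Nat.Prime 3) := ⟨Nat.prime_three⟩
  have hle : L ≤ L ⊓ K.N := by
    refine H47.le_of_fixed_le (p := 3) (E := K.M) K.elementary (by rw [K.card_M]; rfl) hL h3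
      ((le_inf hL (K.M_le.trans Subgroup.le_normalizer)).trans
        Subgroup.inf_normalizer_le_normalizer_inf) ?_
    intro m hm hm1
    exact le_inf inf_le_left (inf_le_right.trans (K.ti m hm hm1))
  rw [Subgroup.eq_bot_iff_forall]
  intro x hx
  have hxN : x ∈ K.N := (hle hx).2
  have hint : ∀ a : G, a ∈ L → a ∈ K.M → a = 1 := by
    intro a ha ha'
    by_contra ha1
    have := Subgroup.orderOf_dvd_natCard L ha
    rw [K.order_three ha' ha1] at this
    exact h3 this
  have hxc : x ∈ centralizer (K.M : Set G) := by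
    rw [mem_centralizer_iff]
    intro m hm
    have h1 : m * x * m⁻¹ * x⁻¹ = 1 := by
      refine hint _ (mul_mem ((Subgroup.mem_normalizer_iff.1 (hL hm) x).1 hx) (inv_mem hx)) ?_
      have := mul_mem hm (K.conj_mem hxN (inv_mem hm))
      simpa [mul_assoc] using this
    rw [mul_inv_eq_one, mul_inv_eq_iff_eq_mul] at h1
    exact h1
  rw [K.cent] at hxc
  exact hint x hx hxc

theorem inv_trivial_normal (L : Subgroup G) [L.Normal] (h : ∀ m ∈ K.M, m ∈ L → m = 1) : L = ⊥ := by
  have : Fact (Nat.Prime 3) := ⟨Nat.prime_three⟩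
  refine K.inv_trivial L (by rw [Subgroup.normalizer_eq_top]; exact le_top) fun h3 => ?_
  obtain ⟨x, hx⟩ := exists_prime_orderOf_dvd_card' (G := L) 3 h3
  have hxo : orderOf (x : G) = 3 := by rw [Subgroup.orderOf_coe, hx]
  obtain ⟨g, hg⟩ := K.exists_conj_mem hxo
  have h1 := h _ hg (Normal.conj_mem inferInstance _ x.2 g)
  rw [conj_eq_one_iff] at h1
  rw [h1, orderOf_one] at hxo
  omega

end Cfg

/-- Blichfeldt's bound for a faithful character with integral values. -/
theorem blichfeldt {χ : G → ℂ} (hχ : Cfsg.IsCharacter G χ) {n : ℕ} (h1 : χ 1 = n)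
    (hint : ∀ g, ∃ k : ℤ, χ g = k) (hf : ∀ g, χ g = χ 1 → g = 1) :
    (Nat.card G : ℤ) ∣ ∏ l ∈ Finset.Ico (-(n : ℤ)) n, ((n : ℤ) - l) := by
  classical
  choose k hk using hint
  have hpow : ∀ i : ℕ, (Nat.card G : ℤ) ∣ ∑ g : G, k g ^ i := by
    intro i
    obtain ⟨m, hm⟩ := sum_hom_mul (MonoidHom.id G) 1 (CharInduce.IsChar.pow hχ i)
    refine ⟨m, ?_⟩
    have : ((∑ g : G, k g ^ i : ℤ) : ℂ) = (((Nat.card G : ℤ) * m : ℤ) : ℂ) := by
      push_cast
      rw [← hm]
      exact Finset.sum_congr rfl fun g _ => by simp [hk]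
    exact_mod_cast this
  let P : Polynomial ℤ := ∏ l ∈ Finset.Ico (-(n : ℤ)) n, (Polynomial.X - Polynomial.C l)
  have hP : (Nat.card G : ℤ) ∣ ∑ g : G, P.eval (k g) := by
    simp_rw [Polynomial.eval_eq_sum_range (p := P)]
    rw [Finset.sum_comm]
    refine Finset.dvd_sum fun i _ => ?_
    rw [← Finset.mul_sum]
    exact Dvd.dvd.mul_left (hpow i) _
  rw [Finset.sum_eq_single_of_mem 1 (Finset.mem_univ _)] at hP
  · have hk1 : k 1 = (n : ℤ) := by
      have : ((k 1 : ℤ) : ℂ) = ((n : ℤ) : ℂ) := by rw [← hk, h1]; simp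
      exact_mod_cast this
    simpa [P, Polynomial.eval_prod, hk1] using hP
  · intro g _ hg
    simp only [P, Polynomial.eval_prod, Polynomial.eval_sub, Polynomial.eval_X, Polynomial.eval_C]
    refine Finset.prod_eq_zero (i := k g) ?_ (sub_self _)
    have hne : k g ≠ (n : ℤ) := fun e => hg (hf g (by rw [hk, e, h1]; simp))
    have hb := IsChar.norm_le hχ g
    rw [h1, hk, Complex.norm_natCast, Complex.norm_intCast] at hb
    have hb' : |k g| ≤ (n : ℤ) := by exact_mod_cast hb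
    rw [abs_le] at hb'
    rw [Finset.mem_Ico]
    omega

end Cfsg.Agent.H33.ExcThree
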