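import Cfsg.Agent.H33.ExcThree.Linear
import Cfsg.Agent.H33.ExcThree.Local

/-!
# The degree of the exceptional characters and the order of the group
-/

set_option autoImplicit false

open scoped ComplexConjugate

namespace Cfsg.Agent.H33.ExcThree

open Cfsg.Agent.CharBasic Cfsg.Agent.H83 Subgroup

universe u

variable {G : Type u} [Group G] [Fintype G] {K : Cfg G}

/-- Effect of tensoring with the linear character on a vector. -/
def Vec.tw (v : Vec) : Vec := ⟨v.c, v.d, v.a, v.b⟩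

/-- The linear character: its behaviour on the configuration. -/
structure Cfg.Zeta (K : Cfg G) where
  hom : G →* ℂˣ
  at_e : (hom K.e : ℂ) = 1
  at_g2 : (hom K.g2 : ℂ) = 1
  at_s : (hom K.s : ℂ) = -1
  at_w : (hom K.w : ℂ) = -1
  signed : ∀ y : G, y * y = 1 → (hom y : ℂ) = -(K.sval ⟨0, 0, 1, 1⟩ y : ℂ)

namespace Cfg

theorem Generic.exists_zeta (hg : K.Generic) (hzw : ¬ IsConj K.z K.w) : Nonempty K.Zeta := by
  have hb := hg.b_eq hzw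
  obtain ⟨χ, -, -, hcase⟩ := hg.exists_char (v := ⟨0, 0, 1, 1⟩) (by decide)
  obtain ⟨n, hn, hn1⟩ := IsIrr.exists_degree χ.2
  have hd : val χ 1 = n := by simp [val, zv, hn1]
  rcases hcase with ⟨-, he⟩ | ⟨e, he⟩
  · rw [he] at hb; omega
  rw [he] at hb
  have h1 : (χ : G → ℂ) 1 = 1 := by
    rw [hn1, show n = 1 by omega]; norm_num
  obtain ⟨l, hl⟩ := CharInduce.IsChar.exists_hom_of_degree_one (IsIrr.isCharacter χ.2) h1
  obtain ⟨e1, e2, e3, e4, -⟩ := K.vec_spec χ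
  rw [e] at e1 e2 e3 e4
  simp only [Vec.neg, Vec.u1, Vec.u2, Vec.v1, Vec.v2] at e1 e2 e3 e4
  obtain ⟨-, -, -, -, c5, c6⟩ := K.congr_facts χ
  have hinv : ∀ t : G, t * t = 1 → val χ t = 1 ∨ val χ t = -1 := by
    intro t ht
    have hc := (invol_val (IsIrr.isCharacter χ.2) ht).2.1
    have : val χ t * val χ t = 1 := by
      have hC : ((val χ t * val χ t : ℤ) : ℂ) = ((1 : ℤ) : ℂ) := by
        push_cast
        rw [hc, hl, ← Units.val_mul, ← map_mul, ht, map_one, Units.val_one]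
      exact_mod_cast hC
    exact Int.eq_one_or_neg_one_of_mul_eq_one this
  have hs : val χ K.s = -1 := by rcases hinv _ K.s_sq with h | h <;> omega
  have hw : val χ K.w = -1 := by rcases hinv _ K.w_sq with h | h <;> omega
  refine ⟨⟨l, ?_, ?_, ?_, ?_, fun y hy => ?_⟩⟩
  · rw [← hl, ← (K.basic_vals (IsIrr.isCharacter χ.2)).1, show zv (χ : G → ℂ) K.e = 1 from (show val χ K.e = 1 by omega)]
    norm_num
  · rw [← hl, ← K.u2_cast χ, show val χ K.g2 = 1 by omega]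
    norm_num
  · rw [← hl, ← (invol_val (IsIrr.isCharacter χ.2) K.s_sq).2.1, show zv (χ : G → ℂ) K.s = -1 from hs]
    norm_num
  · rw [← hl, ← (invol_val (IsIrr.isCharacter χ.2) K.w_sq).2.1, show zv (χ : G → ℂ) K.w = -1 from hw]
    norm_num
  · rw [he, ← hl, ← (invol_val (IsIrr.isCharacter χ.2) hy).2.1]
    simp [val]

theorem Zeta.at_z (Z : K.Zeta) : (Z.hom K.z : ℂ) = 1 := by
  show (Z.hom (K.s * K.w * K.s * K.w) : ℂ) = 1
  simp [Z.at_s, Z.at_w]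

theorem Zeta.z_not_conj_s (Z : K.Zeta) : ¬ IsConj K.z K.s := by
  intro h
  obtain ⟨g, hg⟩ := isConj_iff.1 h
  have h1 := congrArg (fun t => (Z.hom t : ℂ)) hg
  simp [Z.at_z, Z.at_s] at h1
  norm_num at h1

theorem Zeta.on_M (Z : K.Zeta) {m : G} (hm : m ∈ K.M) : Z.hom m = 1 := by
  have he : Z.hom K.e = 1 := Units.ext Z.at_e
  have he2 : Z.hom K.e2 = 1 := by
    apply Units.ext
    show (Z.hom (K.w * K.e * K.w) : ℂ) = 1
    simp [Z.at_w, Z.at_e]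
  obtain ⟨i, j, rfl⟩ := K.exists_ij hm
  rw [map_mul, map_pow, map_pow, he, he2, one_pow, one_pow, one_mul]

theorem isIrr_mul_hom {χ : G → ℂ} (hχ : Cfsg.IsIrrCharacter G χ) (l : G →* ℂˣ) :
    Cfsg.IsIrrCharacter G (χ * fun g => (l g : ℂ)) := by
  refine CharInduce.isIrr_of_norm_one
    (CharInduce.IsChar.mul (IsIrr.isCharacter hχ) (CharInduce.isCharacter_hom l)) ?_
  rw [← classInner_irr_self hχ, classInner_def, classInner_def]
  congr 1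
  refine Finset.sum_congr rfl fun g _ => ?_
  have h := Complex.mul_conj' (l g : ℂ)
  rw [CharInduce.norm_hom l g, Complex.ofReal_one, one_pow] at h
  simp only [Pi.mul_apply, map_mul]
  linear_combination χ g * conj (χ g) * h

/-- Tensoring with the linear character permutes the exceptional characters. -/
theorem Generic.twist (hg : K.Generic) (Z : K.Zeta) {v : Vec} (hv : v ∈ idx1)
    (hv' : v.tw ∈ idx1) {y : G} (hy : y * y = 1) :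
    K.sval v.tw y = -(K.sval ⟨0, 0, 1, 1⟩ y * K.sval v y) := by
  obtain ⟨χ, -, -, hcase⟩ := hg.exists_char hv
  obtain ⟨ψ', huni, -, hcase'⟩ := hg.exists_char hv'
  let ψ : Cfsg.IrrCharacter G := ⟨_, isIrr_mul_hom χ.2 Z.hom⟩
  have hval : ∀ (t : G) (k : ℤ), ((val χ t : ℤ) : ℂ) = (χ : G → ℂ) t → (Z.hom t : ℂ) = (k : ℂ) →
      val ψ t = k * val χ t := by
    intro t k ht hk
    show zv ((χ : G → ℂ) * fun g => (Z.hom g : ℂ)) t = _
    unfold zv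
    rw [Pi.mul_apply]
    conv_lhs => rw [hk, ← ht]
    rw [← Int.cast_mul, Complex.intCast_re, Int.floor_intCast, mul_comm]
  have h1 := hval K.e 1 (K.basic_vals (IsIrr.isCharacter χ.2)).1 (by rw [Z.at_e]; norm_num)
  have h2 := hval K.g2 1 (K.u2_cast χ) (by rw [Z.at_g2]; norm_num)
  have h3 := hval (K.e * K.s) (-1) (K.basic_vals (IsIrr.isCharacter χ.2)).2.1
    (by simp [Z.at_e, Z.at_s])
  have h4 := hval (K.g2 * K.w) (-1) (K.v2_cast χ) (by simp [Z.at_g2, Z.at_w])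
  have hvec : K.vec ψ = (K.vec χ).tw := by
    unfold vec Vec.tw
    rw [h1, h2, h3, h4]
    simp only [Vec.mk.injEq]
    refine ⟨?_, ?_, ?_, ?_⟩ <;> omega
  have hψ : K.vec ψ = v.tw ∨ K.vec ψ = v.tw.neg := by
    rcases hcase with ⟨e, -⟩ | ⟨e, -⟩ <;> rw [hvec, e]
    exacts [Or.inl rfl, Or.inr rfl]
  have hne : ψ ≠ triv := by
    intro h
    rw [h, K.vec_triv] at hψ
    revert hψ
    revert hv'
    generalize v.tw = u
    revert u
    unfold idx1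
    decide
  obtain rfl : ψ = ψ' := huni ψ hne hψ
  have hy' := hval y (-K.sval ⟨0, 0, 1, 1⟩ y) (invol_val (IsIrr.isCharacter χ.2) hy).2.1
    (by rw [Z.signed y hy]; push_cast; rfl)
  have hnn : v.tw ≠ v.tw.neg := (idx1_facts _ hv').2
  rcases hcase with ⟨e, he⟩ | ⟨e, he⟩ <;> rcases hcase' with ⟨e', he'⟩ | ⟨e', he'⟩ <;>
    rw [hvec, e] at e' <;> rw [he, he', hy']
  · ring
  · exact absurd e' hnn
  · exact absurd e'.symm hnn
  · ring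

/-- The signed degrees. -/
theorem Generic.degrees (hg : K.Generic) (hzw : ¬ IsConj K.z K.w) (Z : K.Zeta) :
    K.sval ⟨0, 0, 0, 1⟩ 1 = K.sval ⟨0, 0, 1, 0⟩ 1 ∧ K.sval ⟨0, 1, 0, 0⟩ 1 = K.sval ⟨0, 0, 1, 0⟩ 1 ∧
    K.sval ⟨1, 0, 0, 0⟩ 1 = K.sval ⟨0, 0, 1, 0⟩ 1 ∧ K.sval ⟨1, 0, 0, 1⟩ 1 = K.sval ⟨0, 1, 1, 0⟩ 1 ∧
    K.sval ⟨1, 1, 1, 1⟩ 1 = 1 - K.sval ⟨0, 0, 1, 0⟩ 1 - K.sval ⟨0, 1, 1, 0⟩ 1 := by
  have hb := hg.b_eq hzw
  obtain ⟨r1, r2, r3, r4⟩ := hg.rel (y := (1 : G)) (one_mul 1)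
  have t1 := hg.twist Z (v := ⟨0, 0, 0, 1⟩) (by decide) (by decide) (y := (1 : G)) (one_mul 1)
  simp only [Vec.tw, hb] at t1
  omega

/-- The values at `s`. -/
theorem Generic.vals_s (hg : K.Generic) (Z : K.Zeta) {y : G}
    (hy : y * y = 1) (hζ : (Z.hom y : ℂ) = -1) :
    K.sval ⟨0, 0, 1, 1⟩ y = 1 ∧ K.sval ⟨1, 0, 0, 0⟩ y = -K.sval ⟨0, 0, 1, 0⟩ y ∧
    K.sval ⟨0, 0, 0, 1⟩ y = -2 - K.sval ⟨0, 0, 1, 0⟩ y ∧
    K.sval ⟨0, 1, 0, 0⟩ y = 2 + K.sval ⟨0, 0, 1, 0⟩ y ∧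
    K.sval ⟨0, 1, 1, 0⟩ y = -1 - K.sval ⟨0, 0, 1, 0⟩ y ∧
    K.sval ⟨1, 0, 0, 1⟩ y = 1 + K.sval ⟨0, 0, 1, 0⟩ y ∧ K.sval ⟨1, 1, 1, 1⟩ y = 0 := by
  have hb : K.sval ⟨0, 0, 1, 1⟩ y = 1 := by
    have h := Z.signed y hy
    rw [hζ, neg_inj] at h
    exact_mod_cast h.symm
  obtain ⟨r1, r2, r3, r4⟩ := hg.rel hy
  have t1 := hg.twist Z (v := ⟨0, 0, 0, 1⟩) (by decide) (by decide) hy
  have t2 := hg.twist Z (v := ⟨0, 0, 1, 0⟩) (by decide) (by decide) hy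
  have t3 := hg.twist Z (v := ⟨0, 1, 1, 0⟩) (by decide) (by decide) hy
  simp only [Vec.tw, hb] at t1 t2 t3
  omega

/-- The values at `z`. -/
theorem Generic.vals_z (hg : K.Generic) (Z : K.Zeta) :
    K.sval ⟨0, 0, 1, 1⟩ K.z = -1 ∧ K.sval ⟨1, 0, 0, 0⟩ K.z = K.sval ⟨0, 0, 1, 0⟩ K.z ∧
    K.sval ⟨0, 0, 0, 1⟩ K.z = K.sval ⟨0, 0, 1, 0⟩ K.z ∧
    K.sval ⟨0, 1, 0, 0⟩ K.z = K.sval ⟨0, 0, 1, 0⟩ K.z := by
  have hb : K.sval ⟨0, 0, 1, 1⟩ K.z = -1 := by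
    have h := Z.signed K.z K.z_z
    rw [Z.at_z] at h
    have h' : ((K.sval ⟨0, 0, 1, 1⟩ K.z : ℤ) : ℂ) = ((-1 : ℤ) : ℂ) := by
      push_cast; linear_combination h
    exact_mod_cast h'
  obtain ⟨r1, r2, r3, r4⟩ := hg.rel K.z_z
  have t1 := hg.twist Z (v := ⟨0, 0, 0, 1⟩) (by decide) (by decide) K.z_z
  simp only [Vec.tw, hb] at t1
  omega

end Cfg

theorem arith {a m f : ℤ} (hf : f ≠ 0) (hm : m ≠ 0)
    (h1 : -4 * (m ^ 2 + 1) * f + 4 * a * f - 4 * m ^ 2 * a = -24 * m * f)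
    (h2 : -(1 - m ^ 2) * f + a * f + m ^ 2 * a = 0)
    (ha : 9 ∣ a + 5) (hp : 2 ∣ f - m) :
    (a = 4 ∧ m = -1) ∨ (a = -5 ∧ m = 2) ∨ (a = -14 ∧ m = 5) := by
  have e1 : a - 1 = -3 * m := mul_left_cancel₀ hf (by linarith)
  have e2 : m * (a + f) = 3 * f := mul_left_cancel₀ hm (by
    have : -3 * m * f + m ^ 2 * (a + f) = 0 := by rw [← e1]; linarith
    linarith)
  have e3 : a * (1 - a) = f * (a + 8) := by
    linear_combination (-(a + f)) * e1 + 3 * e2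
  have hd : a + 8 ∣ 72 := ⟨-(a - 9 + f), by linear_combination -e3⟩
  have h8 : (a + 8).natAbs ≤ 72 := Nat.le_of_dvd (by norm_num) (Int.natAbs_dvd_natAbs.2 hd)
  have hlo : -80 ≤ a := by omega
  have hhi : a ≤ 64 := by omega
  interval_cases a <;> omega

namespace Cfg

/-- The key equation: the possible degrees. -/
theorem Generic.key (hg : K.Generic) (hzw : ¬ IsConj K.z K.w) (Z : K.Zeta) :
    ∃ m : ℤ, m = K.sval ⟨0, 0, 1, 0⟩ K.s + 1 ∧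
      -8 * (m : ℚ) * Nat.card G = K.sval ⟨0, 0, 1, 0⟩ 1 * (cc K.s * cc K.s) ∧
      ((K.sval ⟨0, 0, 1, 0⟩ 1 = 4 ∧ m = -1) ∨ (K.sval ⟨0, 0, 1, 0⟩ 1 = -5 ∧ m = 2) ∨
        (K.sval ⟨0, 0, 1, 0⟩ 1 = -14 ∧ m = 5)) := by
  have hzs := Z.z_not_conj_s
  have hsw := K.s_not_conj_w
  obtain ⟨d1, d2, d3, d4, d5⟩ := hg.degrees hzw Z
  have hb := hg.b_eq hzw
  obtain ⟨b1, h1, x1, e1, f1, i1, j1⟩ := hg.vals_s Z K.s_sq Z.at_s
  obtain ⟨b2, h2, x2, e2, f2, i2, j2⟩ := hg.vals_s Z K.w_sq Z.at_w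
  obtain ⟨p1, p2, -, -⟩ := hg.qrel K.s_sq K.s_sq
  obtain ⟨q1, q2, -, -⟩ := hg.qrel K.s_sq K.w_sq
  obtain ⟨ha0, ha9, -, -, -⟩ := hg.sval_props (v := ⟨0, 0, 1, 0⟩) (by decide)
  obtain ⟨hf0, -, hfp, -, -⟩ := hg.sval_props (v := ⟨0, 1, 1, 0⟩) (by decide)
  obtain ⟨hj0, -⟩ := hg.sval_props (v := ⟨1, 1, 1, 1⟩) (by decide)
  simp only [ind_zero hzs, ind_self, ind_zero' hsw] at p1 p2
  simp only [ind_zero hzs, ind_self, ind_zero' hsw, ind_zero hzw, ind_zero hsw] at q1 q2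
  have hfp' := hfp K.s K.s_sq
  simp only [qt, dl, d1, d2, d3, d4, d5, hb, b1, h1, x1, e1, f1, i1, j1, b2, h2, x2, e2, f2, i2,
    j2] at p1 p2 q1 q2
  rw [f1] at hfp'
  simp only [Vec.u1, Vec.u2] at ha9
  rw [d5] at hj0
  generalize K.sval ⟨0, 0, 1, 0⟩ 1 = a at *
  generalize K.sval ⟨0, 1, 1, 0⟩ 1 = f at *
  generalize K.sval ⟨0, 0, 1, 0⟩ K.s = A at *
  generalize K.sval ⟨0, 0, 1, 0⟩ K.w = B at *
  push_cast at p1 p2 q1 q2
  have ha' : (a : ℚ) ≠ 0 := Int.cast_ne_zero.2 ha0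
  have hf' : (f : ℚ) ≠ 0 := Int.cast_ne_zero.2 hf0
  have hj' : (1 : ℚ) - a - f ≠ 0 := by exact_mod_cast hj0
  have hN : (Nat.card G : ℚ) ≠ 0 := by simp
  have hc : cc K.s ≠ 0 := Nat.cast_ne_zero.2 Nat.card_pos.ne'
  field_simp at p1 p2 q1 q2
  have hB : (B : ℚ) + A + 2 = 0 := by
    apply mul_left_cancel₀ (mul_ne_zero (mul_ne_zero hN hf') hj')
    rw [mul_zero]
    linear_combination -(q1 - q2) / 12
  have hK : -8 * ((A : ℚ) + 1) * Nat.card G = a * (cc K.s * cc K.s) := by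
    apply mul_left_cancel₀ (mul_ne_zero hf' hj')
    linear_combination (p1 - p2) / 3
  have hm : A + 1 ≠ 0 := by
    intro h
    have : ((A : ℚ) + 1) = 0 := by exact_mod_cast h
    rw [this] at hK
    exact mul_ne_zero ha' (mul_ne_zero hc hc) (by linarith)
  have hB' : (B : ℚ) = -A - 2 := by linarith
  rw [hB'] at q1 q2
  have E2 : -(1 - ((A : ℚ) + 1) ^ 2) * f + a * f + ((A : ℚ) + 1) ^ 2 * a = 0 := by
    apply mul_left_cancel₀ (mul_ne_zero hN hj')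
    rw [mul_zero]
    linear_combination (q1 + q2) / 4
  have E1 : -4 * (((A : ℚ) + 1) ^ 2 + 1) * f + 4 * a * f - 4 * ((A : ℚ) + 1) ^ 2 * a =
      -24 * ((A : ℚ) + 1) * f := by
    apply mul_left_cancel₀ (mul_ne_zero hN hj')
    linear_combination (p1 + p2) - 3 * f * (1 - a - f) * hK
  refine ⟨A + 1, rfl, by push_cast; linarith, arith hf0 hm ?_ ?_ (by omega) (by omega)⟩
  · exact_mod_cast E1
  · exact_mod_cast E2

end Cfg

end Cfsg.Agent.H33.ExcThree
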