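import Cfsg.Agent.H33.ExcThree.Lattice

/-!
# The eight exceptional characters
-/

set_option autoImplicit false

namespace Cfsg.Agent.H33.ExcThree

open Cfsg.Agent.CharBasic Cfsg.Agent.H83 Subgroup

universe u

variable {G : Type u} [Group G] [Fintype G] (K : Cfg G)

theorem idx1_facts : ∀ v ∈ idx1, v ∈ vecs ∧ v ≠ v.neg := by decide

theorem cover_idx1 : ∀ c ∈ smallVecs,
    (idx1.filter fun v => decide (c = v ∨ c = v.neg)).length ≤ 1 := by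
  decide +kernel

theorem idx1_nodup : idx1.Nodup := by decide

theorem Vec.neg_neg (v : Vec) : v.neg.neg = v := by simp [Vec.neg]

open scoped Classical in
/-- The signed character attached to a vector. -/
noncomputable def Cfg.sval (v : Vec) (y : G) : ℤ :=
  ∑ χ ∈ (nonTriv : Finset (Cfsg.IrrCharacter G)).filter (fun χ => K.vec χ = v), val χ y -
    ∑ χ ∈ (nonTriv : Finset (Cfsg.IrrCharacter G)).filter (fun χ => K.vec χ = v.neg), val χ y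

/-- The configuration in which every exceptional character occurs once. -/
def Cfg.Generic : Prop := ∀ v ∈ vecs, K.mult v = if v ∈ idx1 then 1 else 0

namespace Cfg

variable {K}

theorem Generic.exists_char (hg : K.Generic) {v : Vec} (hv : v ∈ idx1) :
    ∃ χ : Cfsg.IrrCharacter G,
      (∀ ψ : Cfsg.IrrCharacter G, ψ ≠ triv → (K.vec ψ = v ∨ K.vec ψ = v.neg) → ψ = χ) ∧ χ ≠ triv ∧
      ((K.vec χ = v ∧ ∀ y, K.sval v y = val χ y) ∨
        (K.vec χ = v.neg ∧ ∀ y, K.sval v y = -val χ y)) := by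
  classical
  have h := hg v (idx1_facts v hv).1
  rw [if_pos hv, mult] at h
  obtain ⟨χ, hχ⟩ := Finset.card_eq_one.1 h
  have hmem : χ ∈ ({χ} : Finset (Cfsg.IrrCharacter G)) := Finset.mem_singleton_self _
  rw [← hχ, Finset.mem_filter] at hmem
  have huni : ∀ ψ : Cfsg.IrrCharacter G, ψ ≠ triv → (K.vec ψ = v ∨ K.vec ψ = v.neg) → ψ = χ :=
    fun ψ h1 h2 => Finset.mem_singleton.1 (hχ ▸
      Finset.mem_filter.2 ⟨Finset.mem_erase.2 ⟨h1, Finset.mem_univ _⟩, h2⟩)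
  refine ⟨χ, huni, Finset.ne_of_mem_erase hmem.1, ?_⟩
  have hne := (idx1_facts v hv).2
  have split : ∀ (a : Vec), (a = v ∨ a = v.neg) → K.vec χ = a →
      ((nonTriv : Finset (Cfsg.IrrCharacter G)).filter fun ψ => K.vec ψ = a) = {χ} := by
    intro a ha hχa
    ext ψ
    rw [Finset.mem_filter, Finset.mem_singleton]
    constructor
    · rintro ⟨h1, h2⟩
      exact huni ψ (Finset.ne_of_mem_erase h1) (by rcases ha with rfl | rfl <;> simp [h2])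
    · rintro rfl
      exact ⟨hmem.1, hχa⟩
  have empty : ∀ (a : Vec), (a = v ∨ a = v.neg) → K.vec χ ≠ a →
      ((nonTriv : Finset (Cfsg.IrrCharacter G)).filter fun ψ => K.vec ψ = a) = ∅ := by
    intro a ha hχa
    refine Finset.filter_eq_empty_iff.2 fun ψ h1 h2 => hχa ?_
    rw [← huni ψ (Finset.ne_of_mem_erase h1) (by rcases ha with rfl | rfl <;> simp [h2])]
    exact h2
  rcases hmem.2 with e | e
  · refine Or.inl ⟨e, fun y => ?_⟩
    rw [sval, split v (Or.inl rfl) e, empty v.neg (Or.inr rfl) (by rw [e]; exact hne)]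
    simp
  · refine Or.inr ⟨e, fun y => ?_⟩
    rw [sval, split v.neg (Or.inr rfl) e, empty v (Or.inl rfl) (by rw [e]; exact hne.symm)]
    simp

/-- Summation over the characters reduces to the trivial one and the eight exceptional ones. -/
theorem Generic.sum_eq {R : Type*} [AddCommMonoid R] (hg : K.Generic) (T : Vec → (G → ℤ) → R)
    (heven : ∀ v F, T v.neg (fun y => -F y) = T v F) (h0 : ∀ F, T ⟨0, 0, 0, 0⟩ F = 0) :
    ∑ χ : Cfsg.IrrCharacter G, T (K.vec χ) (fun y => val χ y) =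
      T ⟨-1, -1, 0, 0⟩ (fun _ => 1) + ∑ v ∈ idx1.toFinset, T v (K.sval v) := by
  classical
  rw [← Finset.add_sum_erase _ _ (Finset.mem_univ (triv : Cfsg.IrrCharacter G)), K.vec_triv,
    funext val_triv]
  congr 1
  have step : ∀ χ ∈ (nonTriv : Finset (Cfsg.IrrCharacter G)), T (K.vec χ) (fun y => val χ y) =
      ∑ v ∈ idx1.toFinset,
        if K.vec χ = v ∨ K.vec χ = v.neg then T (K.vec χ) (fun y => val χ y) else 0 := by
    intro χ hχ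
    rw [← Finset.sum_filter]
    by_cases hc : K.vec χ = ⟨0, 0, 0, 0⟩
    · rw [hc]
      exact (h0 _).trans (Finset.sum_eq_zero fun v _ => h0 _).symm
    · obtain ⟨v, hv⟩ : ∃ v, v ∈ vecs.filter fun v => decide (K.vec χ = v ∨ K.vec χ = v.neg) := by
        have := cover _ (mem_smallVecs (K.vec_small χ))
        rw [if_neg hc] at this
        obtain ⟨v, hv⟩ := List.length_eq_one_iff.1 this
        exact ⟨v, by rw [hv]; exact List.mem_singleton_self v⟩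
      rw [List.mem_filter, decide_eq_true_eq] at hv
      have hi : v ∈ idx1 := by
        by_contra hni
        have hm := hg v hv.1
        rw [if_neg hni, mult, Finset.card_eq_zero, Finset.filter_eq_empty_iff] at hm
        exact hm hχ hv.2
      have hset : idx1.toFinset.filter (fun u => K.vec χ = u ∨ K.vec χ = u.neg) = {v} := by
        refine Finset.eq_singleton_iff_unique_mem.2
          ⟨Finset.mem_filter.2 ⟨List.mem_toFinset.2 hi, hv.2⟩, fun u hu => ?_⟩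
        rw [Finset.mem_filter, List.mem_toFinset] at hu
        have h1 := cover_idx1 _ (mem_smallVecs (K.vec_small χ))
        by_contra hne
        have hsub : [u, v] ⊆ idx1.filter fun v => decide (K.vec χ = v ∨ K.vec χ = v.neg) := by
          intro a ha
          simp only [List.mem_cons, List.not_mem_nil, or_false] at ha
          rw [List.mem_filter, decide_eq_true_eq]
          rcases ha with rfl | rfl
          exacts [hu, ⟨hi, hv.2⟩]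
        have := (List.subperm_of_subset (by simp [hne]) hsub).length_le
        simp only [List.length_cons, List.length_nil] at this
        omega
      rw [hset, Finset.sum_singleton]
  show ∑ χ ∈ (nonTriv : Finset (Cfsg.IrrCharacter G)), _ = _
  rw [Finset.sum_congr rfl step, Finset.sum_comm]
  refine Finset.sum_congr rfl fun v hv => ?_
  obtain ⟨χ, huni, hne, hcase⟩ := hg.exists_char (List.mem_toFinset.1 hv)
  have hmem : χ ∈ (nonTriv : Finset (Cfsg.IrrCharacter G)) :=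
    Finset.mem_erase.2 ⟨hne, Finset.mem_univ _⟩
  rw [Finset.sum_eq_single_of_mem χ hmem fun ψ h1 h2 =>
    if_neg fun h => h2 (huni ψ (Finset.ne_of_mem_erase h1) h)]
  rcases hcase with ⟨e, he⟩ | ⟨e, he⟩
  · rw [if_pos (Or.inl e), e, funext he]
  · rw [if_pos (Or.inr e), e, funext he, ← heven, Vec.neg_neg]

/-- The signed values as a function of the eight vectors, in a fixed order. -/
theorem idx1_sum {R : Type*} [AddCommMonoid R] (f : Vec → R) :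
    ∑ v ∈ idx1.toFinset, f v =
      f ⟨0, 0, 0, 1⟩ + (f ⟨0, 0, 1, 0⟩ + (f ⟨0, 0, 1, 1⟩ + (f ⟨0, 1, 0, 0⟩ + (f ⟨0, 1, 1, 0⟩ +
        (f ⟨1, 0, 0, 0⟩ + (f ⟨1, 0, 0, 1⟩ + f ⟨1, 1, 1, 1⟩)))))) := by
  rw [List.sum_toFinset _ idx1_nodup]
  simp [idx1]

/-- Facts about a signed character. -/
theorem Generic.sval_props (hg : K.Generic) {v : Vec} (hv : v ∈ idx1) :
    K.sval v 1 ≠ 0 ∧ 9 ∣ K.sval v 1 + v.u1 - 2 * v.u2 ∧
      (∀ y : G, y * y = 1 → 2 ∣ K.sval v 1 + K.sval v y) ∧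
      3 ∣ K.sval v K.s - v.v1 ∧ 3 ∣ K.sval v K.w - v.v2 := by
  obtain ⟨χ, -, -, hcase⟩ := hg.exists_char hv
  obtain ⟨c1, -, -, -, c5, c6⟩ := K.congr_facts χ
  obtain ⟨e1, e2, e3, e4, -⟩ := K.vec_spec χ
  have hd : val χ 1 ≠ 0 := fun h => by
    have e := (invol_val (IsIrr.isCharacter χ.2) K.w_sq).1
    rw [show zv (χ : G → ℂ) 1 = 0 from h, Int.cast_zero] at e
    exact IsIrr.one_ne_zero χ.2 e.symm
  have hpar : ∀ y : G, y * y = 1 → 2 ∣ val χ 1 + val χ y := fun y hy =>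
    (invol_val (IsIrr.isCharacter χ.2) hy).2.2.2
  rcases hcase with ⟨e, he⟩ | ⟨e, he⟩ <;> rw [e] at e1 e2 e3 e4 <;> simp only [he]
  · exact ⟨hd, by omega, hpar, by omega, by omega⟩
  · simp only [Vec.neg, Vec.u1, Vec.u2, Vec.v1, Vec.v2] at e1 e2 e3 e4 ⊢
    refine ⟨neg_ne_zero.2 hd, by omega, fun y hy => ?_, by omega, by omega⟩
    have := hpar y hy
    omega

theorem Generic.linear (hg : K.Generic) {x y : G} (u : Vec → ℤ)
    (hu : ∀ χ : Cfsg.IrrCharacter G, u (K.vec χ) = val χ x) (hneg : ∀ v, u v.neg = -u v)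
    (h0 : u ⟨0, 0, 0, 0⟩ = 0) (hxy : ¬ IsConj x y) (hy : y * y = 1)
    (hvx : ∀ χ : Cfsg.IrrCharacter G, ((val χ x : ℤ) : ℂ) = (χ : G → ℂ) x) :
    u ⟨-1, -1, 0, 0⟩ + ∑ v ∈ idx1.toFinset, u v * K.sval v y = 0 := by
  have h := Cfg.orth (fun χ => (invol_val (IsIrr.isCharacter χ.2) hy).2.1) hvx
    (n := 0) ((second_orthogonality_not_isConj hxy).trans Nat.cast_zero.symm)
  have e := hg.sum_eq (fun v F => u v * F y) (fun v F => by rw [hneg]; ring)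
    (fun F => by rw [h0, zero_mul])
  simp only [hu, mul_one] at e
  rw [← e]
  exact h

/-- The four linear relations. -/
theorem Generic.rel (hg : K.Generic) {y : G} (hy : y * y = 1) :
    (1 - 2 * K.sval ⟨0, 0, 0, 1⟩ y + K.sval ⟨0, 0, 1, 0⟩ y - K.sval ⟨0, 0, 1, 1⟩ y -
      2 * K.sval ⟨0, 1, 0, 0⟩ y - K.sval ⟨0, 1, 1, 0⟩ y + K.sval ⟨1, 0, 0, 0⟩ y -
      K.sval ⟨1, 0, 0, 1⟩ y - 2 * K.sval ⟨1, 1, 1, 1⟩ y = 0) ∧
    (1 + K.sval ⟨0, 0, 0, 1⟩ y - 2 * K.sval ⟨0, 0, 1, 0⟩ y - K.sval ⟨0, 0, 1, 1⟩ y +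
      K.sval ⟨0, 1, 0, 0⟩ y - K.sval ⟨0, 1, 1, 0⟩ y - 2 * K.sval ⟨1, 0, 0, 0⟩ y -
      K.sval ⟨1, 0, 0, 1⟩ y - 2 * K.sval ⟨1, 1, 1, 1⟩ y = 0) ∧
    (1 + K.sval ⟨0, 0, 1, 0⟩ y + K.sval ⟨0, 0, 1, 1⟩ y + K.sval ⟨0, 1, 1, 0⟩ y -
      K.sval ⟨1, 0, 0, 0⟩ y - K.sval ⟨1, 0, 0, 1⟩ y = 0) ∧
    (1 + K.sval ⟨0, 0, 0, 1⟩ y + K.sval ⟨0, 0, 1, 1⟩ y - K.sval ⟨0, 1, 0, 0⟩ y -
      K.sval ⟨0, 1, 1, 0⟩ y + K.sval ⟨1, 0, 0, 1⟩ y = 0) := by
  have a1 := hg.linear Vec.u1 (fun χ => (K.vec_spec χ).1) (fun v => by simp [Vec.neg, Vec.u1]; ring)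
    rfl (K.e_not_conj_invol hy).1 hy
    (fun χ => (K.basic_vals (IsIrr.isCharacter χ.2)).1)
  have a2 := hg.linear Vec.u2 (fun χ => (K.vec_spec χ).2.1)
    (fun v => by simp [Vec.neg, Vec.u2]; ring) rfl (K.symm.e_not_conj_invol hy).1 hy K.u2_cast
  have a3 := hg.linear Vec.v1 (fun χ => (K.vec_spec χ).2.2.1)
    (fun v => by simp [Vec.neg, Vec.v1]; ring) rfl (K.e_not_conj_invol hy).2 hy
    (fun χ => (K.basic_vals (IsIrr.isCharacter χ.2)).2.1)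
  have a4 := hg.linear Vec.v2 (fun χ => (K.vec_spec χ).2.2.2.1)
    (fun v => by simp [Vec.neg, Vec.v2]; ring) rfl
    (show ¬ IsConj (K.g2 * K.w) y from (K.symm.e_not_conj_invol hy).2) hy K.v2_cast
  simp only [idx1_sum, Vec.u1] at a1
  simp only [idx1_sum, Vec.u2] at a2
  simp only [idx1_sum, Vec.v1] at a3
  simp only [idx1_sum, Vec.v2] at a4
  exact ⟨by linarith, by linarith, by linarith, by linarith⟩

end Cfg

/-- The difference of a signed character from its degree. -/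
noncomputable def Cfg.dl (v : Vec) (y : G) : ℚ := (K.sval v y : ℚ) - K.sval v 1

/-- The quadratic term of a signed character. -/
noncomputable def Cfg.qt (v : Vec) (y y' : G) : ℚ := K.dl v y * K.dl v y' / K.sval v 1

/-- Order of the centraliser, as a rational. -/
noncomputable def cc (y : G) : ℚ := Nat.card (centralizer ({y} : Set G))

namespace Cfg

variable {K}

theorem Generic.quadratic (hg : K.Generic) {x y y' : G} (u : Vec → ℤ)
    (hu : ∀ χ : Cfsg.IrrCharacter G, u (K.vec χ) = val χ x) (hneg : ∀ v, u v.neg = -u v)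
    (h0 : u ⟨0, 0, 0, 0⟩ = 0) (hx : x ≠ 1) (hxy : ¬ IsConj x y) (hxy' : ¬ IsConj x y')
    (hy : y * y = 1) (hy' : y' * y' = 1)
    (hvx : ∀ χ : Cfsg.IrrCharacter G, ((val χ x : ℤ) : ℂ) = (χ : G → ℂ) x) :
    ∑ v ∈ idx1.toFinset, (u v : ℚ) * K.qt v y y' = (nPairs x y y' : ℚ) * cc y * cc y' / Nat.card G := by
  have h := pair_sum hx hxy hxy' hy hy' hvx
  have e := hg.sum_eq
    (fun v F => (u v : ℚ) * ((F y : ℚ) - F 1) * ((F y' : ℚ) - F 1) / (F 1 : ℚ))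
    (fun v F => by
      simp only [hneg, Int.cast_neg]
      rw [show -(u v : ℚ) * (-(F y : ℚ) - -(F 1 : ℚ)) * (-(F y' : ℚ) - -(F 1 : ℚ)) =
        -((u v : ℚ) * ((F y : ℚ) - F 1) * ((F y' : ℚ) - F 1)) by ring, neg_div_neg_eq])
    (fun F => by simp [h0])
  simp only [hu, Int.cast_one, sub_self, mul_zero, zero_div, zero_add] at e
  unfold cc
  rw [← h, e]
  exact Finset.sum_congr rfl fun v _ => by rw [qt, dl, dl]; ring

/-- The four quadratic relations. -/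
theorem Generic.qrel (hg : K.Generic) {y y' : G} (hy : y * y = 1) (hy' : y' * y' = 1) :
    (-2 * K.qt ⟨0, 0, 0, 1⟩ y y' + K.qt ⟨0, 0, 1, 0⟩ y y' - K.qt ⟨0, 0, 1, 1⟩ y y' -
      2 * K.qt ⟨0, 1, 0, 0⟩ y y' - K.qt ⟨0, 1, 1, 0⟩ y y' + K.qt ⟨1, 0, 0, 0⟩ y y' -
      K.qt ⟨1, 0, 0, 1⟩ y y' - 2 * K.qt ⟨1, 1, 1, 1⟩ y y' =
        (9 * (ind K.z y : ℚ) * ind K.z y' + 3 * ind K.s y * ind K.s y') * cc y * cc y' / Nat.card G) ∧
    (K.qt ⟨0, 0, 0, 1⟩ y y' - 2 * K.qt ⟨0, 0, 1, 0⟩ y y' - K.qt ⟨0, 0, 1, 1⟩ y y' +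
      K.qt ⟨0, 1, 0, 0⟩ y y' - K.qt ⟨0, 1, 1, 0⟩ y y' - 2 * K.qt ⟨1, 0, 0, 0⟩ y y' -
      K.qt ⟨1, 0, 0, 1⟩ y y' - 2 * K.qt ⟨1, 1, 1, 1⟩ y y' =
        (9 * (ind K.z y : ℚ) * ind K.z y' + 3 * ind K.w y * ind K.w y') * cc y * cc y' / Nat.card G) ∧
    (K.qt ⟨0, 0, 1, 0⟩ y y' + K.qt ⟨0, 0, 1, 1⟩ y y' + K.qt ⟨0, 1, 1, 0⟩ y y' -
      K.qt ⟨1, 0, 0, 0⟩ y y' - K.qt ⟨1, 0, 0, 1⟩ y y' =
        (3 * (ind K.z y : ℚ) * ind K.s y' + 3 * ind K.s y * ind K.z y') * cc y * cc y' / Nat.card G) ∧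
    (K.qt ⟨0, 0, 0, 1⟩ y y' + K.qt ⟨0, 0, 1, 1⟩ y y' - K.qt ⟨0, 1, 0, 0⟩ y y' -
      K.qt ⟨0, 1, 1, 0⟩ y y' + K.qt ⟨1, 0, 0, 1⟩ y y' =
        (3 * (ind K.z y : ℚ) * ind K.w y' + 3 * ind K.w y * ind K.z y') * cc y * cc y' / Nat.card G) := by
  have a1 := hg.quadratic (y := y) (y' := y') Vec.u1 (fun χ => (K.vec_spec χ).1)
    (fun v => by simp [Vec.neg, Vec.u1]; ring)
    rfl K.e_ne (K.e_not_conj_invol hy).1 (K.e_not_conj_invol hy').1 hy hy'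
    (fun χ => (K.basic_vals (IsIrr.isCharacter χ.2)).1)
  have a2 := hg.quadratic (y := y) (y' := y') Vec.u2 (fun χ => (K.vec_spec χ).2.1)
    (fun v => by simp [Vec.neg, Vec.u2]; ring) rfl K.g2_ne (K.symm.e_not_conj_invol hy).1
    (K.symm.e_not_conj_invol hy').1 hy hy' K.u2_cast
  have a3 := hg.quadratic (y := y) (y' := y') Vec.v1 (fun χ => (K.vec_spec χ).2.2.1)
    (fun v => by simp [Vec.neg, Vec.v1]; ring) rfl K.es_ne (K.e_not_conj_invol hy).2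
    (K.e_not_conj_invol hy').2 hy hy'
    (fun χ => (K.basic_vals (IsIrr.isCharacter χ.2)).2.1)
  have a4 := hg.quadratic (x := K.g2 * K.w) (y := y) (y' := y') Vec.v2
    (fun χ => (K.vec_spec χ).2.2.2.1) (fun v => by simp [Vec.neg, Vec.v2]; ring) rfl
    K.symm.es_ne (K.symm.e_not_conj_invol hy).2 (K.symm.e_not_conj_invol hy').2 hy hy' K.v2_cast
  rw [K.nPairs_e hy hy'] at a1
  rw [show nPairs K.g2 y y' = _ from K.symm.nPairs_e hy hy', symm_z, symm_s] at a2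
  rw [K.nPairs_es hy hy'] at a3
  rw [show nPairs (K.g2 * K.w) y y' = _ from K.symm.nPairs_es hy hy', symm_z, symm_s] at a4
  simp only [idx1_sum, Vec.u1] at a1
  simp only [idx1_sum, Vec.u2] at a2
  simp only [idx1_sum, Vec.v1] at a3
  simp only [idx1_sum, Vec.v2] at a4
  push_cast at a1 a2 a3 a4
  exact ⟨by linarith, by linarith, by linarith, by linarith⟩

end Cfg

/-- A binary quadratic form in the coordinates used below. -/
def bf (A B C p1 p2 q1 q2 : ℚ) : ℚ := A * p1 * q1 + B * (p1 * q2 + p2 * q1) + C * p2 * q2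

theorem bf_kernel {A B C p1 p2 q1 q2 t1 t2 : ℚ}
    (hdet : bf A B C p1 p2 p1 p2 * bf A B C q1 q2 q1 q2 - bf A B C p1 p2 q1 q2 ^ 2 ≠ 0)
    (h1 : bf A B C p1 p2 t1 t2 = 0) (h2 : bf A B C q1 q2 t1 t2 = 0) : t1 = 0 ∧ t2 = 0 := by
  have hw : (A * C - B ^ 2) * (p1 * q2 - p2 * q1) ^ 2 ≠ 0 := by
    convert hdet using 1; unfold bf; ring
  have hw1 := (mul_ne_zero_iff.1 hw).1
  have hw2 : p1 * q2 - p2 * q1 ≠ 0 := fun h => hw (by rw [h]; ring)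
  unfold bf at h1 h2
  constructor
  · apply mul_left_cancel₀ (mul_ne_zero hw1 hw2)
    rw [mul_zero]
    linear_combination (B * q1 + C * q2) * h1 - (B * p1 + C * p2) * h2
  · apply mul_left_cancel₀ (mul_ne_zero hw1 hw2)
    rw [mul_zero]
    linear_combination (A * p1 + B * p2) * h2 - (A * q1 + B * q2) * h1

namespace Cfg

variable {K}

/-- The first form, in the coordinates of `e` and `b`. -/
noncomputable def form1 (K : Cfg G) (p1 p2 q1 q2 : ℚ) : ℚ :=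
  bf (1 / (K.sval ⟨0, 0, 1, 0⟩ 1 : ℚ) - 1 / (K.sval ⟨0, 1, 0, 0⟩ 1 : ℚ))
    (-1 / (K.sval ⟨0, 0, 1, 0⟩ 1 : ℚ))
    (1 / (K.sval ⟨0, 0, 1, 0⟩ 1 : ℚ) + 1 / (K.sval ⟨0, 0, 1, 1⟩ 1 : ℚ)) p1 p2 q1 q2

/-- The second form, in the coordinates of `h` and `b`. -/
noncomputable def form2 (K : Cfg G) (p1 p2 q1 q2 : ℚ) : ℚ :=
  bf (1 / (K.sval ⟨0, 0, 0, 1⟩ 1 : ℚ) - 1 / (K.sval ⟨1, 0, 0, 0⟩ 1 : ℚ))
    (-1 / (K.sval ⟨0, 0, 0, 1⟩ 1 : ℚ))
    (1 / (K.sval ⟨0, 0, 0, 1⟩ 1 : ℚ) + 1 / (K.sval ⟨0, 0, 1, 1⟩ 1 : ℚ)) p1 p2 q1 q2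

theorem Generic.rel' (hg : K.Generic) {y : G} (hy : y * y = 1) :
    K.sval ⟨0, 0, 1, 0⟩ y - K.sval ⟨0, 1, 0, 0⟩ y + K.sval ⟨0, 0, 1, 1⟩ y = -1 ∧
    K.sval ⟨0, 0, 0, 1⟩ y - K.sval ⟨1, 0, 0, 0⟩ y + K.sval ⟨0, 0, 1, 1⟩ y = -1 := by
  obtain ⟨r1, r2, r3, r4⟩ := hg.rel hy
  omega

theorem Generic.forms (hg : K.Generic) {y y' : G} (hy : y * y = 1) (hy' : y' * y' = 1) :
    K.form1 (K.dl ⟨0, 1, 0, 0⟩ y / cc y) (K.dl ⟨0, 0, 1, 1⟩ y / cc y)
        (K.dl ⟨0, 1, 0, 0⟩ y' / cc y') (K.dl ⟨0, 0, 1, 1⟩ y' / cc y') =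
      (3 * ((ind K.z y : ℚ) * ind K.s y' + ind K.s y * ind K.z y') +
       3 * ((ind K.z y : ℚ) * ind K.w y' + ind K.w y * ind K.z y') +
       (ind K.s y * ind K.s y' - (ind K.w y : ℚ) * ind K.w y')) / 2 / Nat.card G ∧
    K.form2 (K.dl ⟨1, 0, 0, 0⟩ y / cc y) (K.dl ⟨0, 0, 1, 1⟩ y / cc y)
        (K.dl ⟨1, 0, 0, 0⟩ y' / cc y') (K.dl ⟨0, 0, 1, 1⟩ y' / cc y') =
      (3 * ((ind K.z y : ℚ) * ind K.s y' + ind K.s y * ind K.z y') +
       3 * ((ind K.z y : ℚ) * ind K.w y' + ind K.w y * ind K.z y') -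
       (ind K.s y * ind K.s y' - (ind K.w y : ℚ) * ind K.w y')) / 2 / Nat.card G := by
  obtain ⟨q1, q2, q3, q4⟩ := hg.qrel hy hy'
  obtain ⟨r1, r2⟩ := hg.rel' hy
  obtain ⟨r1', r2'⟩ := hg.rel' hy'
  obtain ⟨r10, r20⟩ := hg.rel' (y := (1 : G)) (one_mul 1)
  have hc : ∀ t : G, cc t ≠ 0 := fun t => Nat.cast_ne_zero.2 Nat.card_pos.ne'
  have e1 : K.qt ⟨0, 0, 1, 0⟩ y y' =
      (K.dl ⟨0, 1, 0, 0⟩ y - K.dl ⟨0, 0, 1, 1⟩ y) *
        (K.dl ⟨0, 1, 0, 0⟩ y' - K.dl ⟨0, 0, 1, 1⟩ y') / K.sval ⟨0, 0, 1, 0⟩ 1 := by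
    unfold qt dl
    have f := congrArg (Int.cast : ℤ → ℚ) r1
    have f' := congrArg (Int.cast : ℤ → ℚ) r1'
    have f0 := congrArg (Int.cast : ℤ → ℚ) r10
    push_cast at f f' f0
    congr 2 <;> linarith
  have e2 : K.qt ⟨0, 0, 0, 1⟩ y y' =
      (K.dl ⟨1, 0, 0, 0⟩ y - K.dl ⟨0, 0, 1, 1⟩ y) *
        (K.dl ⟨1, 0, 0, 0⟩ y' - K.dl ⟨0, 0, 1, 1⟩ y') / K.sval ⟨0, 0, 0, 1⟩ 1 := by
    unfold qt dl
    have f := congrArg (Int.cast : ℤ → ℚ) r2
    have f' := congrArg (Int.cast : ℤ → ℚ) r2'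
    have f0 := congrArg (Int.cast : ℤ → ℚ) r20
    push_cast at f f' f0
    congr 2 <;> linarith
  have hf1 : K.qt ⟨0, 0, 1, 0⟩ y y' - K.qt ⟨0, 1, 0, 0⟩ y y' + K.qt ⟨0, 0, 1, 1⟩ y y' =
      (3 * ((ind K.z y : ℚ) * ind K.s y' + ind K.s y * ind K.z y') +
       3 * ((ind K.z y : ℚ) * ind K.w y' + ind K.w y * ind K.z y') +
       (ind K.s y * ind K.s y' - (ind K.w y : ℚ) * ind K.w y')) / 2 / Nat.card G * (cc y * cc y') := by
    linear_combination (q3 + q4) / 2 + (q1 - q2) / 6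
  have hf2 : K.qt ⟨0, 0, 0, 1⟩ y y' - K.qt ⟨1, 0, 0, 0⟩ y y' + K.qt ⟨0, 0, 1, 1⟩ y y' =
      (3 * ((ind K.z y : ℚ) * ind K.s y' + ind K.s y * ind K.z y') +
       3 * ((ind K.z y : ℚ) * ind K.w y' + ind K.w y * ind K.z y') -
       (ind K.s y * ind K.s y' - (ind K.w y : ℚ) * ind K.w y')) / 2 / Nat.card G * (cc y * cc y') := by
    linear_combination (q3 + q4) / 2 - (q1 - q2) / 6
  constructor <;> refine mul_right_cancel₀ (mul_ne_zero (hc y) (hc y')) ?_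
  · rw [← hf1, e1]
    unfold form1 bf qt
    have := hc y
    have := hc y'
    field_simp
    ring
  · rw [← hf2, e2]
    unfold form2 bf qt
    have := hc y
    have := hc y'
    field_simp
    ring

end Cfg

end Cfsg.Agent.H33.ExcThree
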