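import Mathlib

/-!
# The lattice of the exceptional columns: a finite enumeration
-/

set_option autoImplicit false

namespace Cfsg.Agent.H33.ExcThree

/-- A coefficient vector of an irreducible character. -/
structure Vec where
  a : ℤ
  b : ℤ
  c : ℤ
  d : ℤ
deriving DecidableEq

namespace Vec

/-- Value at `e`. -/
def u1 (v : Vec) : ℤ := v.a + v.c - 2 * (v.b + v.d)
/-- Value at `g2`. -/
def u2 (v : Vec) : ℤ := v.b + v.d - 2 * (v.a + v.c)
/-- Value at `e * s`. -/
def v1 (v : Vec) : ℤ := v.c - v.a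
/-- Value at `g2 * w`. -/
def v2 (v : Vec) : ℤ := v.d - v.b

/-- The poles. -/
def pole (v : Vec) : Bool := v.u1 % 3 == 0 && !(v.v2 == 0)

/-- Separating `s` from `w`. -/
def sep (v : Vec) : Bool := !((v.v1 - v.v2) % 3 == 0)

end Vec

/-- The upper triangle of a symmetric matrix of size four. -/
structure Ten where
  aa : ℤ
  bb : ℤ
  cc : ℤ
  dd : ℤ
  ab : ℤ
  ac : ℤ
  ad : ℤ
  bc : ℤ
  bd : ℤ
  cd : ℤ
deriving DecidableEq

/-- The forty normalised vectors. -/
def vecs : List Vec :=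
  [(1, -1, -1, -1), (1, -1, -1, 1), (1, -1, 1, -1), (1, -1, 1, 1), (1, 1, -1, -1), (1, 1, -1, 1),
   (1, 1, 1, -1), (1, 1, 1, 1), (1, -1, -1, 0), (1, -1, 1, 0), (1, 1, -1, 0), (1, 1, 1, 0),
   (1, -1, 0, -1), (1, -1, 0, 1), (1, 1, 0, -1), (1, 1, 0, 1), (1, -1, 0, 0), (1, 1, 0, 0),
   (1, 0, -1, -1), (1, 0, -1, 1), (1, 0, 1, -1), (1, 0, 1, 1), (1, 0, -1, 0), (1, 0, 1, 0),
   (1, 0, 0, -1), (1, 0, 0, 1), (1, 0, 0, 0), (0, 1, -1, -1), (0, 1, -1, 1), (0, 1, 1, -1),
   (0, 1, 1, 1), (0, 1, -1, 0), (0, 1, 1, 0), (0, 1, 0, -1), (0, 1, 0, 1), (0, 1, 0, 0),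
   (0, 0, 1, -1), (0, 0, 1, 1), (0, 0, 1, 0), (0, 0, 0, 1)].map
    fun p : ℤ × ℤ × ℤ × ℤ => ⟨p.1, p.2.1, p.2.2.1, p.2.2.2⟩

/-- The Gram matrix of the nontrivial characters. -/
def gram0 : Ten := ⟨3, 3, 4, 4, 1, 1, 2, 2, 1, 2⟩

/-- The vectors of the surviving solution, each of multiplicity one. -/
def idx1 : List Vec :=
  [⟨0, 0, 0, 1⟩, ⟨0, 0, 1, 0⟩, ⟨0, 0, 1, 1⟩, ⟨0, 1, 0, 0⟩, ⟨0, 1, 1, 0⟩, ⟨1, 0, 0, 0⟩,
   ⟨1, 0, 0, 1⟩, ⟨1, 1, 1, 1⟩]

/-- Weighted sum. -/
def wsum (l : List Vec) (k : Vec → ℕ) (f : Vec → ℤ) : ℤ := (l.map fun v => (k v : ℤ) * f v).sum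

/-- Gram matrix of a weighted family. -/
def gram (l : List Vec) (k : Vec → ℕ) : Ten :=
  ⟨wsum l k fun v => v.a * v.a, wsum l k fun v => v.b * v.b, wsum l k fun v => v.c * v.c,
   wsum l k fun v => v.d * v.d, wsum l k fun v => v.a * v.b, wsum l k fun v => v.a * v.c,
   wsum l k fun v => v.a * v.d, wsum l k fun v => v.b * v.c, wsum l k fun v => v.b * v.d,
   wsum l k fun v => v.c * v.d⟩

/-- Remove `k` copies of `v`. -/
def rmv (k : ℕ) (v : Vec) (R : Ten) : Ten :=
  ⟨R.aa - k * (v.a * v.a), R.bb - k * (v.b * v.b), R.cc - k * (v.c * v.c), R.dd - k * (v.d * v.d),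
   R.ab - k * (v.a * v.b), R.ac - k * (v.a * v.c), R.ad - k * (v.a * v.d), R.bc - k * (v.b * v.c),
   R.bd - k * (v.b * v.d), R.cd - k * (v.c * v.d)⟩

/-- An impossible diagonal entry. -/
def badDiag (r : ℤ) (l : List Vec) (f : Vec → ℤ) : Bool :=
  decide (r < 0) || (decide (0 < r) && l.all fun v => decide (f v ≤ 0))

/-- An impossible off-diagonal entry. -/
def badOff (r ri rj : ℤ) (l : List Vec) (f : Vec → ℤ) : Bool :=
  decide (ri < r) || decide (rj < r) || decide (ri < -r) || decide (rj < -r) ||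
    (decide (0 < r) && l.all fun v => decide (f v ≤ 0)) ||
    (decide (r < 0) && l.all fun v => decide (0 ≤ f v))

/-- An impossible remainder. -/
def bad (l : List Vec) (R : Ten) : Bool :=
  badDiag R.aa l (fun v => v.a * v.a) || badDiag R.bb l (fun v => v.b * v.b) ||
  badDiag R.cc l (fun v => v.c * v.c) || badDiag R.dd l (fun v => v.d * v.d) ||
  badOff R.ab R.aa R.bb l (fun v => v.a * v.b) || badOff R.ac R.aa R.cc l (fun v => v.a * v.c) ||
  badOff R.ad R.aa R.dd l (fun v => v.a * v.d) || badOff R.bc R.bb R.cc l (fun v => v.b * v.c) ||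
  badOff R.bd R.bb R.dd l (fun v => v.b * v.d) || badOff R.cd R.cc R.dd l (fun v => v.c * v.d)

/-- What every solution satisfies. -/
def good (acc : List (Vec × ℕ)) : Bool :=
  (((acc.filter fun p => p.1.pole).map Prod.snd).sum == 1 ||
    acc.all fun p => p.2 == (if p.1 ∈ idx1 then 1 else 0)) &&
  acc.any fun p => p.1.sep && !(p.2 == 0)

/-- Exhaustive search. -/
def check : List Vec → Ten → List (Vec × ℕ) → Bool
  | [], R, acc => if R = ⟨0, 0, 0, 0, 0, 0, 0, 0, 0, 0⟩ then good acc else true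
  | v :: l, R, acc =>
    bad (v :: l) R || ([0, 1, 2, 3, 4].all fun k => check l (rmv k v R) ((v, k) :: acc))

theorem wsum_cons (v : Vec) (l : List Vec) (k : Vec → ℕ) (f : Vec → ℤ) :
    wsum (v :: l) k f = k v * f v + wsum l k f := by
  simp [wsum]

theorem wsum_nonneg {l : List Vec} (k : Vec → ℕ) {f : Vec → ℤ} (hf : ∀ v ∈ l, 0 ≤ f v) :
    0 ≤ wsum l k f := by
  induction l with
  | nil => simp [wsum]
  | cons v l ih =>
    rw [wsum_cons]
    have := hf v List.mem_cons_self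
    have := ih fun u hu => hf u (List.mem_cons_of_mem _ hu)
    positivity

theorem wsum_le {l : List Vec} (k : Vec → ℕ) {f g : Vec → ℤ} (hf : ∀ v ∈ l, f v ≤ g v) :
    wsum l k f ≤ wsum l k g :=
  List.sum_le_sum fun v hv => mul_le_mul_of_nonneg_left (hf v hv) (Nat.cast_nonneg _)

theorem wsum_neg (l : List Vec) (k : Vec → ℕ) (f : Vec → ℤ) :
    wsum l k (fun v => -f v) = -wsum l k f := by
  induction l with
  | nil => simp [wsum]
  | cons v l ih => rw [wsum_cons, wsum_cons, ih]; ring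

theorem badDiag_eq_false {l : List Vec} (k : Vec → ℕ) {f : Vec → ℤ} (hf : ∀ v ∈ l, 0 ≤ f v) :
    badDiag (wsum l k f) l f = false := by
  by_contra h
  simp only [Bool.not_eq_false, badDiag, Bool.or_eq_true, Bool.and_eq_true, decide_eq_true_eq,
    List.all_eq_true] at h
  have h0 := wsum_nonneg k hf
  rcases h with h | ⟨h, h'⟩
  · omega
  · have := wsum_le k (g := fun _ => 0) h'
    simp [wsum] at this h
    omega

theorem badOff_eq_false {l : List Vec} (k : Vec → ℕ) {f g g' : Vec → ℤ}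
    (hg : ∀ v ∈ l, |f v| ≤ g v) (hg' : ∀ v ∈ l, |f v| ≤ g' v) :
    badOff (wsum l k f) (wsum l k g) (wsum l k g') l f = false := by
  by_contra h
  simp only [Bool.not_eq_false, badOff, Bool.or_eq_true, Bool.and_eq_true, decide_eq_true_eq,
    List.all_eq_true] at h
  have h1 := wsum_le k fun v hv => (le_abs_self (f v)).trans (hg v hv)
  have h2 := wsum_le k fun v hv => (le_abs_self (f v)).trans (hg' v hv)
  have h3 := wsum_le k fun v hv => (neg_le_abs (f v)).trans (hg v hv)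
  have h4 := wsum_le k fun v hv => (neg_le_abs (f v)).trans (hg' v hv)
  rw [wsum_neg] at h3 h4
  rcases h with ((((h | h) | h) | h) | ⟨h, h'⟩) | ⟨h, h'⟩
  · omega
  · omega
  · omega
  · omega
  · have := wsum_le k (g := fun _ => 0) h'
    simp [wsum] at this h
    omega
  · have := wsum_le k (f := fun _ => 0) h'
    simp [wsum] at this h
    omega

theorem rmv_gram (v : Vec) (l : List Vec) (k : Vec → ℕ) :
    rmv (k v) v (gram (v :: l) k) = gram l k := by
  simp only [rmv, gram, wsum_cons, Ten.mk.injEq]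
  refine ⟨?_, ?_, ?_, ?_, ?_, ?_, ?_, ?_, ?_, ?_⟩ <;> ring

/-- Entries in `{-1, 0, 1}`. -/
def Small (v : Vec) : Prop := |v.a| ≤ 1 ∧ |v.b| ≤ 1 ∧ |v.c| ≤ 1 ∧ |v.d| ≤ 1

theorem abs_mul_le_sq {x y : ℤ} (hy : |y| ≤ 1) : |x * y| ≤ x * x := by
  rw [abs_mul]
  rcases eq_or_ne x 0 with rfl | hx
  · simp
  · have : 1 ≤ |x| := Int.one_le_abs hx
    nlinarith [abs_mul_abs_self x, abs_nonneg y]

theorem abs_mul_le_sq' {x y : ℤ} (hx : |x| ≤ 1) : |x * y| ≤ y * y := by
  rw [mul_comm x y]; exact abs_mul_le_sq hx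

theorem bad_eq_false {l : List Vec} (k : Vec → ℕ) (hl : ∀ v ∈ l, Small v) :
    bad l (gram l k) = false := by
  simp only [bad, gram, Bool.or_eq_false_iff]
  refine ⟨⟨⟨⟨⟨⟨⟨⟨⟨?_, ?_⟩, ?_⟩, ?_⟩, ?_⟩, ?_⟩, ?_⟩, ?_⟩, ?_⟩, ?_⟩
  all_goals first
    | exact badDiag_eq_false k fun v _ => mul_self_nonneg _
    | exact badOff_eq_false k (fun v hv => abs_mul_le_sq (by first
          | exact (hl v hv).2.1
          | exact (hl v hv).2.2.1
          | exact (hl v hv).2.2.2))
        (fun v hv => abs_mul_le_sq' (by first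
          | exact (hl v hv).1
          | exact (hl v hv).2.1
          | exact (hl v hv).2.2.1))

theorem check_sound (k : Vec → ℕ) : ∀ (l : List Vec) (R : Ten) (acc : List (Vec × ℕ)),
    (∀ v ∈ l, Small v) → (∀ v ∈ l, k v ≤ 4) → gram l k = R → check l R acc = true →
    good ((l.map fun v => (v, k v)).reverse ++ acc) = true := by
  intro l
  induction l with
  | nil =>
    intro R acc _ _ hR h
    subst hR
    simpa [check, gram, wsum] using h
  | cons v l ih =>
    intro R acc hs hk hR h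
    subst hR
    rw [check, bad_eq_false k hs, Bool.false_or, List.all_eq_true] at h
    have hv := hk v List.mem_cons_self
    have h' := h (k v) (by interval_cases (k v) <;> simp)
    rw [rmv_gram] at h'
    have := ih _ _ (fun u hu => hs u (List.mem_cons_of_mem _ hu))
      (fun u hu => hk u (List.mem_cons_of_mem _ hu)) rfl h'
    simpa [List.map_cons, List.reverse_cons, List.append_assoc] using this

set_option maxRecDepth 10000 in
theorem check_gram0 : check vecs gram0 [] = true := by decide +kernel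

theorem vecs_small : ∀ v ∈ vecs, Small v := by
  unfold Small vecs
  decide

theorem vecs_nodup : vecs.Nodup := by decide

/-- The outcome of the enumeration. -/
theorem enum (k : Vec → ℕ) (hk : ∀ v ∈ vecs, k v ≤ 4) (hR : gram vecs k = gram0) :
    (((vecs.filter Vec.pole).map k).sum = 1 ∨
      ∀ v ∈ vecs, k v = if v ∈ idx1 then 1 else 0) ∧
    ∃ v ∈ vecs, v.sep = true ∧ k v ≠ 0 := by
  have h := check_sound k vecs gram0 [] vecs_small hk hR check_gram0
  rw [List.append_nil, good, Bool.and_eq_true, Bool.or_eq_true] at h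
  obtain ⟨h1, h2⟩ := h
  constructor
  · rcases h1 with h1 | h1
    · left
      rw [beq_iff_eq, List.filter_reverse, List.map_reverse, List.sum_reverse, List.filter_map,
        List.map_map] at h1
      exact h1
    · right
      intro v hv
      rw [List.all_eq_true] at h1
      exact beq_iff_eq.1 (h1 (v, k v) (List.mem_reverse.2 (List.mem_map.2 ⟨v, hv, rfl⟩)))
  · simp only [List.any_eq_true, List.mem_reverse, List.mem_map] at h2
    obtain ⟨_, ⟨v, hv, rfl⟩, h3⟩ := h2
    exact ⟨v, hv, by simpa using h3⟩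

end Cfsg.Agent.H33.ExcThree
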