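import Cfsg.Agent.H33.ExcThree.Degrees
import Cfsg.Agent.H64.CentSym.AltSix
import Cfsg.Agent.S0497

/-!
# Recognition of the symmetric group of degree six
-/

set_option autoImplicit false

namespace Cfsg.Agent.H33.ExcThree

open Cfsg.Agent.CharBasic Cfsg.Agent.H83 Subgroup

universe u

variable {G : Type u} [Group G] [Fintype G] {K : Cfg G}

namespace Cfg

theorem Generic.exists_idx (hg : K.Generic) {ψ : Cfsg.IrrCharacter G} (h : ψ ≠ triv)
    (h0 : K.vec ψ ≠ ⟨0, 0, 0, 0⟩) : ∃ v ∈ idx1, K.vec ψ = v ∨ K.vec ψ = v.neg := by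
  have := cover _ (mem_smallVecs (K.vec_small ψ))
  rw [if_neg h0] at this
  obtain ⟨v, hv⟩ := List.length_eq_one_iff.1 this
  have hmem : v ∈ vecs.filter (fun v => decide (K.vec ψ = v ∨ K.vec ψ = v.neg)) := by
    rw [hv]; exact List.mem_singleton_self v
  rw [List.mem_filter, decide_eq_true_eq] at hmem
  refine ⟨v, ?_, hmem.2⟩
  by_contra hni
  have hm := hg v hmem.1
  rw [if_neg hni, mult, Finset.card_eq_zero, Finset.filter_eq_empty_iff] at hm
  exact hm (Finset.mem_erase.2 ⟨h, Finset.mem_univ _⟩) hmem.2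

/-- The exceptional characters take integral values. -/
theorem Generic.int_valued (hg : K.Generic) {v : Vec} (hv : v ∈ idx1) {χ : Cfsg.IrrCharacter G}
    (hχ : χ ≠ triv) (hvec : K.vec χ = v ∨ K.vec χ = v.neg) (g : G) :
    ∃ k : ℤ, (χ : G → ℂ) g = k := by
  obtain ⟨χ₀, huni, -, -⟩ := hg.exists_char hv
  have hfix : ∀ σ : ℂ ≃+* ℂ, σ ((χ : G → ℂ) g) = (χ : G → ℂ) g := by
    intro σ
    let ψ : Cfsg.IrrCharacter G := ⟨_, H43.aut_irr σ χ.2⟩
    have hval : ∀ t : G, ((val χ t : ℤ) : ℂ) = (χ : G → ℂ) t → val ψ t = val χ t := by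
      intro t ht
      show zv (fun y => σ ((χ : G → ℂ) y)) t = zv (χ : G → ℂ) t
      refine congrArg (fun c : ℂ => ⌊c.re⌋) ?_
      show σ ((χ : G → ℂ) t) = _
      rw [← ht, map_intCast]
    have hvv : K.vec ψ = K.vec χ := by
      unfold vec
      rw [hval _ (K.basic_vals (IsIrr.isCharacter χ.2)).1, hval _ (K.u2_cast χ),
        hval _ (K.basic_vals (IsIrr.isCharacter χ.2)).2.1, hval _ (K.v2_cast χ)]
    have hne : ψ ≠ triv := fun h => hχ (Subtype.ext (funext fun y => σ.injective (by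
      rw [show σ ((χ : G → ℂ) y) = (triv : Cfsg.IrrCharacter G).1 y from
        congrFun (congrArg Subtype.val h) y]
      show (1 : ℂ) = σ 1
      rw [map_one])))
    have e : ψ = χ := (huni ψ hne (hvv.symm ▸ hvec)).trans (huni χ hχ hvec).symm
    exact congrFun (congrArg Subtype.val e) g
  have hint : IsIntegral ℤ ((χ : G → ℂ) g) := irr_isIntegral χ.2 g
  obtain ⟨q, hq⟩ := H43.rat_of_fixed (hint.tower_top (A := ℚ)) hfix
  exact H43.int_of_rat_integral hint hq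

/-- Degree `-14` does not occur. -/
theorem Generic.not_fourteen (hg : K.Generic) (hzw : ¬ IsConj K.z K.w) (Z : K.Zeta)
    (ha : K.sval ⟨0, 0, 1, 0⟩ 1 = -14) : False := by
  obtain ⟨m, hm, hK, hcases⟩ := hg.key hzw Z
  have hm5 : m = 5 := by omega
  rw [hm5, ha] at hK
  have hA : K.sval ⟨0, 0, 1, 0⟩ K.s = 4 := by omega
  have hzs := Z.z_not_conj_s
  have hsw := K.s_not_conj_w
  obtain ⟨d1, d2, d3, d4, d5⟩ := hg.degrees hzw Z
  have hb := hg.b_eq hzw
  obtain ⟨b1, h1, x1, e1, f1, i1, j1⟩ := hg.vals_s Z K.s_sq Z.at_s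
  obtain ⟨bz, hz1, xz, ez⟩ := hg.vals_z Z
  -- the value at `z`
  obtain ⟨χ, -, -, hcase⟩ := hg.exists_char (v := ⟨0, 0, 1, 0⟩) (by decide)
  obtain ⟨n, hn, hn1⟩ := IsIrr.exists_degree χ.2
  have hd : val χ 1 = n := by simp [val, zv, hn1]
  rcases hcase with ⟨-, he⟩ | ⟨e, he⟩
  · rw [he] at ha; omega
  obtain ⟨u1, -, w1, -⟩ := K.vec_spec χ
  rw [e] at u1 w1
  simp only [Vec.neg, Vec.u1, Vec.v1] at u1 w1
  have q1 := K.dih_nonneg (IsIrr.isCharacter χ.2) 1 1 (Or.inl rfl) (Or.inl rfl)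
  have q2 := K.dih_nonneg (IsIrr.isCharacter χ.2) (-1) (-1) (Or.inr rfl) (Or.inr rfl)
  have ha' := ha
  have hA' := hA
  rw [he] at ha' hA'
  simp only [val] at ha' hA' u1 w1
  have hz : K.sval ⟨0, 0, 1, 0⟩ K.z = -2 := by
    rw [he]; simp only [val]; omega
  obtain ⟨-, -, p3, p4⟩ := hg.qrel K.s_sq K.z_z
  simp only [ind_zero hzs, ind_self, ind_zero' hsw, ind_zero' hzs, ind_zero' hzw] at p3 p4
  simp only [qt, dl, d1, d2, d3, d4, hb, b1, h1, x1, e1, f1, i1, bz, hz1, xz, ez, ha, hA, hz]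
    at p3 p4
  push_cast at p3 p4
  have hN : (Nat.card G : ℚ) ≠ 0 := by simp
  have hsum : -4 * ((-2 : ℚ) + 14) / -14 = 3 * cc K.s * cc K.z / Nat.card G := by
    linear_combination p3 + p4
  have hkey : 2 * cc K.s = 5 * cc K.z := by
    push_cast at hK
    have hc : cc K.s ≠ 0 := Nat.cast_ne_zero.2 Nat.card_pos.ne'
    apply mul_left_cancel₀ hc
    have h' : cc K.s * cc K.z = (8 / 7 : ℚ) * Nat.card G := by
      rw [eq_div_iff hN] at hsum
      norm_num [-Nat.card_eq_fintype_card] at hsum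
      linarith
    linear_combination hK / 7 - 5 * h'
  unfold cc at hkey
  have hkey' : 2 * Nat.card (centralizer ({K.s} : Set G)) = 5 * Nat.card (centralizer ({K.z} : Set G)) := by
    exact_mod_cast hkey
  have h3 := K.three_not_dvd K.z_z K.z_ne (fun h => hzs h.symm) (fun h => hzw h.symm)
  have h3' : 3 ∣ Nat.card (centralizer ({K.s} : Set G)) := by
    have hmem : K.e ∈ centralizer ({K.s} : Set G) :=
      mem_centralizer_singleton_iff.2 K.s_comm_e.eq.symm
    have := Subgroup.orderOf_dvd_natCard _ hmem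
    rwa [K.order_three K.e_mem K.e_ne] at this
  omega

theorem sq_idx_four {c i : ℕ} (h : c * c = 144 * i) (hd : i ∣ 560) (hm : i % 9 = 1) : i = 1 := by
  obtain ⟨k, rfl⟩ : 12 ∣ c := (Nat.pow_dvd_pow_iff two_ne_zero).1 ⟨i, by rw [pow_two, h]⟩
  obtain rfl : i = k * k := by linarith
  have hle := Nat.le_of_dvd (by norm_num) hd
  have hk : k ≤ 23 := by nlinarith
  interval_cases k <;> omega

theorem sq_idx_five {c i : ℕ} (h : 5 * (c * c) = 1152 * i) (hd : i ∣ 50400) (hm : i % 9 = 1) :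
    i = 10 := by
  obtain ⟨t, rfl⟩ : 5 ∣ i := by omega
  obtain ⟨k, rfl⟩ : 24 ∣ c := (Nat.pow_dvd_pow_iff two_ne_zero).1 ⟨2 * t, by
    rw [pow_two, show c * c = 1152 * t by linarith]; ring⟩
  have hk2 : k * k = 2 * t := by linarith
  obtain ⟨l, rfl⟩ : 2 ∣ k := (Nat.prime_two.dvd_mul.1 ⟨t, hk2⟩).elim id id
  obtain rfl : t = 2 * (l * l) := by linarith
  have hd' : l * l ∣ 5040 := by
    have : 10 * (l * l) ∣ 10 * 5040 := by
      rw [show 10 * (l * l) = 5 * (2 * (l * l)) by ring]; exact hd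
    exact Nat.dvd_of_mul_dvd_mul_left (by norm_num) this
  have hle := Nat.le_of_dvd (by norm_num) hd'
  have hl : l ≤ 70 := by nlinarith
  interval_cases l <;> omega

/-- The order of the group. -/
theorem Generic.order (hg : K.Generic) (hzw : ¬ IsConj K.z K.w) (Z : K.Zeta) :
    K.N.index = 1 ∨
      (K.N.index = 10 ∧ K.sval ⟨0, 0, 1, 0⟩ 1 = -5 ∧ K.sval ⟨0, 1, 1, 0⟩ 1 = -10) := by
  obtain ⟨m, hm, hK, hcases⟩ := hg.key hzw Z
  obtain ⟨χ, huni, hne, hcase⟩ := hg.exists_char (v := ⟨0, 0, 1, 0⟩) (by decide)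
  obtain ⟨n, hn, hn1⟩ := IsIrr.exists_degree χ.2
  have hd : val χ 1 = n := by simp [val, zv, hn1]
  have hint : ∀ g, ∃ k : ℤ, (χ : G → ℂ) g = k := hg.int_valued (v := ⟨0, 0, 1, 0⟩) (by decide) hne
    (hcase.imp And.left And.left)
  have hfaith : n = 4 ∨ n = 5 → ∀ g, (χ : G → ℂ) g = (χ : G → ℂ) 1 → g = 1 := by
    intro h45 g hg'
    obtain ⟨L, hL, hmem, -⟩ := IsChar.exists_kernel (IsIrr.isCharacter χ.2)
    have hLb : L = ⊥ := by
      refine K.inv_trivial_normal L fun y hy hyL => ?_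
      by_contra hy1
      obtain ⟨u1, u2, -⟩ := K.vec_spec χ
      have hv : val χ y = val χ 1 := zv_congr ((hmem y).1 hyL)
      have hcl : ∀ t : G, IsConj y t → val χ y = val χ t := fun t ht => by
        obtain ⟨w', rfl⟩ := isConj_iff.1 ht
        exact (zv_congr (IsIrr.isClassFunction χ.2 y w')).symm
      rcases K.conj_rep hy hy1 with h | h <;> rw [hcl _ h] at hv <;>
        rcases hcase with ⟨e, -⟩ | ⟨e, -⟩ <;> rw [e] at u1 u2 <;>
        simp only [Vec.neg, Vec.u1, Vec.u2] at u1 u2 <;> omega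
    have := (hmem g).2 hg'
    rwa [hLb, Subgroup.mem_bot] at this
  have hN := eight_dvd (K := K)
  have hm9 := K.index_mod_nine
  unfold cc at hK
  rcases hcases with ⟨ha, rfl⟩ | ⟨ha, rfl⟩ | ⟨ha, -⟩
  · left
    rw [ha] at hK
    push_cast at hK
    have hn4 : n = 4 := by
      rcases hcase with ⟨-, he⟩ | ⟨-, he⟩ <;> rw [he] at ha <;> omega
    have hb := blichfeldt (IsIrr.isCharacter χ.2) hn1 hint (hfaith (Or.inl hn4))
    rw [hn4, show (∏ l ∈ Finset.Ico (-((4 : ℕ) : ℤ)) ((4 : ℕ) : ℤ), (((4 : ℕ) : ℤ) - l)) = ((40320 : ℕ) : ℤ)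
      by decide, Int.natCast_dvd_natCast, hN] at hb
    refine sq_idx_four (c := Nat.card (centralizer ({K.s} : Set G))) ?_ ?_ hm9
    · have h' : ((Nat.card (centralizer ({K.s} : Set G)) * Nat.card (centralizer ({K.s} : Set G)) : ℕ) : ℚ) =
          ((144 * K.N.index : ℕ) : ℚ) := by
        have hN' := congrArg (Nat.cast : ℕ → ℚ) hN
        push_cast at hN' ⊢
        linarith
      exact_mod_cast h'
    · exact Nat.dvd_of_mul_dvd_mul_left (by norm_num : 0 < 72) hb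
  · right
    rw [ha] at hK
    push_cast at hK
    have hn5 : n = 5 := by
      rcases hcase with ⟨-, he⟩ | ⟨-, he⟩ <;> rw [he] at ha <;> omega
    have hb := blichfeldt (IsIrr.isCharacter χ.2) hn1 hint (hfaith (Or.inr hn5))
    rw [hn5, show (∏ l ∈ Finset.Ico (-((5 : ℕ) : ℤ)) ((5 : ℕ) : ℤ), (((5 : ℕ) : ℤ) - l)) = ((3628800 : ℕ) : ℤ)
      by decide, Int.natCast_dvd_natCast, hN] at hb
    have hi : K.N.index = 10 := by
      refine sq_idx_five (c := Nat.card (centralizer ({K.s} : Set G))) ?_ ?_ hm9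
      · have h' : ((5 * (Nat.card (centralizer ({K.s} : Set G)) * Nat.card (centralizer ({K.s} : Set G))) : ℕ) : ℚ) =
            ((1152 * K.N.index : ℕ) : ℚ) := by
          have hN' := congrArg (Nat.cast : ℕ → ℚ) hN
          push_cast at hN' ⊢
          linarith
        exact_mod_cast h'
      · exact Nat.dvd_of_mul_dvd_mul_left (by norm_num : 0 < 72) hb
    refine ⟨hi, ha, ?_⟩
    obtain ⟨d1, d2, d3, d4, d5⟩ := hg.degrees hzw Z
    obtain ⟨b1, h1, x1, e1, f1, i1, j1⟩ := hg.vals_s Z K.s_sq Z.at_s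
    obtain ⟨b2, h2, x2, e2, f2, i2, j2⟩ := hg.vals_s Z K.w_sq Z.at_w
    obtain ⟨p1, p2, -, -⟩ := hg.qrel K.s_sq K.s_sq
    obtain ⟨hf0, -⟩ := hg.sval_props (v := ⟨0, 1, 1, 0⟩) (by decide)
    obtain ⟨hj0, -⟩ := hg.sval_props (v := ⟨1, 1, 1, 1⟩) (by decide)
    rw [d5, ha] at hj0
    have hA : K.sval ⟨0, 0, 1, 0⟩ K.s = 1 := by omega
    have hzs := Z.z_not_conj_s
    simp only [ind_zero hzs, ind_self, ind_zero' K.s_not_conj_w] at p1 p2
    simp only [qt, dl, d1, d2, d3, d4, d5, hg.b_eq hzw, b1, h1, x1, e1, f1, i1, j1, ha, hA] at p1 p2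
    generalize K.sval ⟨0, 1, 1, 0⟩ 1 = f at *
    push_cast at p1 p2
    have hf' : (f : ℚ) ≠ 0 := Int.cast_ne_zero.2 hf0
    have hj' : (1 : ℚ) + 5 - f ≠ 0 := by
      have : ((1 - -5 - f : ℤ) : ℚ) ≠ 0 := Int.cast_ne_zero.2 hj0
      push_cast at this
      intro h
      apply this
      linarith
    have hG : (Nat.card G : ℚ) = 720 := by rw [hN, hi]; norm_num
    have hc2 : (Nat.card (centralizer ({K.s} : Set G)) : ℚ) * Nat.card (centralizer ({K.s} : Set G)) = 2304 := by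
      linarith
    unfold cc at p1 p2
    rw [hG, mul_assoc, hc2] at p1 p2
    field_simp at p1 p2
    have : (f : ℚ) = ((-10 : ℤ) : ℚ) := by
      push_cast
      have hk : ((6 : ℚ) - f)⁻¹ * (6 - f) = 1 := inv_mul_cancel₀ (by intro h; apply hj'; linarith)
      ring_nf at p2
      linear_combination (-1 / 2880 : ℚ) * p2 - (7200 / 2880 : ℚ) * f * (6 - f) * hk
    exact_mod_cast this
  · exact (hg.not_fourteen hzw Z ha).elim

end Cfg

end Cfsg.Agent.H33.ExcThree
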