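import Cfsg.Agent.H33.ExcThree.Chars
import Cfsg.Agent.H33.ExcThree.Enum

/-!
# The exceptional columns of the character table
-/

set_option autoImplicit false

namespace Cfsg.Agent.H33.ExcThree

open Cfsg.Agent.CharBasic Cfsg.Agent.H83 Subgroup

universe u

variable {G : Type u} [Group G] [Fintype G] (K : Cfg G)

/-- Integral value of an irreducible character. -/
noncomputable abbrev val (χ : Cfsg.IrrCharacter G) (x : G) : ℤ := zv (χ : G → ℂ) x

namespace Cfg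

theorem u2_cast (χ : Cfsg.IrrCharacter G) : ((val χ K.g2 : ℤ) : ℂ) = (χ : G → ℂ) K.g2 :=
  (K.symm.basic_vals (IsIrr.isCharacter χ.2)).1

theorem v2_cast (χ : Cfsg.IrrCharacter G) :
    ((val χ (K.g2 * K.w) : ℤ) : ℂ) = (χ : G → ℂ) (K.g2 * K.w) :=
  (K.symm.basic_vals (IsIrr.isCharacter χ.2)).2.1

/-- The congruences satisfied by the values of an irreducible character. -/
theorem congr_facts (χ : Cfsg.IrrCharacter G) :
    9 ∣ val χ 1 + val χ K.e - 2 * val χ K.g2 ∧ 3 ∣ val χ K.e - val χ K.g2 ∧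
    2 ∣ val χ K.e + val χ (K.e * K.s) ∧ 2 ∣ val χ K.g2 + val χ (K.g2 * K.w) ∧
    3 ∣ val χ K.s - val χ (K.e * K.s) ∧ 3 ∣ val χ K.w - val χ (K.g2 * K.w) := by
  obtain ⟨-, -, a1, a2, a3⟩ := K.basic_vals (IsIrr.isCharacter χ.2)
  obtain ⟨-, -, b1, b2, b3⟩ := K.symm.basic_vals (IsIrr.isCharacter χ.2)
  have c := K.sum_M (IsIrr.isCharacter χ.2)
  change 3 ∣ zv (χ : G → ℂ) 1 + 2 * zv (χ : G → ℂ) K.g2 at b1
  change 2 ∣ zv (χ : G → ℂ) K.g2 + zv (χ : G → ℂ) (K.g2 * K.w) at b2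
  change 3 ∣ zv (χ : G → ℂ) K.w - zv (χ : G → ℂ) (K.g2 * K.w) at b3
  refine ⟨?_, ?_, a2, b2, a3, b3⟩ <;> simp only [val] <;> omega

/-- The coefficient vector. -/
noncomputable def vec (χ : Cfsg.IrrCharacter G) : Vec :=
  let P := -(val χ K.e + 2 * val χ K.g2) / 3
  let Q := -(2 * val χ K.e + val χ K.g2) / 3
  ⟨(P - val χ (K.e * K.s)) / 2, (Q - val χ (K.g2 * K.w)) / 2,
   (P + val χ (K.e * K.s)) / 2, (Q + val χ (K.g2 * K.w)) / 2⟩

theorem vec_spec (χ : Cfsg.IrrCharacter G) :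
    (K.vec χ).u1 = val χ K.e ∧ (K.vec χ).u2 = val χ K.g2 ∧ (K.vec χ).v1 = val χ (K.e * K.s) ∧
    (K.vec χ).v2 = val χ (K.g2 * K.w) ∧
    6 * (K.vec χ).a = -1 * val χ K.e + -2 * val χ K.g2 + -3 * val χ (K.e * K.s) +
      0 * val χ (K.g2 * K.w) ∧
    6 * (K.vec χ).b = -2 * val χ K.e + -1 * val χ K.g2 + 0 * val χ (K.e * K.s) +
      -3 * val χ (K.g2 * K.w) ∧
    6 * (K.vec χ).c = -1 * val χ K.e + -2 * val χ K.g2 + 3 * val χ (K.e * K.s) +
      0 * val χ (K.g2 * K.w) ∧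
    6 * (K.vec χ).d = -2 * val χ K.e + -1 * val χ K.g2 + 0 * val χ (K.e * K.s) +
      3 * val χ (K.g2 * K.w) := by
  obtain ⟨-, h2, h3, h4, -, -⟩ := K.congr_facts χ
  simp only [vec, Vec.u1, Vec.u2, Vec.v1, Vec.v2]
  omega

theorem e_not_conj_invol {t : G} (h : t * t = 1) : ¬ IsConj K.e t ∧ ¬ IsConj (K.e * K.s) t := by
  constructor <;> intro hc
  · have h' := sq_of_isConj hc.symm h
    exact K.ne_inv K.e_mem K.e_ne (inv_eq_of_mul_eq_one_right h').symm
  · have h' := sq_of_isConj hc.symm h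
    apply K.e_ne
    rw [← K.es_pow_four, show 4 = 2 * 2 from rfl, pow_mul, pow_two (K.e * K.s), h', one_pow]

theorem es_ne : K.e * K.s ≠ 1 := fun h => K.e_ne (by rw [← K.es_pow_four, h, one_pow])

theorem e_not_conj_es : ¬ IsConj K.e (K.e * K.s) := by
  intro h
  obtain ⟨g, hg⟩ := isConj_iff.1 h
  apply K.s_ne
  have h3 : (K.e * K.s) ^ 3 = 1 := by rw [← hg, conj_pow, K.cube K.e_mem, mul_one, mul_inv_cancel]
  rwa [K.s_comm_e.symm.mul_pow, K.cube K.e_mem, one_mul, pow_succ, pow_two, K.s_sq, one_mul] at h3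

theorem es_not_conj_g2w : ¬ IsConj (K.e * K.s) (K.g2 * K.w) := by
  intro h
  obtain ⟨g, hg⟩ := isConj_iff.1 h
  apply K.g2_not_conj
  refine isConj_iff.2 ⟨g, ?_⟩
  rw [← K.es_pow_four, ← conj_pow, hg]
  exact K.symm.es_pow_four

theorem e_not_conj_g2w : ¬ IsConj K.e (K.g2 * K.w) := by
  intro h
  obtain ⟨g, hg⟩ := isConj_iff.1 h
  apply K.w_ne
  have h3 : (K.g2 * K.w) ^ 3 = 1 := by rw [← hg, conj_pow, K.cube K.e_mem, mul_one, mul_inv_cancel]
  have hc : Commute K.g2 K.w := K.symm.s_comm_e.symm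
  rwa [hc.mul_pow, K.cube K.g2_mem, one_mul, pow_succ, pow_two, K.w_sq, one_mul] at h3

theorem g2_not_conj_es : ¬ IsConj K.g2 (K.e * K.s) := by
  intro h
  obtain ⟨g, hg⟩ := isConj_iff.1 h
  apply K.s_ne
  have h3 : (K.e * K.s) ^ 3 = 1 := by rw [← hg, conj_pow, K.cube K.g2_mem, mul_one, mul_inv_cancel]
  rwa [K.s_comm_e.symm.mul_pow, K.cube K.e_mem, one_mul, pow_succ, pow_two, K.s_sq, one_mul] at h3

theorem orth {x y : G} {n : ℕ} (hy : ∀ χ : Cfsg.IrrCharacter G, ((val χ y : ℤ) : ℂ) = (χ : G → ℂ) y)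
    (hx : ∀ χ : Cfsg.IrrCharacter G, ((val χ x : ℤ) : ℂ) = (χ : G → ℂ) x)
    (h : ∑ χ : Cfsg.IrrCharacter G, (χ : G → ℂ) x * (starRingEnd ℂ) ((χ : G → ℂ) y) = (n : ℂ)) :
    ∑ χ : Cfsg.IrrCharacter G, val χ x * val χ y = (n : ℤ) := by
  refine Int.cast_injective (α := ℂ) ?_
  push_cast
  rw [← h]
  exact Finset.sum_congr rfl fun χ _ => by
    rw [← hx χ, ← hy χ, map_intCast, hx χ, hy χ]

theorem quad (p1 p2 p3 p4 q1 q2 q3 q4 : ℤ) :
    ∑ χ : Cfsg.IrrCharacter G,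
      (p1 * val χ K.e + p2 * val χ K.g2 + p3 * val χ (K.e * K.s) + p4 * val χ (K.g2 * K.w)) *
      (q1 * val χ K.e + q2 * val χ K.g2 + q3 * val χ (K.e * K.s) + q4 * val χ (K.g2 * K.w)) =
    18 * (p1 * q1 + p2 * q2) + 6 * (p3 * q3 + p4 * q4) := by
  have c1 := fun χ : Cfsg.IrrCharacter G => (K.basic_vals (IsIrr.isCharacter χ.2)).1
  have c2 := fun χ : Cfsg.IrrCharacter G => (K.basic_vals (IsIrr.isCharacter χ.2)).2.1
  have c3 := K.u2_cast
  have c4 := K.v2_cast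
  have s11 := orth c1 c1 ((second_orthogonality_self K.e).trans (by rw [K.card_cent_e]))
  have s22 := orth c3 c3 ((second_orthogonality_self K.g2).trans
    (by rw [show Nat.card (centralizer ({K.g2} : Set G)) = 18 from K.symm.card_cent_e]))
  have s33 := orth c2 c2 ((second_orthogonality_self (K.e * K.s)).trans (by rw [K.card_cent_es]))
  have s44 := orth c4 c4 ((second_orthogonality_self (K.g2 * K.w)).trans
    (by rw [show Nat.card (centralizer ({K.g2 * K.w} : Set G)) = 6 from K.symm.card_cent_es]))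
  have z : ∀ {x y : G}, ¬ IsConj x y →
      (∀ χ : Cfsg.IrrCharacter G, ((val χ x : ℤ) : ℂ) = (χ : G → ℂ) x) →
      (∀ χ : Cfsg.IrrCharacter G, ((val χ y : ℤ) : ℂ) = (χ : G → ℂ) y) →
      ∑ χ : Cfsg.IrrCharacter G, val χ x * val χ y = 0 := fun hne hx hy => by
    simpa using orth (n := 0) hy hx ((second_orthogonality_not_isConj hne).trans Nat.cast_zero.symm)
  have s12 := z K.g2_not_conj c1 c3
  have s13 := z K.e_not_conj_es c1 c2
  have s14 := z K.e_not_conj_g2w c1 c4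
  have s23 := z K.g2_not_conj_es c3 c2
  have s24 := z (show ¬ IsConj K.g2 (K.g2 * K.w) from K.symm.e_not_conj_es) c3 c4
  have s34 := z K.es_not_conj_g2w c2 c4
  push_cast at s11 s22 s33 s44
  calc _ = ∑ χ : Cfsg.IrrCharacter G,
        (p1 * q1 * (val χ K.e * val χ K.e) + p2 * q2 * (val χ K.g2 * val χ K.g2) +
         p3 * q3 * (val χ (K.e * K.s) * val χ (K.e * K.s)) +
         p4 * q4 * (val χ (K.g2 * K.w) * val χ (K.g2 * K.w)) +
         (p1 * q2 + p2 * q1) * (val χ K.e * val χ K.g2) +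
         (p1 * q3 + p3 * q1) * (val χ K.e * val χ (K.e * K.s)) +
         (p1 * q4 + p4 * q1) * (val χ K.e * val χ (K.g2 * K.w)) +
         (p2 * q3 + p3 * q2) * (val χ K.g2 * val χ (K.e * K.s)) +
         (p2 * q4 + p4 * q2) * (val χ K.g2 * val χ (K.g2 * K.w)) +
         (p3 * q4 + p4 * q3) * (val χ (K.e * K.s) * val χ (K.g2 * K.w))) :=
        Finset.sum_congr rfl fun χ _ => by ring
    _ = _ := by
        simp only [Finset.sum_add_distrib, ← Finset.mul_sum]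
        rw [s11, s22, s33, s44, s12, s13, s14, s23, s24, s34]
        ring

end Cfg

/-- The trivial character. -/
noncomputable def triv : Cfsg.IrrCharacter G := ⟨fun _ => 1, isIrrCharacter_one⟩

theorem val_triv (x : G) : val (triv : Cfsg.IrrCharacter G) x = 1 := by simp [triv, zv]

open scoped Classical in
/-- The nontrivial characters. -/
noncomputable def nonTriv : Finset (Cfsg.IrrCharacter G) := Finset.univ.erase triv

namespace Cfg

theorem vec_triv : K.vec (triv : Cfsg.IrrCharacter G) = ⟨-1, -1, 0, 0⟩ := by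
  simp [vec, val_triv]

theorem gram_entry (p q : Vec → ℤ) (p1 p2 p3 p4 q1 q2 q3 q4 : ℤ)
    (hp : ∀ χ : Cfsg.IrrCharacter G, 6 * p (K.vec χ) = p1 * val χ K.e + p2 * val χ K.g2 +
      p3 * val χ (K.e * K.s) + p4 * val χ (K.g2 * K.w))
    (hq : ∀ χ : Cfsg.IrrCharacter G, 6 * q (K.vec χ) = q1 * val χ K.e + q2 * val χ K.g2 +
      q3 * val χ (K.e * K.s) + q4 * val χ (K.g2 * K.w)) :
    36 * ∑ χ ∈ (nonTriv : Finset (Cfsg.IrrCharacter G)), p (K.vec χ) * q (K.vec χ) =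
      18 * (p1 * q1 + p2 * q2) + 6 * (p3 * q3 + p4 * q4) -
        36 * (p ⟨-1, -1, 0, 0⟩ * q ⟨-1, -1, 0, 0⟩) := by
  classical
  rw [← K.quad p1 p2 p3 p4 q1 q2 q3 q4, nonTriv, Finset.sum_erase_eq_sub (Finset.mem_univ _),
    K.vec_triv, mul_sub, Finset.mul_sum]
  congr 1
  exact Finset.sum_congr rfl fun χ _ => by rw [← hp χ, ← hq χ]; ring

theorem gram_vals :
    let S := (nonTriv : Finset (Cfsg.IrrCharacter G))
    (∑ χ ∈ S, (K.vec χ).a * (K.vec χ).a = 3 ∧ ∑ χ ∈ S, (K.vec χ).b * (K.vec χ).b = 3 ∧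
     ∑ χ ∈ S, (K.vec χ).c * (K.vec χ).c = 4 ∧ ∑ χ ∈ S, (K.vec χ).d * (K.vec χ).d = 4 ∧
     ∑ χ ∈ S, (K.vec χ).a * (K.vec χ).b = 1 ∧ ∑ χ ∈ S, (K.vec χ).a * (K.vec χ).c = 1 ∧
     ∑ χ ∈ S, (K.vec χ).a * (K.vec χ).d = 2 ∧ ∑ χ ∈ S, (K.vec χ).b * (K.vec χ).c = 2 ∧
     ∑ χ ∈ S, (K.vec χ).b * (K.vec χ).d = 1 ∧ ∑ χ ∈ S, (K.vec χ).c * (K.vec χ).d = 2) := by
  intro S
  have ha := fun χ => (K.vec_spec χ).2.2.2.2.1
  have hb := fun χ => (K.vec_spec χ).2.2.2.2.2.1
  have hc := fun χ => (K.vec_spec χ).2.2.2.2.2.2.1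
  have hd := fun χ => (K.vec_spec χ).2.2.2.2.2.2.2
  have e1 := K.gram_entry Vec.a Vec.a _ _ _ _ _ _ _ _ ha ha
  have e2 := K.gram_entry Vec.b Vec.b _ _ _ _ _ _ _ _ hb hb
  have e3 := K.gram_entry Vec.c Vec.c _ _ _ _ _ _ _ _ hc hc
  have e4 := K.gram_entry Vec.d Vec.d _ _ _ _ _ _ _ _ hd hd
  have e5 := K.gram_entry Vec.a Vec.b _ _ _ _ _ _ _ _ ha hb
  have e6 := K.gram_entry Vec.a Vec.c _ _ _ _ _ _ _ _ ha hc
  have e7 := K.gram_entry Vec.a Vec.d _ _ _ _ _ _ _ _ ha hd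
  have e8 := K.gram_entry Vec.b Vec.c _ _ _ _ _ _ _ _ hb hc
  have e9 := K.gram_entry Vec.b Vec.d _ _ _ _ _ _ _ _ hb hd
  have e10 := K.gram_entry Vec.c Vec.d _ _ _ _ _ _ _ _ hc hd
  norm_num at e1 e2 e3 e4 e5 e6 e7 e8 e9 e10
  refine ⟨?_, ?_, ?_, ?_, ?_, ?_, ?_, ?_, ?_, ?_⟩ <;> simp only [S] <;> omega

end Cfg

/-- Negation of a vector. -/
def Vec.neg (v : Vec) : Vec := ⟨-v.a, -v.b, -v.c, -v.d⟩

/-- All small vectors. -/
def smallVecs : List Vec :=
  ([-1, 0, 1] : List ℤ).flatMap fun a => ([-1, 0, 1] : List ℤ).flatMap fun b =>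
    ([-1, 0, 1] : List ℤ).flatMap fun c => ([-1, 0, 1] : List ℤ).map fun d => (⟨a, b, c, d⟩ : Vec)

theorem mem_smallVecs {v : Vec} (h : Small v) : v ∈ smallVecs := by
  obtain ⟨a, b, c, d⟩ := v
  obtain ⟨ha, hb, hc, hd⟩ := h
  simp only [smallVecs, List.mem_flatMap, List.mem_map]
  refine ⟨a, ?_, b, ?_, c, ?_, d, ?_, rfl⟩ <;>
    simp only [List.mem_cons, List.not_mem_nil, or_false]
  · rw [abs_le] at ha; simp only at ha; omega
  · rw [abs_le] at hb; simp only at hb; omega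
  · rw [abs_le] at hc; simp only at hc; omega
  · rw [abs_le] at hd; simp only at hd; omega

theorem cover : ∀ c ∈ smallVecs, (vecs.filter fun v => decide (c = v ∨ c = v.neg)).length =
    if c = ⟨0, 0, 0, 0⟩ then 0 else 1 := by
  decide +kernel

theorem sum_cover {c : Vec} (hc : Small c) (f : Vec → ℤ) (heven : ∀ v, f v.neg = f v)
    (h0 : f ⟨0, 0, 0, 0⟩ = 0) :
    (vecs.map fun v => if c = v ∨ c = v.neg then f v else 0).sum = f c := by
  have hlen := cover c (mem_smallVecs hc)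
  rw [show (vecs.map fun v => if c = v ∨ c = v.neg then f v else 0) =
    vecs.map fun v => if c = v ∨ c = v.neg then f c else 0 from List.map_congr_left fun v _ => by
      by_cases h : c = v ∨ c = v.neg
      · rw [if_pos h, if_pos h]
        rcases h with h | h <;> subst h
        · rfl
        · rw [heven]
      · rw [if_neg h, if_neg h]]
  have : ∀ l : List Vec, (l.map fun v => if c = v ∨ c = v.neg then f c else 0).sum =
      ((l.filter fun v => decide (c = v ∨ c = v.neg)).length : ℤ) * f c := by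
    intro l
    induction l with
    | nil => simp
    | cons v l ih =>
      by_cases h : c = v ∨ c = v.neg <;>
        simp [h, ih, add_mul, add_comm]
  rw [this, hlen]
  by_cases h : c = ⟨0, 0, 0, 0⟩
  · subst h; simp [h0]
  · simp [h]

namespace Cfg

theorem vec_small (χ : Cfsg.IrrCharacter G) : Small (K.vec χ) := by
  classical
  obtain ⟨haa, hbb, hcc, hdd, hab, hac, had, hbc, hbd, hcd⟩ := K.gram_vals
  by_cases hχ : χ ∈ (nonTriv : Finset (Cfsg.IrrCharacter G))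
  swap
  · have : χ = triv := by simpa [nonTriv] using hχ
    subst this
    rw [K.vec_triv]
    simp [Small]
  have hle : ∀ {p : Vec → ℤ} {n : ℤ},
      ∑ ψ ∈ (nonTriv : Finset (Cfsg.IrrCharacter G)), p (K.vec ψ) * p (K.vec ψ) = n →
      p (K.vec χ) * p (K.vec χ) ≤ n := fun {p n} h => h ▸
    Finset.single_le_sum (f := fun ψ => p (K.vec ψ) * p (K.vec ψ))
      (fun ψ _ => mul_self_nonneg _) hχ
  have rest : ∀ {p : Vec → ℤ},
      ∑ ψ ∈ (nonTriv : Finset (Cfsg.IrrCharacter G)), p (K.vec ψ) * p (K.vec ψ) =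
        p (K.vec χ) * p (K.vec χ) →
      ∀ (q : Vec → ℤ), ∑ ψ ∈ (nonTriv : Finset (Cfsg.IrrCharacter G)), q (K.vec ψ) * p (K.vec ψ) =
        q (K.vec χ) * p (K.vec χ) := by
    intro p h q
    rw [← Finset.add_sum_erase _ _ hχ] at h ⊢
    have h0 : ∑ ψ ∈ (nonTriv : Finset (Cfsg.IrrCharacter G)).erase χ,
        p (K.vec ψ) * p (K.vec ψ) = 0 := by linarith
    rw [Finset.sum_eq_zero (s := _) (f := fun ψ => q (K.vec ψ) * p (K.vec ψ)) fun ψ hψ => ?_,
      add_zero]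
    have := (Finset.sum_eq_zero_iff_of_nonneg fun ψ _ => mul_self_nonneg (p (K.vec ψ))).1 h0 ψ hψ
    rw [mul_self_eq_zero.1 this, mul_zero]
  have a1 := hle (p := Vec.a) haa
  have b1 := hle (p := Vec.b) hbb
  have c1 := hle (p := Vec.c) hcc
  have d1 := hle (p := Vec.d) hdd
  refine ⟨abs_le.2 ⟨by nlinarith, by nlinarith⟩, abs_le.2 ⟨by nlinarith, by nlinarith⟩, ?_, ?_⟩
  · by_contra hc
    have h2 : (K.vec χ).c = 2 ∨ (K.vec χ).c = -2 := by
      have : -2 ≤ (K.vec χ).c ∧ (K.vec χ).c ≤ 2 := ⟨by nlinarith, by nlinarith⟩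
      rw [abs_le] at hc
      omega
    have := (rest (p := Vec.c) (by rcases h2 with h | h <;> rw [hcc, h] <;> norm_num) Vec.a).symm.trans hac
    rcases h2 with h | h <;> rw [h] at this <;> omega
  · by_contra hc
    have h2 : (K.vec χ).d = 2 ∨ (K.vec χ).d = -2 := by
      have : -2 ≤ (K.vec χ).d ∧ (K.vec χ).d ≤ 2 := ⟨by nlinarith, by nlinarith⟩
      rw [abs_le] at hc
      omega
    have := (rest (p := Vec.d) (by rcases h2 with h | h <;> rw [hdd, h] <;> norm_num) Vec.b).symm.trans hbd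
    rcases h2 with h | h <;> rw [h] at this <;> omega

open scoped Classical in
/-- The multiplicity of a vector up to sign. -/
noncomputable def mult (v : Vec) : ℕ :=
  ((nonTriv : Finset (Cfsg.IrrCharacter G)).filter fun χ => K.vec χ = v ∨ K.vec χ = v.neg).card

theorem wsum_mult (f : Vec → ℤ) (heven : ∀ v, f v.neg = f v) (h0 : f ⟨0, 0, 0, 0⟩ = 0) :
    wsum vecs K.mult f = ∑ χ ∈ (nonTriv : Finset (Cfsg.IrrCharacter G)), f (K.vec χ) := by
  classical
  simp only [wsum, mult, Finset.card_filter, Nat.cast_sum, Finset.sum_mul, Nat.cast_ite,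
    Nat.cast_one, Nat.cast_zero, ite_mul, one_mul, zero_mul]
  rw [← Finset.sum_congr rfl fun χ _ => sum_cover (K.vec_small χ) f heven h0]
  induction vecs with
  | nil => simp
  | cons v l ih => simp only [List.map_cons, List.sum_cons, ih, Finset.sum_add_distrib]

theorem gram_mult : gram vecs K.mult = gram0 := by
  obtain ⟨haa, hbb, hcc, hdd, hab, hac, had, hbc, hbd, hcd⟩ := K.gram_vals
  simp only [gram, gram0, Ten.mk.injEq]
  refine ⟨?_, ?_, ?_, ?_, ?_, ?_, ?_, ?_, ?_, ?_⟩ <;>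
    rw [K.wsum_mult _ (fun v => by simp [Vec.neg]) (by simp)] <;> assumption

theorem mult_le {v : Vec} (hv : v ∈ vecs) : K.mult v ≤ 4 := by
  classical
  obtain ⟨haa, hbb, hcc, hdd, -⟩ := K.gram_vals
  have key : ∀ (p : Vec → ℤ) (n : ℤ),
      ∑ χ ∈ (nonTriv : Finset (Cfsg.IrrCharacter G)), p (K.vec χ) * p (K.vec χ) = n → n ≤ 4 →
      (∀ u, p u.neg = -p u) → p v * p v = 1 → K.mult v ≤ 4 := by
    intro p n h hn hneg h1
    have h' : (K.mult v : ℤ) ≤ n := by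
      rw [mult, Finset.card_filter, Nat.cast_sum, ← h]
      refine Finset.sum_le_sum fun χ _ => ?_
      by_cases hc : K.vec χ = v ∨ K.vec χ = v.neg
      · rw [if_pos hc, Nat.cast_one]
        rcases hc with e | e <;> rw [e]
        · rw [h1]
        · rw [hneg, neg_mul_neg, h1]
      · rw [if_neg hc, Nat.cast_zero]
        exact mul_self_nonneg _
    omega
  have hor : v.a * v.a = 1 ∨ v.b * v.b = 1 ∨ v.c * v.c = 1 ∨ v.d * v.d = 1 :=
    (show ∀ u ∈ vecs, u.a * u.a = 1 ∨ u.b * u.b = 1 ∨ u.c * u.c = 1 ∨ u.d * u.d = 1 by decide) v hv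
  rcases hor with h | h | h | h
  · exact key Vec.a 3 haa (by norm_num) (fun u => rfl) h
  · exact key Vec.b 3 hbb (by norm_num) (fun u => rfl) h
  · exact key Vec.c 4 hcc le_rfl (fun u => rfl) h
  · exact key Vec.d 4 hdd le_rfl (fun u => rfl) h

theorem pole_neg (v : Vec) : v.neg.pole = v.pole ∧ v.neg.sep = v.sep := by
  constructor <;> rw [Bool.eq_iff_iff] <;> simp only [Vec.pole, Vec.sep, Vec.neg, Vec.u1, Vec.v1,
    Vec.v2, Bool.and_eq_true, Bool.not_eq_true', beq_iff_eq, beq_eq_false_iff_ne, ne_eq] <;> omega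

open scoped Classical in
/-- The outcome of the lattice enumeration. -/
theorem outcome :
    (((nonTriv : Finset (Cfsg.IrrCharacter G)).filter fun χ => (K.vec χ).pole = true).card = 1 ∨
      ∀ v ∈ vecs, K.mult v = if v ∈ idx1 then 1 else 0) ∧
    ∃ χ : Cfsg.IrrCharacter G, (K.vec χ).sep = true := by
  obtain ⟨h1, v, hv, hs, hk⟩ := enum K.mult (fun v hv => K.mult_le hv) K.gram_mult
  constructor
  · rcases h1 with h1 | h1
    · left
      have h := K.wsum_mult (fun v => if v.pole then 1 else 0)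
        (fun v => by rw [(pole_neg v).1]) (by decide)
      rw [Finset.card_filter]
      have hs : wsum vecs K.mult (fun v => if v.pole then 1 else 0) =
          ((((vecs.filter Vec.pole).map K.mult).sum : ℕ) : ℤ) := by
        induction vecs with
        | nil => simp [wsum]
        | cons u l ih =>
          rw [wsum_cons, ih]
          by_cases hu : u.pole = true <;> simp [hu]
      rw [hs, h1] at h
      have h' : ((1 : ℕ) : ℤ) = ((∑ χ ∈ (nonTriv : Finset (Cfsg.IrrCharacter G)),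
          if (K.vec χ).pole = true then 1 else 0 : ℕ) : ℤ) := by
        rw [h]; push_cast; rfl
      exact (Nat.cast_injective h').symm
    · exact Or.inr h1
  · obtain ⟨χ, hχ⟩ := Finset.card_pos.1 (Nat.pos_of_ne_zero hk)
    refine ⟨χ, ?_⟩
    rcases (Finset.mem_filter.1 hχ).2 with e | e <;> rw [e]
    · exact hs
    · rw [(pole_neg v).2, hs]

/-- `s` and `w` are not conjugate. -/
theorem s_not_conj_w : ¬ IsConj K.s K.w := by
  intro h
  obtain ⟨-, χ, hχ⟩ := K.outcome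
  obtain ⟨g, hg⟩ := isConj_iff.1 h
  have hv : val χ K.w = val χ K.s := zv_congr (by rw [← hg, IsIrr.isClassFunction χ.2])
  obtain ⟨-, -, -, -, h1, h2⟩ := K.congr_facts χ
  obtain ⟨-, -, e1, e2, -⟩ := K.vec_spec χ
  simp only [Vec.sep, Bool.not_eq_true', beq_eq_false_iff_ne, ne_eq, e1, e2] at hχ
  omega

theorem pole_excluded (hzw : ¬ IsConj K.z K.w) :
    ∀ v ∈ vecs, K.mult v = if v ∈ idx1 then 1 else 0 := by
  classical
  refine (K.outcome).1.resolve_left fun hone => ?_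
  obtain ⟨χ₀, h0⟩ := Finset.card_eq_one.1 hone
  have hx : K.g2 * K.w ≠ 1 := K.symm.es_ne
  have hnc : ¬ IsConj (K.g2 * K.w) K.w := (K.symm.e_not_conj_invol K.w_sq).2
  have hQ := pair_sum hx hnc hnc K.w_sq K.w_sq K.v2_cast
  have hn : nPairs (K.g2 * K.w) K.w K.w = 0 := by
    have h := K.symm.nPairs_es (y := K.w) (y' := K.w) K.w_sq K.w_sq
    rw [symm_z, symm_s, show K.symm.e = K.g2 from rfl] at h
    rw [h, show ind K.z K.w = 0 from if_neg hzw]
    ring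
  rw [hn, Nat.cast_zero, zero_mul, zero_mul, zero_div] at hQ
  let n : Cfsg.IrrCharacter G → ℤ := fun χ =>
    val χ (K.g2 * K.w) * (val χ K.w - val χ 1) * (val χ K.w - val χ 1)
  have hd : ∀ χ : Cfsg.IrrCharacter G, val χ 1 ≠ 0 := fun χ h => by
    have e := (invol_val (IsIrr.isCharacter χ.2) K.w_sq).1
    rw [show zv (χ : G → ℂ) 1 = 0 from h, Int.cast_zero] at e
    exact IsIrr.one_ne_zero χ.2 e.symm
  have hsum : ∑ χ : Cfsg.IrrCharacter G, (n χ : ℚ) / val χ 1 = 0 := by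
    rw [← hQ]
    exact Finset.sum_congr rfl fun χ _ => by simp only [n]; push_cast; rfl
  have hχ0 : χ₀ ∈ (nonTriv : Finset (Cfsg.IrrCharacter G)) ∧ (K.vec χ₀).pole = true := by
    have : χ₀ ∈ ({χ₀} : Finset (Cfsg.IrrCharacter G)) := Finset.mem_singleton_self _
    rw [← h0] at this
    exact Finset.mem_filter.1 this
  -- the other terms are integral at three
  have hother : ∀ χ, χ ≠ χ₀ → n χ = 0 ∨ ¬ 3 ∣ val χ 1 := by
    intro χ hne
    by_cases ht : χ = triv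
    · subst ht; left; simp [n, val_triv]
    have hnp : ¬ (K.vec χ).pole = true := fun hp => hne (Finset.mem_singleton.1 (h0 ▸
      Finset.mem_filter.2 ⟨Finset.mem_erase.2 ⟨ht, Finset.mem_univ _⟩, hp⟩))
    obtain ⟨e1, e2, e3, e4, -⟩ := K.vec_spec χ
    obtain ⟨c1, c2, -⟩ := K.congr_facts χ
    simp only [Vec.pole, e1, e4, Bool.and_eq_true, Bool.not_eq_true', beq_iff_eq,
      beq_eq_false_iff_ne, ne_eq, not_and, not_not] at hnp
    by_cases hu : val χ K.e % 3 = 0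
    · left; simp [n, hnp hu]
    · right; omega
  obtain ⟨e1, e2, e3, e4, -⟩ := K.vec_spec χ₀
  obtain ⟨c1, c2, -, -, -, c6⟩ := K.congr_facts χ₀
  have hp := hχ0.2
  simp only [Vec.pole, e1, e4, Bool.and_eq_true, Bool.not_eq_true', beq_iff_eq,
    beq_eq_false_iff_ne, ne_eq] at hp
  have hd0 : (3 : ℤ) ∣ val χ₀ 1 := by omega
  have hv3 : ¬ (3 : ℤ) ∣ val χ₀ (K.g2 * K.w) := by
    obtain ⟨hb, -, -, hd'⟩ : |(K.vec χ₀).b| ≤ 1 ∧ True ∧ True ∧ |(K.vec χ₀).d| ≤ 1 :=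
      ⟨(K.vec_small χ₀).2.1, trivial, trivial, (K.vec_small χ₀).2.2.2⟩
    rw [abs_le] at hb hd'
    have := hp.2
    simp only [Vec.v2] at e4
    omega
  have hn0 : ¬ (3 : ℤ) ∣ n χ₀ := by
    have h' : ¬ (3 : ℤ) ∣ val χ₀ K.w - val χ₀ 1 := by omega
    intro h
    rcases Int.prime_three.dvd_mul.1 h with h | h
    · rcases Int.prime_three.dvd_mul.1 h with h | h
      exacts [hv3 h, h' h]
    · exact h' h
  let A := ((Finset.univ : Finset (Cfsg.IrrCharacter G)).erase χ₀).filter fun χ => n χ ≠ 0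
  let D : ℤ := ∏ χ ∈ A, val χ 1
  have hD : ¬ (3 : ℤ) ∣ D := fun h => by
    obtain ⟨χ, hχ, h'⟩ := (Prime.dvd_finsetProd_iff Int.prime_three _).1 h
    obtain ⟨h1, h2⟩ := Finset.mem_filter.1 hχ
    exact (hother χ (Finset.ne_of_mem_erase h1)).resolve_left h2 h'
  have hN : ∃ N : ℤ, (N : ℚ) = (D : ℚ) * ∑ χ ∈ A, (n χ : ℚ) / val χ 1 := by
    refine ⟨∑ χ ∈ A, (∏ ψ ∈ A.erase χ, val ψ 1) * n χ, ?_⟩
    rw [Finset.mul_sum, Int.cast_sum]
    refine Finset.sum_congr rfl fun χ hχ => ?_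
    have he : (D : ℚ) = (val χ 1 : ℚ) * ((∏ ψ ∈ A.erase χ, val ψ 1 : ℤ) : ℚ) := by
      rw [← Int.cast_mul, Finset.mul_prod_erase A (fun ψ => val ψ 1) hχ]
    have hd' : (val χ 1 : ℚ) ≠ 0 := Int.cast_ne_zero.2 (hd χ)
    rw [he, Int.cast_mul]
    field_simp
  obtain ⟨N, hN⟩ := hN
  have hA : ∑ χ ∈ A, (n χ : ℚ) / val χ 1 = -((n χ₀ : ℚ) / val χ₀ 1) := by
    rw [Finset.sum_filter_of_ne (p := fun χ => n χ ≠ 0) fun χ _ h e => h (by simp [e])]
    rw [← Finset.add_sum_erase _ _ (Finset.mem_univ χ₀)] at hsum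
    linarith
  have hd' : (val χ₀ 1 : ℚ) ≠ 0 := Int.cast_ne_zero.2 (hd χ₀)
  rw [hA] at hN
  have hint : N * val χ₀ 1 = -(D * n χ₀) := by
    refine Int.cast_injective (α := ℚ) ?_
    push_cast
    rw [hN]
    field_simp
  have : (3 : ℤ) ∣ D * n χ₀ := by
    rw [← dvd_neg, ← hint]
    exact dvd_mul_of_dvd_right hd0 N
  rcases Int.prime_three.dvd_mul.1 this with h | h
  exacts [hD h, hn0 h]

end Cfg

end Cfsg.Agent.H33.ExcThree
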