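import Cfsg.Agent.H33.ExcThree.Eight
import Cfsg.Agent.CharBasic.Kernel

/-!
# The exceptional linear character
-/

set_option autoImplicit false

open scoped ComplexConjugate

namespace Cfsg.Agent.H33.ExcThree

open Cfsg.Agent.CharBasic Cfsg.Agent.H83 Subgroup

universe u

theorem bf_identity (A B C p1 p2 q1 q2 : ℚ) :
    bf A B C p1 p2 p1 p2 * q2 ^ 2 - 2 * bf A B C p1 p2 q1 q2 * p2 * q2 +
      bf A B C q1 q2 q1 q2 * p2 ^ 2 = A * (p1 * q2 - q1 * p2) ^ 2 ∧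
    bf A B C p1 p2 p1 p2 * bf A B C q1 q2 q1 q2 - bf A B C p1 p2 q1 q2 ^ 2 =
      (A * C - B ^ 2) * (p1 * q2 - q1 * p2) ^ 2 := by
  unfold bf; constructor <;> ring

theorem bf_sub (A B C p1 p2 x1 x2 y1 y2 z1 z2 α β : ℚ) :
    bf A B C p1 p2 (α * x1 + β * y1 + z1) (α * x2 + β * y2 + z2) =
      α * bf A B C p1 p2 x1 x2 + β * bf A B C p1 p2 y1 y2 + bf A B C p1 p2 z1 z2 := by
  unfold bf; ring

theorem merged_identity {d1 d2 β : ℚ} (h1 : d1 ≠ 0) (h2 : d2 ≠ 0) (hβ : β ≠ 0)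
    (hd : d2 - d1 = β + 1) {p1 p2 q1 q2 : ℚ} :
    let A := 1 / d1 - 1 / d2
    let B := -1 / d1
    let C := 1 / d1 + 1 / β
    bf A B C p1 p2 p1 p2 * q2 ^ 2 - 2 * bf A B C p1 p2 q1 q2 * p2 * q2 +
      bf A B C q1 q2 q1 q2 * p2 ^ 2 =
    β * (β + 1) *
      (bf A B C p1 p2 p1 p2 * bf A B C q1 q2 q1 q2 - bf A B C p1 p2 q1 q2 ^ 2) := by
  intro A B C
  obtain ⟨i1, i2⟩ := bf_identity A B C p1 p2 q1 q2
  rw [i1, i2, ← mul_assoc (β * (β + 1))]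
  congr 1
  have hd' : d2 = d1 + β + 1 := by linarith
  subst hd'
  simp only [A, B, C]
  field_simp
  ring

variable {G : Type u} [Group G] [Fintype G] {K : Cfg G}

theorem ind_self (t : G) : ind t t = 1 := if_pos (IsConj.refl t)

theorem ind_zero {t y : G} (h : ¬ IsConj t y) : ind t y = 0 := if_neg h

theorem ind_zero' {t y : G} (h : ¬ IsConj y t) : ind t y = 0 := if_neg fun h' => h h'.symm

theorem ind_one {t y : G} (h : IsConj t y) : ind t y = 1 := if_pos h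

namespace Cfg

theorem form1_eq (K : Cfg G) (p1 p2 q1 q2 : ℚ) :
    bf (1 / (K.sval ⟨0, 0, 1, 0⟩ 1 : ℚ) - 1 / (K.sval ⟨0, 1, 0, 0⟩ 1 : ℚ))
      (-1 / (K.sval ⟨0, 0, 1, 0⟩ 1 : ℚ))
      (1 / (K.sval ⟨0, 0, 1, 0⟩ 1 : ℚ) + 1 / (K.sval ⟨0, 0, 1, 1⟩ 1 : ℚ)) p1 p2 q1 q2 =
    K.form1 p1 p2 q1 q2 := rfl

theorem form2_eq (K : Cfg G) (p1 p2 q1 q2 : ℚ) :
    bf (1 / (K.sval ⟨0, 0, 0, 1⟩ 1 : ℚ) - 1 / (K.sval ⟨1, 0, 0, 0⟩ 1 : ℚ))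
      (-1 / (K.sval ⟨0, 0, 0, 1⟩ 1 : ℚ))
      (1 / (K.sval ⟨0, 0, 0, 1⟩ 1 : ℚ) + 1 / (K.sval ⟨0, 0, 1, 1⟩ 1 : ℚ)) p1 p2 q1 q2 =
    K.form2 p1 p2 q1 q2 := rfl

theorem eight_dvd : Nat.card G = 72 * K.N.index := by
  rw [← K.card_N, Subgroup.card_mul_index]

theorem index_N_not_dvd : ¬ 3 ∣ K.N.index := fun h =>
  K.index_M (h.trans (Subgroup.index_dvd_of_le K.M_le))

theorem three_dvd_cent_w : 3 ∣ Nat.card (centralizer ({K.w} : Set G)) := by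
  have h : K.g2 ∈ centralizer ({K.w} : Set G) :=
    mem_centralizer_singleton_iff.2 K.symm.s_comm_e.eq.symm
  have := Subgroup.orderOf_dvd_natCard _ h
  rwa [K.order_three K.g2_mem K.g2_ne] at this

/-- The signed degree of `b` is `-1`. -/
theorem Generic.b_eq (hg : K.Generic) (hzw : ¬ IsConj K.z K.w) :
    K.sval ⟨0, 0, 1, 1⟩ 1 = -1 := by
  have hsw := K.s_not_conj_w
  have hN : (Nat.card G : ℚ) ≠ 0 := by simp
  by_cases hzs : IsConj K.z K.s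
  · -- the merged case
    obtain ⟨f11, g11⟩ := hg.forms K.w_sq K.w_sq
    obtain ⟨f12, g12⟩ := hg.forms K.w_sq K.s_sq
    obtain ⟨f22, g22⟩ := hg.forms K.s_sq K.s_sq
    rw [ind_zero hzw, ind_self, ind_zero hsw] at f11 g11
    rw [ind_zero hzw, ind_self, ind_self, ind_zero hsw, ind_one hzs,
      ind_zero' hsw] at f12 g12
    rw [ind_self, ind_zero' hsw, ind_one hzs] at f22 g22
    push_cast at f11 g11 f12 g12 f22 g22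
    norm_num [-Nat.card_eq_fintype_card] at f11 g11 f12 g12 f22 g22
    obtain ⟨ra, rx⟩ := hg.rel' (y := (1 : G)) (one_mul 1)
    obtain ⟨hb0, hb9, -, -, hbw⟩ := hg.sval_props (v := ⟨0, 0, 1, 1⟩) (by decide)
    obtain ⟨ha0, -⟩ := hg.sval_props (v := ⟨0, 0, 1, 0⟩) (by decide)
    obtain ⟨he0, -⟩ := hg.sval_props (v := ⟨0, 1, 0, 0⟩) (by decide)
    obtain ⟨hx0, -⟩ := hg.sval_props (v := ⟨0, 0, 0, 1⟩) (by decide)
    obtain ⟨hh0, -⟩ := hg.sval_props (v := ⟨1, 0, 0, 0⟩) (by decide)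
    simp only [Vec.u1, Vec.u2, Vec.v2] at hb9 hbw
    have ra' := congrArg (Int.cast : ℤ → ℚ) ra
    have rx' := congrArg (Int.cast : ℤ → ℚ) rx
    push_cast at ra' rx'
    have i1 := merged_identity (p1 := K.dl ⟨0, 1, 0, 0⟩ K.w / cc K.w)
      (p2 := K.dl ⟨0, 0, 1, 1⟩ K.w / cc K.w) (q1 := K.dl ⟨0, 1, 0, 0⟩ K.s / cc K.s)
      (q2 := K.dl ⟨0, 0, 1, 1⟩ K.s / cc K.s)
      (Int.cast_ne_zero.2 ha0 : (K.sval ⟨0, 0, 1, 0⟩ 1 : ℚ) ≠ 0)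
      (Int.cast_ne_zero.2 he0 : (K.sval ⟨0, 1, 0, 0⟩ 1 : ℚ) ≠ 0)
      (Int.cast_ne_zero.2 hb0 : (K.sval ⟨0, 0, 1, 1⟩ 1 : ℚ) ≠ 0) (by linarith)
    have i2 := merged_identity (p1 := K.dl ⟨1, 0, 0, 0⟩ K.w / cc K.w)
      (p2 := K.dl ⟨0, 0, 1, 1⟩ K.w / cc K.w) (q1 := K.dl ⟨1, 0, 0, 0⟩ K.s / cc K.s)
      (q2 := K.dl ⟨0, 0, 1, 1⟩ K.s / cc K.s)
      (Int.cast_ne_zero.2 hx0 : (K.sval ⟨0, 0, 0, 1⟩ 1 : ℚ) ≠ 0)
      (Int.cast_ne_zero.2 hh0 : (K.sval ⟨1, 0, 0, 0⟩ 1 : ℚ) ≠ 0)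
      (Int.cast_ne_zero.2 hb0 : (K.sval ⟨0, 0, 1, 1⟩ 1 : ℚ) ≠ 0) (by linarith)
    simp only [form1_eq, form2_eq] at i1 i2
    rw [f11, f12, f22] at i1
    rw [g11, g12, g22] at i2
    set p : ℚ := K.dl ⟨0, 0, 1, 1⟩ K.w / cc K.w with hp
    set r : ℚ := K.dl ⟨0, 0, 1, 1⟩ K.s / cc K.s
    set β : ℚ := (K.sval ⟨0, 0, 1, 1⟩ 1 : ℚ) with hβ
    field_simp at i1 i2
    have hquad : (r - p) * (5 * r - 13 * p) = 0 := by
      apply mul_left_cancel₀ hN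
      rw [mul_zero]
      linear_combination (-1 / 2) * i1 + 2 * i2
    rcases mul_eq_zero.1 hquad with h | h
    · have hr : r = p := by linarith
      rw [hr] at i2
      have h0 : β * (β + 1) = 0 := by linarith
      have h1 : β + 1 = 0 := (mul_eq_zero.1 h0).resolve_left (Int.cast_ne_zero.2 hb0)
      have : (K.sval ⟨0, 0, 1, 1⟩ 1 : ℚ) = ((-1 : ℤ) : ℚ) := by push_cast; linarith
      exact_mod_cast this
    · exfalso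
      have hr : r = 13 / 5 * p := by linarith
      rw [hr] at i2
      have hkey : 25 * (β * (β + 1)) * cc K.w ^ 2 =
          48 * (Nat.card G : ℚ) * K.dl ⟨0, 0, 1, 1⟩ K.w ^ 2 := by
        have hc : cc K.w ≠ 0 := Nat.cast_ne_zero.2 Nat.card_pos.ne'
        have : 25 * (β * (β + 1)) = 48 * (Nat.card G : ℚ) * p ^ 2 := by linarith
        rw [this, hp]
        field_simp
      rw [cc, dl, hβ] at hkey
      obtain ⟨c, hc⟩ := K.three_dvd_cent_w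
      rw [hc, eight_dvd (K := K)] at hkey
      push_cast at hkey
      have hkey' : 25 * (K.sval ⟨0, 0, 1, 1⟩ 1 * (K.sval ⟨0, 0, 1, 1⟩ 1 + 1)) * (3 * (c : ℤ)) ^ 2 =
          48 * (72 * (K.N.index : ℤ)) *
            (K.sval ⟨0, 0, 1, 1⟩ K.w - K.sval ⟨0, 0, 1, 1⟩ 1) ^ 2 := by exact_mod_cast hkey
      obtain ⟨t, ht⟩ : (9 : ℤ) ∣ K.sval ⟨0, 0, 1, 1⟩ 1 + 1 := by omega
      have hδ : ¬ (3 : ℤ) ∣ K.sval ⟨0, 0, 1, 1⟩ K.w - K.sval ⟨0, 0, 1, 1⟩ 1 := by omega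
      rw [ht] at hkey'
      have h3 : (3 : ℤ) ∣ 128 * (K.N.index : ℤ) *
          (K.sval ⟨0, 0, 1, 1⟩ K.w - K.sval ⟨0, 0, 1, 1⟩ 1) ^ 2 :=
        ⟨25 * K.sval ⟨0, 0, 1, 1⟩ 1 * t * (c : ℤ) ^ 2, by linarith⟩
      rcases Int.prime_three.dvd_mul.1 h3 with h' | h'
      · rcases Int.prime_three.dvd_mul.1 h' with h' | h'
        · norm_num at h'
        · exact index_N_not_dvd (K := K) (by exact_mod_cast h')
      · exact hδ (Int.prime_three.dvd_of_dvd_pow h')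
  · -- three classes
    obtain ⟨f11, g11⟩ := hg.forms K.w_sq K.w_sq
    obtain ⟨f12, g12⟩ := hg.forms K.w_sq K.s_sq
    obtain ⟨f22, g22⟩ := hg.forms K.s_sq K.s_sq
    obtain ⟨f13, g13⟩ := hg.forms K.w_sq K.z_z
    obtain ⟨f23, g23⟩ := hg.forms K.s_sq K.z_z
    obtain ⟨f21, g21⟩ := hg.forms K.s_sq K.w_sq
    rw [ind_zero hzw, ind_self, ind_zero hsw] at f11 g11
    rw [ind_zero hzw, ind_self, ind_self, ind_zero hsw, ind_zero hzs, ind_zero' hsw] at f12 g12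
    rw [ind_zero hzw, ind_self, ind_self, ind_zero hsw, ind_zero hzs, ind_zero' hsw] at f21 g21
    rw [ind_self, ind_zero' hsw, ind_zero hzs] at f22 g22
    rw [ind_zero hzw, ind_self, ind_self, ind_zero hsw, ind_zero' hzs, ind_zero' hzw] at f13 g13
    rw [ind_zero hzs, ind_self, ind_self, ind_zero' hsw, ind_zero' hzs, ind_zero' hzw] at f23 g23
    push_cast at f11 g11 f12 g12 f22 g22 f13 g13 f23 g23 f21 g21
    norm_num [-Nat.card_eq_fintype_card] at f11 g11 f12 g12 f22 g22 f13 g13 f23 g23 f21 g21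
    have d1 := bf_kernel (t1 := 3 * (K.dl ⟨0, 1, 0, 0⟩ K.w / cc K.w) +
        -3 * (K.dl ⟨0, 1, 0, 0⟩ K.s / cc K.s) + K.dl ⟨0, 1, 0, 0⟩ K.z / cc K.z)
      (t2 := 3 * (K.dl ⟨0, 0, 1, 1⟩ K.w / cc K.w) +
        -3 * (K.dl ⟨0, 0, 1, 1⟩ K.s / cc K.s) + K.dl ⟨0, 0, 1, 1⟩ K.z / cc K.z)
      (A := 1 / (K.sval ⟨0, 0, 1, 0⟩ 1 : ℚ) - 1 / (K.sval ⟨0, 1, 0, 0⟩ 1 : ℚ))
      (B := -1 / (K.sval ⟨0, 0, 1, 0⟩ 1 : ℚ))
      (C := 1 / (K.sval ⟨0, 0, 1, 0⟩ 1 : ℚ) + 1 / (K.sval ⟨0, 0, 1, 1⟩ 1 : ℚ))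
      (p1 := K.dl ⟨0, 1, 0, 0⟩ K.w / cc K.w) (p2 := K.dl ⟨0, 0, 1, 1⟩ K.w / cc K.w)
      (q1 := K.dl ⟨0, 1, 0, 0⟩ K.s / cc K.s) (q2 := K.dl ⟨0, 0, 1, 1⟩ K.s / cc K.s)
    have d2 := bf_kernel (t1 := -3 * (K.dl ⟨1, 0, 0, 0⟩ K.w / cc K.w) +
        3 * (K.dl ⟨1, 0, 0, 0⟩ K.s / cc K.s) + K.dl ⟨1, 0, 0, 0⟩ K.z / cc K.z)
      (t2 := -3 * (K.dl ⟨0, 0, 1, 1⟩ K.w / cc K.w) +
        3 * (K.dl ⟨0, 0, 1, 1⟩ K.s / cc K.s) + K.dl ⟨0, 0, 1, 1⟩ K.z / cc K.z)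
      (A := 1 / (K.sval ⟨0, 0, 0, 1⟩ 1 : ℚ) - 1 / (K.sval ⟨1, 0, 0, 0⟩ 1 : ℚ))
      (B := -1 / (K.sval ⟨0, 0, 0, 1⟩ 1 : ℚ))
      (C := 1 / (K.sval ⟨0, 0, 0, 1⟩ 1 : ℚ) + 1 / (K.sval ⟨0, 0, 1, 1⟩ 1 : ℚ))
      (p1 := K.dl ⟨1, 0, 0, 0⟩ K.w / cc K.w) (p2 := K.dl ⟨0, 0, 1, 1⟩ K.w / cc K.w)
      (q1 := K.dl ⟨1, 0, 0, 0⟩ K.s / cc K.s) (q2 := K.dl ⟨0, 0, 1, 1⟩ K.s / cc K.s)
    simp only [bf_sub, form1_eq, f11, f12, f22, f13, f23, f21] at d1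
    simp only [bf_sub, form2_eq, g11, g12, g22, g13, g23, g21] at d2
    have hdet : ∀ x : ℚ, x ≠ 0 → x * x ≠ 0 := fun x h => mul_ne_zero h h
    have t1 := (d1 (by field_simp; norm_num) (by ring) (by ring)).2
    have t2 := (d2 (by field_simp; norm_num) (by ring) (by ring)).2
    have hz : K.dl ⟨0, 0, 1, 1⟩ K.z = 0 := by
      have h0 : K.dl ⟨0, 0, 1, 1⟩ K.z / cc K.z = 0 := by linarith
      exact (div_eq_zero_iff.1 h0).resolve_right (Nat.cast_ne_zero.2 Nat.card_pos.ne')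
    have hz' : K.sval ⟨0, 0, 1, 1⟩ K.z = K.sval ⟨0, 0, 1, 1⟩ 1 := by
      rw [dl, sub_eq_zero] at hz; exact_mod_cast hz
    obtain ⟨χ, -, -, hcase⟩ := hg.exists_char (v := ⟨0, 0, 1, 1⟩) (by decide)
    have hzval : (χ : G → ℂ) K.z = (χ : G → ℂ) 1 := by
      obtain ⟨e1, e2, -⟩ := invol_val (IsIrr.isCharacter χ.2) K.z_z
      rw [← e1, ← e2]
      congr 1
      rcases hcase with ⟨-, he⟩ | ⟨-, he⟩ <;> rw [he, he] at hz' <;> simp only [val] at hz' <;> omega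
    obtain ⟨L, hL, hmem, -⟩ := IsChar.exists_kernel (IsIrr.isCharacter χ.2)
    have hzL := (hmem K.z).2 hzval
    have heL : (χ : G → ℂ) K.e = (χ : G → ℂ) 1 := by
      refine (hmem K.e).1 ?_
      have h2 : K.e * K.z * K.e⁻¹ * K.z ∈ L := mul_mem (hL.conj_mem _ hzL K.e) hzL
      have h3 : K.e * K.z * K.e⁻¹ * K.z = K.e * K.e := by
        rw [mul_assoc K.e, mul_assoc K.e, K.zmz (inv_mem K.e_mem), inv_inv]
      rw [h3] at h2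
      have h4 : K.e = (K.e * K.e) * (K.e * K.e) := by
        rw [show K.e * K.e * (K.e * K.e) = K.e ^ 3 * K.e by rw [pow_succ, pow_two]; group,
          K.cube K.e_mem, one_mul]
      rw [h4]
      exact mul_mem h2 h2
    have hv : val χ K.e = val χ 1 := zv_congr heL
    obtain ⟨n, hn, hn1⟩ := IsIrr.exists_degree χ.2
    have hd : val χ 1 = n := by simp [val, zv, hn1]
    obtain ⟨e1, -⟩ := K.vec_spec χ
    rcases hcase with ⟨e, he⟩ | ⟨e, he⟩ <;> rw [e] at e1 <;>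
      simp [Vec.u1, Vec.neg] at e1 <;> rw [he 1] <;> omega

end Cfg

end Cfsg.Agent.H33.ExcThree
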