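import Cfsg.Agent.H33.ExcThree.Final

/-!
# The classification of the exceptional configuration
-/

set_option autoImplicit false

namespace Cfsg.Agent.H33.ExcThree

open Cfsg.Agent.CharBasic Cfsg.Agent.H83 Subgroup
open scoped commutatorElement

universe u

variable {G : Type u} [Group G] [Fintype G] {K : Cfg G}

namespace Cfg

/-- An irreducible character with the values of the linear character is that character. -/
theorem Generic.zeta_char (hg : K.Generic) (Z : K.Zeta) :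
    ∃ χ : Cfsg.IrrCharacter G, χ ≠ triv ∧ (∀ g, (χ : G → ℂ) g = (Z.hom g : ℂ)) ∧
      K.vec χ = (⟨0, 0, 1, 1⟩ : Vec).neg ∧
      ∀ ψ : Cfsg.IrrCharacter G, ψ ≠ triv →
        (K.vec ψ = ⟨0, 0, 1, 1⟩ ∨ K.vec ψ = (⟨0, 0, 1, 1⟩ : Vec).neg) → ψ = χ := by
  obtain ⟨χ₀, huni, -, -⟩ := hg.exists_char (v := ⟨0, 0, 1, 1⟩) (by decide)
  let χ : Cfsg.IrrCharacter G := ⟨_, CharInduce.isIrrCharacter_hom Z.hom⟩
  have hv : ∀ (t : G) (k : ℤ), (Z.hom t : ℂ) = (k : ℂ) → val χ t = k := by
    intro t k h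
    show zv (fun g => (Z.hom g : ℂ)) t = k
    simp [zv, h]
  have h1 := hv K.e 1 (by rw [Z.at_e]; norm_num)
  have h2 := hv K.g2 1 (by rw [Z.at_g2]; norm_num)
  have h3 := hv (K.e * K.s) (-1) (by simp [Z.at_e, Z.at_s])
  have h4 := hv (K.g2 * K.w) (-1) (by simp [Z.at_g2, Z.at_w])
  have hvec : K.vec χ = (⟨0, 0, 1, 1⟩ : Vec).neg := by
    unfold vec Vec.neg
    rw [h1, h2, h3, h4]
    decide
  have hne : χ ≠ triv := fun h => by
    have := congrArg K.vec h
    rw [hvec, K.vec_triv] at this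
    revert this
    decide
  refine ⟨χ, hne, fun g => rfl, hvec, fun ψ h h' => ?_⟩
  rw [huni ψ h h', huni χ hne (Or.inr hvec)]

theorem Generic.hom_sign (hg : K.Generic) (Z : K.Zeta) (g : G) : Z.hom g = 1 ∨ Z.hom g = -1 := by
  obtain ⟨χ, hne, hχ, hvec, -⟩ := hg.zeta_char Z
  obtain ⟨k, hk⟩ := hg.int_valued (v := ⟨0, 0, 1, 1⟩) (by decide) hne (Or.inr hvec) g
  rw [hχ] at hk
  have hn := CharInduce.norm_hom Z.hom g
  rw [hk, Complex.norm_intCast] at hn
  have h1 : |k| = 1 := by exact_mod_cast hn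
  rcases (abs_eq (by norm_num : (0 : ℤ) ≤ 1)).1 h1 with rfl | rfl
  · left; exact Units.ext (by rw [hk]; simp)
  · right; exact Units.ext (by rw [hk]; simp)

theorem Zeta.s_not_mem (Z : K.Zeta) : K.s ∉ Z.hom.ker := fun h => by
  have h' := congrArg Units.val (MonoidHom.mem_ker.1 h)
  rw [Z.at_s, Units.val_one] at h'
  norm_num at h'

theorem Generic.ker_index (hg : K.Generic) (Z : K.Zeta) : Z.hom.ker.index = 2 := by
  rw [Subgroup.index_eq_two_iff]
  refine ⟨K.s, fun b => ?_⟩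
  have hs : Z.hom K.s = -1 := Units.ext (by rw [Z.at_s]; simp)
  have hne : (1 : ℂˣ) ≠ -1 := by
    intro h
    have := congrArg Units.val h
    norm_num at this
  simp only [MonoidHom.mem_ker, map_mul, hs, xor_def]
  rcases hg.hom_sign Z b with h | h <;> rw [h] <;> simp [hne, hne.symm]

theorem M_eq_of_invariant (L : Subgroup G) {m : G} (hm : m ∈ K.M) (hm1 : m ≠ 1) (hmL : m ∈ L)
    (hr : ∀ x ∈ L, K.s * K.w * x * (K.s * K.w)⁻¹ ∈ L) : K.M ≤ L := by
  set I : Subgroup G := L ⊓ K.M with hI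
  set r : G := K.s * K.w with hrdef
  have hrN : r ∈ K.N := mul_mem K.s_mem K.w_mem
  have hmI : m ∈ I := ⟨hmL, hm⟩
  have hrm : r * m * r⁻¹ ∈ I := ⟨hr m hmL, K.conj_mem hrN hm⟩
  by_contra hno
  have hcard : Nat.card I = 3 := by
    have hd : Nat.card I ∣ 3 ^ 2 := by
      have := Subgroup.card_dvd_of_le (inf_le_right : I ≤ K.M)
      rwa [K.card_M] at this
    obtain ⟨k, hk, hkc⟩ := (Nat.dvd_prime_pow Nat.prime_three).1 hd
    interval_cases k
    · exfalso
      rw [pow_zero, Subgroup.card_eq_one] at hkc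
      rw [hkc, Subgroup.mem_bot] at hmI
      exact hm1 hmI
    · simpa using hkc
    · exfalso
      have he : I = K.M := Subgroup.eq_of_le_of_card_ge inf_le_right (by rw [K.card_M, hkc]; norm_num)
      exact hno (he ▸ inf_le_left)
  have hzp : zpowers m = I := Subgroup.eq_of_le_of_card_ge (zpowers_le.2 hmI)
    (by rw [Nat.card_zpowers, K.order_three hm hm1, hcard])
  rw [← hzp] at hrm
  obtain ⟨j, hj⟩ := hrm
  change m ^ j = r * m * r⁻¹ at hj
  have h2 : K.z * m * K.z = m ^ (j * j) := by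
    have hz : K.z = r * r := by
      show K.s * K.w * K.s * K.w = _
      rw [hrdef]; simp only [mul_assoc]
    nth_rewrite 2 [← K.inv_z]
    rw [hz, show r * r * m * (r * r)⁻¹ = r * (r * m * r⁻¹) * r⁻¹ by group, ← hj, ← conj_zpow, ← hj,
      ← zpow_mul]
  rw [K.zmz hm, ← zpow_neg_one, zpow_eq_zpow_iff_modEq, K.order_three hm hm1, Int.modEq_iff_dvd] at h2
  have hmod : (j * j) % 3 = (j % 3) * (j % 3) % 3 := Int.mul_emod j j 3
  push_cast at h2
  obtain h | h | h : j % 3 = 0 ∨ j % 3 = 1 ∨ j % 3 = 2 := by omega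
  all_goals
    rw [h] at hmod
    omega

theorem Generic.eq_hom_of_trivial_on (hg : K.Generic) (hzw : ¬ IsConj K.z K.w) (Z : K.Zeta)
    (hidx : K.N.index = 10) (ha : K.sval ⟨0, 0, 1, 0⟩ 1 = -5) (hf : K.sval ⟨0, 1, 1, 0⟩ 1 = -10)
    {ψ : Cfsg.IrrCharacter G} (he : (ψ : G → ℂ) K.e = (ψ : G → ℂ) 1)
    (hg2 : (ψ : G → ℂ) K.g2 = (ψ : G → ℂ) 1) (hne : ψ ≠ triv) (g : G) :
    (ψ : G → ℂ) g = (Z.hom g : ℂ) := by
  have _ := hidx
  obtain ⟨χ, -, hχ, -, huniχ⟩ := hg.zeta_char Z
  obtain ⟨n, hn, hn1⟩ := IsIrr.exists_degree ψ.2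
  have hd : val ψ 1 = n := by simp [val, zv, hn1]
  have u1 : val ψ K.e = val ψ 1 := zv_congr he
  have u2 : val ψ K.g2 = val ψ 1 := zv_congr hg2
  obtain ⟨e1, e2, -⟩ := K.vec_spec ψ
  by_cases h0 : K.vec ψ = ⟨0, 0, 0, 0⟩
  · rw [h0] at e1
    simp [Vec.u1] at e1
    omega
  obtain ⟨v, hv, hvv⟩ := hg.exists_idx hne h0
  obtain ⟨χ', huni, -, hcase⟩ := hg.exists_char hv
  obtain rfl : ψ = χ' := huni ψ hne hvv
  obtain ⟨d1, d2, d3, d4, d5⟩ := hg.degrees hzw Z
  rw [ha] at d1 d2 d3 d5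
  rw [hf] at d4 d5
  have hs : K.sval v 1 = v.u1 ∧ v.u1 = v.u2 := by
    rcases hcase with ⟨e, hh⟩ | ⟨e, hh⟩ <;> rw [e] at e1 e2 <;> rw [hh 1] <;>
      simp only [Vec.neg, Vec.u1, Vec.u2] at e1 e2 ⊢ <;> omega
  have hvb : v = ⟨0, 0, 1, 1⟩ := by
    simp only [idx1, List.mem_cons, List.not_mem_nil, or_false] at hv
    rcases hv with rfl | rfl | rfl | rfl | rfl | rfl | rfl | rfl
    all_goals
      first
        | rfl
        | (simp [Vec.u1, Vec.u2, d4, d5, hf] at hs)
  subst hvb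
  rw [huniχ ψ hne hvv, hχ]

/-- The kernel of the linear character is simple. -/
theorem Generic.ker_simple (hg : K.Generic) (hzw : ¬ IsConj K.z K.w) (Z : K.Zeta)
    (hidx : K.N.index = 10) (ha : K.sval ⟨0, 0, 1, 0⟩ 1 = -5) (hf : K.sval ⟨0, 1, 1, 0⟩ 1 = -10) :
    IsSimpleGroup Z.hom.ker := by
  classical
  set G0 := Z.hom.ker with hG0
  have hMG0 : K.M ≤ G0 := fun m hm => MonoidHom.mem_ker.2 (Z.on_M hm)
  have hzG0 : K.z ∈ G0 := MonoidHom.mem_ker.2 (Units.ext (by rw [Z.at_z]; rfl))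
  have hrG0 : K.s * K.w ∈ G0 := MonoidHom.mem_ker.2 (Units.ext (by simp [Z.at_s, Z.at_w]))
  -- the kernel is perfect
  set D : Subgroup G := ⁅G0, G0⁆ with hD
  have hDn : D.Normal := Subgroup.commutator_normal G0 G0
  have hMD : K.M ≤ D := by
    by_cases hex : ∃ m ∈ K.M, m ≠ 1 ∧ m ∈ D
    · obtain ⟨m, hm, hm1, hmD⟩ := hex
      exact M_eq_of_invariant D hm hm1 hmD fun x hx => hDn.conj_mem x hx _
    · exfalso
      push Not at hex
      have hb : D = ⊥ := K.inv_trivial_normal D fun m hm hmD => by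
        by_contra h
        exact hex m hm h hmD
      have hc : ⁅K.z, K.e⁆ ∈ D := Subgroup.commutator_mem_commutator hzG0 (hMG0 K.e_mem)
      rw [hb, Subgroup.mem_bot, commutatorElement_def, K.inv_z, K.zmz K.e_mem] at hc
      apply K.ne_inv K.e_mem K.e_ne
      exact (mul_inv_eq_one.1 hc).symm
  have hperf : G0 ≤ D := by
    intro q hq
    by_contra hqD
    obtain ⟨χ, hχ⟩ := exists_irr_ne_of_ne_one (G := G ⧸ D) (g := (q : G ⧸ D))
      (fun h => hqD ((QuotientGroup.eq_one_iff q).1 h))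
    let ψ : Cfsg.IrrCharacter G :=
      ⟨_, CharInduce.IsIrr.comp χ.2 (QuotientGroup.mk' D) (QuotientGroup.mk'_surjective D)⟩
    have htr : ∀ m ∈ K.M, (ψ : G → ℂ) m = (ψ : G → ℂ) 1 := fun m hm => by
      show (χ : G ⧸ D → ℂ) ((m : G) : G ⧸ D) = (χ : G ⧸ D → ℂ) ((1 : G) : G ⧸ D)
      exact congrArg (χ : G ⧸ D → ℂ)
        ((QuotientGroup.eq (a := m) (b := 1)).2 (by simpa using inv_mem (hMD hm)))
    apply hχ
    show (ψ : G → ℂ) q = (ψ : G → ℂ) 1
    by_cases hne : ψ = triv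
    · rw [hne]; rfl
    · have h := hg.eq_hom_of_trivial_on hzw Z hidx ha hf (htr _ K.e_mem) (htr _ K.g2_mem) hne
      rw [h q, h 1, MonoidHom.mem_ker.1 hq, map_one]
  have : Nontrivial G0 := ⟨⟨⟨K.e, hMG0 K.e_mem⟩, 1, fun h => K.e_ne (congrArg Subtype.val h)⟩⟩
  constructor
  intro H hH
  set L : Subgroup G := H.map G0.subtype with hL
  have hLG0 : L ≤ G0 := Subgroup.map_subtype_le H
  have hconj : ∀ g ∈ G0, ∀ x ∈ L, g * x * g⁻¹ ∈ L := by
    rintro g hgG _ ⟨y, hy, rfl⟩
    exact ⟨⟨g, hgG⟩ * y * ⟨g, hgG⟩⁻¹, hH.conj_mem y hy _, rfl⟩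
  have : Fact (Nat.Prime 3) := ⟨Nat.prime_three⟩
  by_cases hex : ∃ m ∈ K.M, m ≠ 1 ∧ m ∈ L
  · right
    obtain ⟨m, hm, hm1, hmL⟩ := hex
    have hML : K.M ≤ L := M_eq_of_invariant L hm hm1 hmL (hconj _ hrG0)
    have hMH : K.M.subgroupOf G0 ≤ H := by
      intro x hx
      obtain ⟨y, hy, hyx⟩ := hML hx
      rwa [← G0.subtype_injective hyx]
    set M0 := K.M.subgroupOf G0 with hM0
    have hM0c : Nat.card M0 = 3 ^ 2 := by
      rw [hM0, Nat.card_congr (Subgroup.subgroupOfEquivOfLe hMG0).toEquiv, K.card_M]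
      rfl
    have hidxM : ¬ 3 ∣ (M0.subgroupOf H).index := fun h => K.index_M (by
      refine h.trans ?_
      have h1 : M0.relIndex H ∣ M0.index := ⟨H.index, (Subgroup.relIndex_mul_index hMH).symm⟩
      have h2 : K.M.relIndex G0 ∣ K.M.index := ⟨G0.index, (Subgroup.relIndex_mul_index hMG0).symm⟩
      exact h1.trans h2)
    let P : Sylow 3 H := (IsPGroup.of_card (n := 2) (show Nat.card (M0.subgroupOf H) = 3 ^ 2 by
      rw [Nat.card_congr (Subgroup.subgroupOfEquivOfLe hMH).toEquiv, hM0c])).toSylow hidxM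
    have hfr := Sylow.normalizer_sup_eq_top P
    rw [IsPGroup.toSylow_coe, Subgroup.map_subgroupOf_eq_of_le hMH] at hfr
    set Q := Subgroup.normalizer (M0 : Set G0)
    have hQN : Q.map G0.subtype ≤ K.N := by
      rintro _ ⟨q, hq, rfl⟩
      rw [Cfg.N, Subgroup.mem_normalizer_iff]
      intro h
      constructor
      · intro hh
        exact (Subgroup.mem_normalizer_iff.1 hq ⟨h, hMG0 hh⟩).1 hh
      · intro hh
        have hG : h ∈ G0 := by
          have h' := mul_mem (mul_mem (inv_mem q.2) (hMG0 hh)) q.2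
          simpa [mul_assoc] using h'
        exact (Subgroup.mem_normalizer_iff.1 hq ⟨h, hG⟩).2 hh
    have hHi : H.index ∣ 8 := by
      have h1 : H.index = H.relIndex Q := by
        rw [← Subgroup.relIndex_top_right H, ← hfr, Subgroup.relIndex_sup_right]
      have h2 : H.relIndex Q ∣ M0.relIndex Q := Subgroup.relIndex_dvd_of_le_left Q hMH
      have h3 : M0.relIndex Q = K.M.relIndex (Q.map G0.subtype) := by
        rw [← Subgroup.relIndex_map_map_of_injective M0 Q G0.subtype_injective, hM0,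
          Subgroup.map_subgroupOf_eq_of_le hMG0]
      have h4 : K.M.relIndex K.N = 8 := by
        have := Subgroup.relIndex_mul_relIndex ⊥ K.M K.N bot_le K.M_le
        rw [Subgroup.relIndex_bot_left, Subgroup.relIndex_bot_left, K.card_M, K.card_N] at this
        omega
      rw [h1]
      refine h2.trans (h3 ▸ ?_)
      rw [← h4]
      have hM_le : K.M ≤ Q.map G0.subtype := by
        rw [← Subgroup.map_subgroupOf_eq_of_le hMG0]
        exact Subgroup.map_mono Subgroup.le_normalizer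
      exact ⟨(Q.map G0.subtype).relIndex K.N, (Subgroup.relIndex_mul_relIndex _ _ _ hM_le hQN).symm⟩
    by_contra hne
    have : Nontrivial (G0 ⧸ H) := QuotientGroup.nontrivial_iff.2 hne
    have : Fact (Nat.Prime 2) := ⟨Nat.prime_two⟩
    have hpg : IsPGroup 2 (G0 ⧸ H) := by
      obtain ⟨k, -, hk⟩ := (Nat.dvd_prime_pow Nat.prime_two).1 (show H.index ∣ 2 ^ 3 from hHi)
      exact IsPGroup.of_card (n := k) (by rw [← Subgroup.index_eq_card, hk])
    haveI := hpg.isNilpotent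
    have hlt : commutator (G0 ⧸ H) < ⊤ := IsSolvable.commutator_lt_top_of_nontrivial _
    have htop : commutator G0 = ⊤ := by
      apply Subgroup.map_injective G0.subtype_injective
      rw [map_subtype_commutator, ← MonoidHom.range_eq_map, Subgroup.range_subtype]
      exact le_antisymm (Subgroup.commutator_le_right G0 G0) hperf
    refine hlt.ne ?_
    rw [_root_.commutator_def, ← Subgroup.map_top_of_surjective (QuotientGroup.mk' H)
      (QuotientGroup.mk'_surjective H), ← Subgroup.map_commutator, ← _root_.commutator_def, htop]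
  · left
    push Not at hex
    have h3 : ¬ 3 ∣ Nat.card L := by
      intro h3
      obtain ⟨x, hx⟩ := exists_prime_orderOf_dvd_card' (G := L) 3 h3
      have hxo : orderOf (x : G) = 3 := by rw [Subgroup.orderOf_coe, hx]
      obtain ⟨g, hgx⟩ := K.exists_conj_mem hxo
      have key : ∀ g' ∈ G0, g' * (x : G) * g'⁻¹ ∈ K.M → False := by
        intro g' hg' hM
        refine hex _ hM ?_ (hconj g' hg' _ x.2)
        intro h
        rw [conj_eq_one_iff] at h
        rw [h, orderOf_one] at hxo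
        omega
      by_cases hg0 : g ∈ G0
      · exact key g hg0 hgx
      · refine key (K.s * g) ?_ ?_
        · rw [MonoidHom.mem_ker] at hg0
          rw [MonoidHom.mem_ker, map_mul, show Z.hom K.s = -1 from Units.ext (by rw [Z.at_s]; simp),
            (hg.hom_sign Z g).resolve_left hg0, neg_mul_neg, one_mul]
        · rw [mul_inv_rev, show K.s * g * (x : G) * (g⁻¹ * K.s⁻¹) = K.s * (g * (x : G) * g⁻¹) * K.s⁻¹ by
            group]
          exact K.conj_mem K.s_mem hgx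
    have hLb : L = ⊥ := K.inv_trivial L (fun m hm => by
      rw [Subgroup.mem_normalizer_iff]
      intro h
      refine ⟨hconj m (hMG0 hm) h, fun hh => ?_⟩
      have := hconj m⁻¹ (inv_mem (hMG0 hm)) _ hh
      simpa [mul_assoc] using this) h3
    exact (Subgroup.map_eq_bot_iff_of_injective H G0.subtype_injective).1 hLb

/-- The conclusion when `z` is not conjugate to `w`. -/
theorem main_of_not_conj (hzw : ¬ IsConj K.z K.w) :
    K.M.Normal ∨ Nonempty (G ≃* Equiv.Perm (Fin 6)) := by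
  have hg : K.Generic := K.pole_excluded hzw
  obtain ⟨Z⟩ := hg.exists_zeta hzw
  rcases hg.order hzw Z with h | ⟨hidx, ha, hf⟩
  · left
    rw [Subgroup.index_eq_one] at h
    exact Subgroup.normalizer_eq_top_iff.1 h
  · right
    have hcardG : Nat.card G = 720 := by rw [eight_dvd (K := K), hidx]
    have hG0 : Nat.card Z.hom.ker = 360 := by
      have := Z.hom.ker.card_mul_index
      rw [hg.ker_index Z, hcardG] at this
      omega
    haveI := hg.ker_simple hzw Z hidx ha hf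
    obtain ⟨φ⟩ := S0497.result (G := Z.hom.ker) hG0
    refine H64.CentSym.iso_perm_six Z.hom.ker (hg.ker_index Z) φ K.s Z.s_not_mem K.s_sq K.e
      (MonoidHom.mem_ker.2 (Z.on_M K.e_mem)) (K.order_three K.e_mem K.e_ne) K.s_comm_e.symm ?_
    intro L hLn hL
    haveI := hLn
    refine K.inv_trivial_normal L fun m hm hmL => ?_
    have h' : m ∈ L ⊓ Z.hom.ker := ⟨hmL, MonoidHom.mem_ker.2 (Z.on_M hm)⟩
    rwa [hL, Subgroup.mem_bot] at h'

end Cfg

/-- A group in the exceptional configuration has normal `M` or is `S₆`. -/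
theorem main {H : Type u} [Group H] [Finite H] (K : Cfg H) :
    K.M.Normal ∨ Nonempty (H ≃* Equiv.Perm (Fin 6)) := by
  cases nonempty_fintype H
  by_cases hzw : IsConj K.z K.w
  · refine K.symm.main_of_not_conj ?_
    intro h
    rw [K.symm_z, K.symm_w] at h
    exact K.s_not_conj_w (h.symm.trans hzw)
  · exact K.main_of_not_conj hzw

end Cfsg.Agent.H33.ExcThree
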