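import Cfsg.Agent.H33.ExcThree.Basic

/-!
# The order of the normaliser
-/

set_option autoImplicit false

namespace Cfsg.Agent.H33.ExcThree

open Subgroup

variable {G : Type*} [Group G] [Finite G]

theorem card_normalizer {M : Subgroup G} (hM : Nat.card M = 9) (hidx : ¬ 3 ∣ M.index)
    (hcent : centralizer (M : Set G) = M)
    (S : Sylow 2 (normalizer (M : Set G))) (hS : Nat.card (S : Subgroup (normalizer (M : Set G))) = 8) :
    Nat.card (normalizer (M : Set G)) = 72 := by
  classical
  have h8 := Sylow.card_eq_multiplicity S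
  rw [hS] at h8
  clear hS S
  set N := normalizer (M : Set G) with hN
  have hle : M ≤ N := Subgroup.le_normalizer
  have hrel : Nat.card N = 9 * M.relIndex N := by
    have := Subgroup.relIndex_mul_relIndex ⊥ M N bot_le hle
    rw [Subgroup.relIndex_bot_left, Subgroup.relIndex_bot_left, hM] at this
    exact this.symm
  have h3 : ¬ 3 ∣ M.relIndex N := fun h =>
    hidx (h.trans ⟨N.index, (Subgroup.relIndex_mul_index hle).symm⟩)
  have huniq : ∀ p : ℕ, p.Prime → p ∣ M.relIndex N → p = 2 := by
    intro p hp hdvd
    by_contra hp2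
    have hp3 : p ≠ 3 := fun h => h3 (h ▸ hdvd)
    have hp5 : 5 ≤ p := by
      have := hp.two_le
      by_contra h
      interval_cases p <;> simp_all (config := { decide := true })
    have : Fact p.Prime := ⟨hp⟩
    obtain ⟨x, hx⟩ := exists_prime_orderOf_dvd_card' (G := N) p (hrel ▸ hdvd.mul_left 9)
    have hxo : orderOf (x : G) = p := by rw [Subgroup.orderOf_coe, hx]
    have : Fintype M := Fintype.ofFinite _
    let f : Function.End M := fun m =>
      ⟨(x : G) * m * (x : G)⁻¹, (Subgroup.mem_normalizer_iff.1 x.2 m).1 m.2⟩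
    have hit : ∀ (k : ℕ) (m : M), (((f ^ k : Function.End M) m : M) : G) = (x : G) ^ k * m * ((x : G) ^ k)⁻¹ := by
      intro k
      induction k with
      | zero => intro m; rw [pow_zero, pow_zero, inv_one, mul_one, one_mul]; rfl
      | succ k ih =>
        intro m
        rw [pow_succ]
        show ((f ^ k) (f m) : G) = _
        rw [ih, pow_succ, mul_inv_rev]
        show (x : G) ^ k * ((x : G) * m * (x : G)⁻¹) * _ = _
        simp only [mul_assoc]
    have hf : f ^ p ^ 1 = 1 := by
      funext m
      apply Subtype.ext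
      rw [hit, pow_one, ← hxo, pow_orderOf_eq_one, inv_one, mul_one, one_mul]
      rfl
    have : Fintype f.fixedPoints := Fintype.ofFinite _
    have hmod := Equiv.Perm.card_fixedPoints_modEq (p := p) (n := 1) hf
    let C : Subgroup G := M ⊓ centralizer ({(x : G)} : Set G)
    have hfix : Nat.card f.fixedPoints = Nat.card C := by
      refine Nat.card_congr
        { toFun := fun m => ⟨(m.1 : G), m.1.2, mem_centralizer_singleton_iff.2 ?_⟩
          invFun := fun c => ⟨⟨(c : G), c.2.1⟩, Subtype.ext ?_⟩
          left_inv := fun m => rfl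
          right_inv := fun c => rfl }
      · have h : (x : G) * (m.1 : G) * (x : G)⁻¹ = (m.1 : G) := congrArg Subtype.val m.2
        rw [mul_inv_eq_iff_eq_mul] at h
        exact h.symm
      · show (x : G) * (c : G) * (x : G)⁻¹ = (c : G)
        rw [mul_inv_eq_iff_eq_mul]
        exact (mem_centralizer_singleton_iff.1 c.2.2).symm
    simp only [Fintype.card_eq_nat_card] at hmod
    rw [hfix, hM] at hmod
    have hdC : Nat.card C ∣ 3 ^ 2 := by
      have := Subgroup.card_dvd_of_le (inf_le_left : C ≤ M)
      rwa [hM] at this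
    obtain ⟨k, hk, hkc⟩ := (Nat.dvd_prime_pow Nat.prime_three).1 hdC
    rw [hkc] at hmod
    have hsub : (9 : ℕ) ≡ 3 ^ k [MOD p] := hmod
    interval_cases k
    · have hd := (Nat.modEq_iff_dvd' (by norm_num)).1 hsub.symm
      have := hp.dvd_of_dvd_pow (n := 3) (show p ∣ 2 ^ 3 from hd)
      have := Nat.le_of_dvd (by norm_num) this
      omega
    · have hd := (Nat.modEq_iff_dvd' (by norm_num)).1 hsub.symm
      have := Nat.le_of_dvd (by norm_num) hd
      interval_cases p <;> simp_all (config := { decide := true })
    · have hCM : C = M := Subgroup.eq_of_le_of_card_ge inf_le_left (by rw [hM, hkc]; norm_num)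
      have hxc : (x : G) ∈ centralizer (M : Set G) := by
        rw [mem_centralizer_iff]
        intro m hm
        have hm' : m ∈ C := hCM.symm ▸ hm
        exact mem_centralizer_singleton_iff.1 hm'.2
      rw [hcent] at hxc
      have hd := Subgroup.orderOf_dvd_natCard M hxc
      rw [hxo, hM] at hd
      have := hp.dvd_of_dvd_pow (n := 2) (show p ∣ 3 ^ 2 from hd)
      exact hp3 ((Nat.prime_dvd_prime_iff_eq hp Nat.prime_three).1 this)
  have hR0 : M.relIndex N ≠ 0 := fun h => by
    rw [h, mul_zero] at hrel
    exact Nat.card_pos.ne' hrel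
  have hR := Nat.eq_prime_pow_of_unique_prime_dvd hR0 (fun {d} hd h => huniq d hd h)
  set k := (M.relIndex N).primeFactorsList.length
  rw [hrel, hR, Nat.factorization_mul (by norm_num) (by positivity), Finsupp.add_apply,
    Nat.prime_two.factorization_pow, Finsupp.single_eq_same,
    Nat.factorization_eq_zero_of_not_dvd (show ¬ 2 ∣ 9 by norm_num), zero_add] at h8
  have hk : k = 3 := Nat.pow_right_injective le_rfl (h8.symm.trans (by norm_num))
  rw [hrel, hR, hk]
  norm_num

end Cfsg.Agent.H33.ExcThree
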