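import Cfsg.Agent.H33.ExcThree.Basic

/-!
# Producing the configuration from the group-theoretic hypotheses
-/

set_option autoImplicit false

namespace Cfsg.Agent.H33.ExcThree

open Subgroup

variable {G : Type*} [Group G] [Finite G]

/-- From an abstract dihedral group of order eight in `N(M)` to the configuration. -/
theorem exists_cfg (M : Subgroup G) (hM : Nat.card M = 9) (hidx : ¬ 3 ∣ M.index)
    (hcent : centralizer (M : Set G) = M)
    (hti : ∀ m ∈ M, m ≠ 1 → centralizer ({m} : Set G) ≤ normalizer (M : Set G))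
    (hN : Nat.card (normalizer (M : Set G)) = 72)
    (T : Subgroup G) (hT : T ≤ normalizer (M : Set G)) (eT : T ≃* DihedralGroup 4) :
    ∃ K : Cfg G, K.M = M := by
  classical
  set s : G := (eT.symm (DihedralGroup.sr 0) : G) with hs
  set w : G := (eT.symm (DihedralGroup.sr 1) : G) with hw
  have hss : s * s = 1 := by
    rw [hs, ← Subgroup.coe_mul, ← map_mul, DihedralGroup.sr_mul_self, map_one, Subgroup.coe_one]
  have hww : w * w = 1 := by
    rw [hw, ← Subgroup.coe_mul, ← map_mul, DihedralGroup.sr_mul_self, map_one, Subgroup.coe_one]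
  set z : G := s * w * s * w with hz
  have hzT : z = (eT.symm (DihedralGroup.r 2) : G) := by
    rw [hz, hs, hw, ← Subgroup.coe_mul, ← Subgroup.coe_mul, ← Subgroup.coe_mul, ← map_mul,
      ← map_mul, ← map_mul]
    congr 2
  have hzz : z * z = 1 := by
    rw [hzT, ← Subgroup.coe_mul, ← map_mul, show (DihedralGroup.r 2 : DihedralGroup 4) *
      DihedralGroup.r 2 = 1 by decide, map_one, Subgroup.coe_one]
  clear_value z
  have hne : ∀ x : DihedralGroup 4, x ≠ 1 → (eT.symm x : G) ≠ 1 := fun x hx h =>
    hx (eT.symm.injective (Subtype.ext (h.trans (by rw [map_one]; rfl))))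
  have hs1 : s ≠ 1 := hne _ (by decide)
  have hw1 : w ≠ 1 := hne _ (by decide)
  have hz1 : z ≠ 1 := hzT ▸ hne _ (by decide)
  have hsN : s ∈ normalizer (M : Set G) := hT (eT.symm _).2
  have hwN : w ∈ normalizer (M : Set G) := hT (eT.symm _).2
  have hzN : z ∈ normalizer (M : Set G) := hz ▸ mul_mem (mul_mem (mul_mem hsN hwN) hsN) hwN
  have comm : ∀ a ∈ M, ∀ b ∈ M, a * b = b * a := fun a ha b hb =>
    mem_centralizer_iff.1 (by rw [hcent]; exact hb) a ha
  have h9 : ∀ m ∈ M, m ^ 9 = 1 := by
    intro m hm
    have : (⟨m, hm⟩ : M) ^ 9 = 1 := by rw [← hM]; exact pow_card_eq_one'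
    exact congrArg Subtype.val this
  have hcj : ∀ t : G, t * t = 1 → t ∈ normalizer (M : Set G) → ∀ m ∈ M, t * m * t ∈ M := by
    intro t ht htN m hm
    have := (Subgroup.mem_normalizer_iff.1 htN m).1 hm
    rwa [inv_eq_of_mul_eq_one_right ht] at this
  have hnot : ∀ t : G, t * t = 1 → t ≠ 1 → t ∉ M := fun t ht ht1 htM => by
    apply ht1
    have h := h9 t htM
    rwa [pow_succ, show 8 = 2 * 4 from rfl, pow_mul, pow_two, ht, one_pow, one_mul] at h
  have hnf : ∀ t : G, t * t = 1 → t ≠ 1 → ¬ ∀ m ∈ M, t * m * t = m := by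
    intro t ht ht1 h
    refine hnot t ht ht1 ?_
    rw [← hcent, mem_centralizer_iff]
    intro m hm
    calc m * t = (t * m * t) * t := by rw [h m hm]
      _ = t * m := by rw [mul_assoc (t * m), ht, mul_one]
  have htt : ∀ (t m : G), t * t = 1 → t * (t * m * t) * t = m := by
    intro t m ht
    simp only [← mul_assoc, ht, one_mul]
    rw [mul_assoc, ht, mul_one]
  -- fixed and inverted elements
  have hfix : ∀ (t : G), t * t = 1 → t ∈ normalizer (M : Set G) → ∀ m ∈ M,
      t * (m * (t * m * t)) * t = m * (t * m * t) := by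
    intro t ht htN m hm
    calc t * (m * (t * m * t)) * t = (t * m * t) * (t * (t * m * t) * t) := by
          simp only [mul_assoc]; rw [← mul_assoc t t, ht, one_mul]
      _ = _ := by rw [htt t m ht]; exact comm _ (hcj t ht htN m hm) _ hm
  have hinv : ∀ (t : G), t * t = 1 → t ∈ normalizer (M : Set G) → ∀ m ∈ M,
      t * (m * (t * m * t)⁻¹) * t = (m * (t * m * t)⁻¹)⁻¹ := by
    intro t ht htN m hm
    have ht' : t⁻¹ = t := inv_eq_of_mul_eq_one_right ht
    calc t * (m * (t * m * t)⁻¹) * t = (t * m * t) * (t * (t * m * t) * t)⁻¹ := by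
          simp only [mul_inv_rev, ht', mul_assoc]; rw [← mul_assoc t t, ht, one_mul]
      _ = _ := by rw [htt t m ht, mul_inv_rev, inv_inv]
  -- `z` inverts `M`
  have hzinv : ∀ m ∈ M, z * m * z = m⁻¹ := by
    by_contra hno
    let I : Subgroup G :=
      { carrier := {m | m ∈ M ∧ z * m * z = m⁻¹}
        one_mem' := ⟨one_mem M, by rw [mul_one, hzz, inv_one]⟩
        mul_mem' := fun {a b} ha hb => ⟨mul_mem ha.1 hb.1, by
          rw [mul_inv_rev, comm _ (inv_mem hb.1) _ (inv_mem ha.1), ← ha.2, ← hb.2]
          simp only [mul_assoc]; rw [← mul_assoc z z, hzz, one_mul]⟩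
        inv_mem' := fun {a} ha => ⟨inv_mem ha.1, by
          rw [show z * a⁻¹ * z = (z * a * z)⁻¹ by
            rw [mul_inv_rev, mul_inv_rev, inv_eq_of_mul_eq_one_right hzz, mul_assoc], ha.2]⟩ }
    have hIM : I ≤ M := fun m hm => hm.1
    have hI1 : I ≠ ⊥ := by
      intro hb
      apply hnf z hzz hz1
      intro m hm
      have hmem : m * (z * m * z)⁻¹ ∈ I :=
        ⟨mul_mem hm (inv_mem (hcj z hzz hzN m hm)), hinv z hzz hzN m hm⟩
      rw [hb, Subgroup.mem_bot, mul_inv_eq_one] at hmem
      exact hmem.symm
    have hIc : Nat.card I = 3 := by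
      have hd : Nat.card I ∣ 3 ^ 2 := by
        have := Subgroup.card_dvd_of_le hIM
        rwa [hM] at this
      obtain ⟨k, hk, hkc⟩ := (Nat.dvd_prime_pow Nat.prime_three).1 hd
      interval_cases k
      · exact absurd (Subgroup.card_eq_one.1 (by simpa using hkc)) hI1
      · simpa using hkc
      · exfalso
        have he : I = M := Subgroup.eq_of_le_of_card_ge hIM (by rw [hM, hkc]; norm_num)
        exact hno fun m hm => (he.symm ▸ hm : m ∈ I).2
    obtain ⟨g, hg, hg1⟩ := I.bot_or_exists_ne_one.resolve_left hI1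
    have hgo : orderOf g = 3 := by
      have hd : orderOf g ∣ 3 := hIc ▸ Subgroup.orderOf_dvd_natCard I hg
      exact ((Nat.dvd_prime Nat.prime_three).1 hd).resolve_left (by simpa using hg1)
    have hmemI : ∀ t : G, t * t = 1 → t ∈ normalizer (M : Set G) → t * z = z * t →
        t * g * t = g ∨ t * g * t = g⁻¹ := by
      intro t ht htN htz
      have hI' : t * g * t ∈ I := by
        refine ⟨hcj t ht htN g hg.1, ?_⟩
        calc z * (t * g * t) * z = t * (z * g * z) * t := by
              have hzt : z * t = t * z := htz.symm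
              simp only [← mul_assoc, hzt]
              simp only [mul_assoc, htz]
          _ = t * g⁻¹ * t := by rw [hg.2]
          _ = _ := by
              rw [mul_inv_rev, mul_inv_rev, inv_eq_of_mul_eq_one_right ht, mul_assoc]
      have hzp : zpowers g = I := Subgroup.eq_of_le_of_card_ge (zpowers_le.2 hg)
        (by rw [Nat.card_zpowers, hgo, hIc])
      rw [← hzp] at hI'
      obtain ⟨k, hk⟩ := hI'
      change g ^ k = t * g * t at hk
      rw [← zpow_mod_orderOf, hgo] at hk
      obtain h0 | h0 | h0 : k % 3 = 0 ∨ k % 3 = 1 ∨ k % 3 = 2 := by omega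
      · exfalso
        apply hg1
        push_cast at hk
        rw [h0, zpow_zero] at hk
        rw [← htt t g ht, ← hk, mul_one, ht]
      · left; push_cast at hk; rw [h0, zpow_one] at hk; exact hk.symm
      · right
        push_cast at hk
        rw [h0, zpow_ofNat] at hk
        rw [← hk]
        refine eq_inv_of_mul_eq_one_left ?_
        rw [← pow_succ, show (2 : ℕ) + 1 = orderOf g by rw [hgo], pow_orderOf_eq_one]
    have hsz : s * z = z * s := by
      rw [hzT, hs, ← Subgroup.coe_mul, ← Subgroup.coe_mul, ← map_mul, ← map_mul]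
      congr 2
    have hwz : w * z = z * w := by
      rw [hzT, hw, ← Subgroup.coe_mul, ← Subgroup.coe_mul, ← map_mul, ← map_mul]
      congr 2
    have hzg : z * g * z = g := by
      have hr : z * g * z = s * (w * (s * (w * g * w) * s) * w) * s := by
        have hi : z = w * s * w * s := by
          rw [← inv_eq_of_mul_eq_one_right hzz, hz, mul_inv_rev, mul_inv_rev, mul_inv_rev,
            inv_eq_of_mul_eq_one_right hss, inv_eq_of_mul_eq_one_right hww]
          group
        nth_rewrite 2 [hi]
        rw [hz]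
        simp only [mul_assoc]
      have hS := hmemI s hss hsN hsz
      have hW := hmemI w hww hwN hwz
      have hneg : ∀ t : G, t * t = 1 → t * g⁻¹ * t = (t * g * t)⁻¹ := fun t ht => by
        rw [mul_inv_rev, mul_inv_rev, inv_eq_of_mul_eq_one_right ht, mul_assoc]
      rw [hr]
      rcases hS with hS | hS <;> rcases hW with hW | hW <;>
        simp only [hS, hW, hneg s hss, hneg w hww, inv_inv]
    apply hg1
    have h2 : g ^ 2 = 1 := by
      rw [pow_two]
      nth_rewrite 2 [← hzg]
      rw [hg.2, mul_inv_cancel]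
    have := orderOf_dvd_of_pow_eq_one h2
    rw [hgo] at this
    omega
  -- a fixed point of `s`
  obtain ⟨e, he, he1, hse⟩ : ∃ e ∈ M, e ≠ 1 ∧ s * e * s = e := by
    by_contra hno
    push Not at hno
    have hsinv : ∀ m ∈ M, s * m * s = m⁻¹ := by
      intro m hm
      by_contra hm'
      have hmem := mul_mem hm (hcj s hss hsN m hm)
      refine hno _ hmem (fun h => hm' ?_) (hfix s hss hsN m hm)
      exact eq_inv_of_mul_eq_one_right h
    -- then `s * z` centralises `M`
    have hszT : s * z = (eT.symm (DihedralGroup.sr 0 * DihedralGroup.r 2) : G) := by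
      rw [map_mul, Subgroup.coe_mul, hzT]
    have hzs' : (s * z) * (s * z) = 1 := by
      rw [hszT, ← Subgroup.coe_mul, ← map_mul, show (DihedralGroup.sr 0 * DihedralGroup.r 2 :
        DihedralGroup 4) * (DihedralGroup.sr 0 * DihedralGroup.r 2) = 1 by decide, map_one,
        Subgroup.coe_one]
    refine hnf (s * z) hzs' (hszT ▸ hne _ (by decide)) fun m hm => ?_
    have hi : s * z = z * s := by
      rw [hzT, hs, ← Subgroup.coe_mul, ← Subgroup.coe_mul, ← map_mul, ← map_mul]
      congr 2
    nth_rewrite 2 [hi]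
    rw [show s * z * m * (z * s) = s * (z * m * z) * s by simp only [mul_assoc], hzinv m hm,
      hsinv _ (inv_mem hm), inv_inv]
  refine ⟨{ M := M, card_M := hM, index_M := hidx, cent := hcent, ti := hti, card_N := hN,
            s := s, w := w, e := e, s_sq := hss, w_sq := hww, s_mem := hsN, w_mem := hwN,
            e_mem := he, e_ne := he1, se := hse, z_sq := hz ▸ hzz, z_inv := hz ▸ hzinv, se2 := ?_ }, rfl⟩
  have he2 : w * e * w ∈ M := hcj w hww hwN e he
  calc s * (w * e * w) * s = (s * w) * e * (w * s) := by simp only [mul_assoc]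
    _ = z * (w * s) * e * (s * w) * z := by
        have h1 : s * w = z * (w * s) := by
          rw [hz]; simp only [mul_assoc]; rw [← mul_assoc w w, hww, one_mul, hss, mul_one]
        have h2 : w * s = (s * w) * z := by
          calc w * s = (s * w)⁻¹ := by
                rw [mul_inv_rev, inv_eq_of_mul_eq_one_right hss, inv_eq_of_mul_eq_one_right hww]
            _ = (s * w) * z := inv_eq_of_mul_eq_one_right (by rw [← mul_assoc, ← hzz, hz]; group)
        calc s * w * e * (w * s) = z * (w * s) * e * (w * s) := congrArg (fun q => q * e * (w * s)) h1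
          _ = z * (w * s) * e * (s * w * z) := congrArg (fun q => z * (w * s) * e * q) h2
          _ = _ := by simp only [mul_assoc]
    _ = z * (w * e * w) * z := by
        rw [show z * (w * s) * e * (s * w) * z = z * (w * (s * e * s) * w) * z by
          simp only [mul_assoc], hse]
    _ = _ := hzinv _ he2

end Cfsg.Agent.H33.ExcThree
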